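import Cfsg.Agent.Lib.KnownC.RuGroup.Turn
import Cfsg.Agent.Lib.KnownC.RuGroup.GenData

/-!
# Numbers of the images of vectors, and separation by some of them
-/

set_option autoImplicit false
set_option maxRecDepth 100000
set_option maxHeartbeats 0
set_option Elab.async false

namespace CfsgLib.KnownC.RuGroup

open Cfsg.Spor CfsgLib.KnownC.RuLattice

/-- The image of a number from the table of the images of the lines. -/
def actP (T : ℕ → ℕ) (u : ℕ) : ℕ :=
  let b := T (u / 4)
  4 * (b / 4) + (b % 4 + u % 4) % 4

/-- The pattern of a vector against the separating ones. -/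
noncomputable def patK (Q : List ℕ) (u : ℕ) : ℕ :=
  List.rec 0 (fun q _ acc => Nat.add (Nat.mul 64 acc) (Nat.sub (bK u q) 4080)) Q

/-- The pattern against the separating vectors. -/
noncomputable def sigK (u : ℕ) : ℕ := patK sep u

/-- The sorted positions, increasing patterns, in one range. -/
noncomputable def sortK (lo n : ℕ) : Bool :=
  Nat.rec true (fun i ih => cond (Nat.blt (sigK (sortV (lo + i))) (sigK (sortV (lo + i + 1)))) ih false) n

theorem sortK_spec {lo n : ℕ} (h : sortK lo n = true) :
    ∀ i, lo ≤ i → i < lo + n → sigK (sortV i) < sigK (sortV (i + 1)) := by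
  induction n with
  | zero => intro i h1 h2; omega
  | succ n ih =>
    intro i h1 h2
    change cond (Nat.blt (sigK (sortV (lo + n))) (sigK (sortV (lo + n + 1)))) (sortK lo n) false = true at h
    cases hb : Nat.blt (sigK (sortV (lo + n))) (sigK (sortV (lo + n + 1)))
    · rw [hb] at h; simp at h
    · rw [hb] at h
      by_cases hi : i = lo + n
      · subst hi; simpa [Nat.blt_eq] using hb
      · exact ih h i h1 (by omega)

theorem sort0 : sortK 0 2030 = true := by decide +kernel
theorem sort1 : sortK 2030 2030 = true := by decide +kernel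
theorem sort2 : sortK 4060 2030 = true := by decide +kernel
theorem sort3 : sortK 6090 2030 = true := by decide +kernel
theorem sort4 : sortK 8120 2030 = true := by decide +kernel
theorem sort5 : sortK 10150 2030 = true := by decide +kernel
theorem sort6 : sortK 12180 2030 = true := by decide +kernel
theorem sort7 : sortK 14210 2029 = true := by decide +kernel

theorem pos_ok : ((List.range 16240).all fun u => Nat.blt (posV u) 16240 &&
    Nat.beq (sortV (posV u)) u) = true := by decide +kernel

theorem sep_ok : (sep.all fun q => Nat.blt q 16240) = true ∧ (baseV.all fun q => Nat.blt q 16240 && sep.contains q) = true := by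
  decide +kernel

attribute [local irreducible] vecsAt sortV posV sigK dig

theorem sig_step {i : ℕ} (hi : i < 16239) : sigK (sortV i) < sigK (sortV (i + 1)) := by
  rcases lt_or_ge i 2030 with h | h
  · exact sortK_spec sort0 i (by omega) (by omega)
  rcases lt_or_ge i 4060 with h | h
  · exact sortK_spec sort1 i (by omega) (by omega)
  rcases lt_or_ge i 6090 with h | h
  · exact sortK_spec sort2 i (by omega) (by omega)
  rcases lt_or_ge i 8120 with h | h
  · exact sortK_spec sort3 i (by omega) (by omega)
  rcases lt_or_ge i 10150 with h | h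
  · exact sortK_spec sort4 i (by omega) (by omega)
  rcases lt_or_ge i 12180 with h | h
  · exact sortK_spec sort5 i (by omega) (by omega)
  rcases lt_or_ge i 14210 with h | h
  · exact sortK_spec sort6 i (by omega) (by omega)
  exact sortK_spec sort7 i (by omega) (by omega)

theorem sig_lt : ∀ {j i : ℕ}, i < j → j < 16240 → sigK (sortV i) < sigK (sortV j)
  | 0, i, h, _ => absurd h (Nat.not_lt_zero i)
  | j + 1, i, h, hj => by
    have h1 := sig_step (i := j) (by omega)
    rcases lt_or_eq_of_le (Nat.lt_succ_iff.1 h) with h2 | h2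
    · exact lt_trans (sig_lt h2 (by omega)) h1
    · rw [h2]; exact h1

theorem patK_congr {Q : List ℕ} {u v : ℕ} (h : ∀ q ∈ Q, bK u q = bK v q) : patK Q u = patK Q v := by
  induction Q with
  | nil => rfl
  | cons a l ih =>
    show Nat.add (Nat.mul 64 (patK l u)) (Nat.sub (bK u a) 4080) =
      Nat.add (Nat.mul 64 (patK l v)) (Nat.sub (bK v a) 4080)
    rw [ih fun q hq => h q (List.mem_cons_of_mem _ hq), h a List.mem_cons_self]

unseal sigK in
theorem sig_congr {u v : ℕ} (h : ∀ q ∈ sep, bK u q = bK v q) : sigK u = sigK v := patK_congr h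

/-- Vectors with equal products against the separating ones are equal. -/
theorem eq_of_sep {u v : ℕ} (hu : u < 16240) (hv : v < 16240) (h : ∀ q ∈ sep, bK u q = bK v q) : u = v := by
  have hs := sig_congr h
  have hp := pos_ok
  simp only [List.all_eq_true, List.mem_range, Bool.and_eq_true, Nat.blt_eq, Nat.beq_eq] at hp
  obtain ⟨a1, a2⟩ := hp u hu
  obtain ⟨b1, b2⟩ := hp v hv
  rw [← a2, ← b2] at hs
  rcases lt_trichotomy (posV u) (posV v) with h1 | h1 | h1
  · exact absurd hs (sig_lt h1 b1).ne
  · rw [← a2, ← b2, h1]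
  · exact absurd hs (sig_lt h1 a1).ne'

theorem sep_lt {q : ℕ} (hq : q ∈ sep) : q < 16240 := by
  simpa [Nat.blt_eq] using List.all_eq_true.1 sep_ok.1 q hq

theorem bK_congr {u v u' v' : ℕ} (hu : u < 16240) (hv : v < 16240) (hu' : u' < 16240) (hv' : v' < 16240)
    (h : B (vec u) (vec v) = B (vec u') (vec v')) : bK u v = bK u' v' := by
  have h1 := bK_eq hu hv
  have h2 := bK_eq hu' hv'
  omega

theorem B_of_bK {u v u' v' : ℕ} (hu : u < 16240) (hv : v < 16240) (hu' : u' < 16240) (hv' : v' < 16240)
    (h : bK u v = bK u' v') : B (vec u) (vec v) = B (vec u') (vec v') := by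
  have h1 := bK_eq hu hv
  have h2 := bK_eq hu' hv'
  omega

/-- Different numbers give different vectors. -/
theorem vec_inj {u v : ℕ} (hu : u < 16240) (hv : v < 16240) (h : vec u = vec v) : u = v :=
  eq_of_sep hu hv fun q hq => bK_congr hu (sep_lt hq) hv (sep_lt hq) (by rw [h])

theorem trip_shape : ((List.range 4060).all fun l => (List.range 4).all fun k =>
    let t := decode (vecsAt l) k
    Nat.beq (t.2.2 * t.2.2 * (pop t.1 + pop t.2.1)) 16) = true := by decide +kernel

theorem shape_at {u : ℕ} (hu : u < 16240) :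
    (trip u).2.2 * (trip u).2.2 * (pop (trip u).1 + pop (trip u).2.1) = 16 := by
  have h := trip_shape
  simp only [List.all_eq_true, List.mem_range, Nat.beq_eq] at h
  exact h (u / 4) (by omega) (u % 4) (by omega)

/-- All numbered vectors have norm sixteen. -/
theorem B_self {u : ℕ} (hu : u < 16240) : B (vec u) (vec u) = 16 := by
  have h := shape_at hu
  have ht := trip_ok hu
  simp only [tOK, Bool.and_eq_true, Bool.or_eq_true, Nat.beq_eq, Nat.blt_eq] at ht
  obtain ⟨⟨hpn, -⟩, -⟩ := ht
  rw [← (show ((16 : ℕ) : ℤ) = 16 from rfl), ← h, pop_eq, pop_eq, ← Finset.sum_add_distrib, Finset.mul_sum]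
  push_cast
  refine Finset.sum_congr rfl fun i hi => ?_
  rw [co_vec u (Finset.mem_range.1 hi), coT]
  have hd : ¬ ((trip u).1.testBit i = true ∧ (trip u).2.1.testBit i = true) := by
    rintro ⟨e1, e2⟩
    have h1 := congrArg (Nat.testBit · i) hpn
    simp only [show ∀ a b : ℕ, Nat.land a b = a &&& b from fun _ _ => rfl, Nat.testBit_land, Nat.zero_testBit, e1, e2] at h1
    simp at h1
  cases hp : (trip u).1.testBit i <;> cases hn : (trip u).2.1.testBit i <;> simp_all

theorem bK_range {u v : ℕ} (hu : u < 16240) (hv : v < 16240) : 4080 ≤ bK u v ∧ bK u v ≤ 4112 := by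
  have h := bK_eq hu hv
  have ha := B_self hu
  have hb := B_self hv
  simp only [B] at h ha hb
  have h1 : ∑ i ∈ Finset.range 56, 2 * (co (vec u) i * co (vec v) i) ≤
      ∑ i ∈ Finset.range 56, (co (vec u) i * co (vec u) i + co (vec v) i * co (vec v) i) :=
    Finset.sum_le_sum fun i _ => by nlinarith [mul_self_nonneg (co (vec u) i - co (vec v) i)]
  have h2 : ∑ i ∈ Finset.range 56, -(co (vec u) i * co (vec u) i + co (vec v) i * co (vec v) i) ≤
      ∑ i ∈ Finset.range 56, 2 * (co (vec u) i * co (vec v) i) :=
    Finset.sum_le_sum fun i _ => by nlinarith [mul_self_nonneg (co (vec u) i + co (vec v) i)]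
  rw [← Finset.mul_sum, Finset.sum_add_distrib, ha, hb] at h1
  rw [← Finset.mul_sum, Finset.sum_neg_distrib, Finset.sum_add_distrib, ha, hb] at h2
  omega

/-- Equal patterns give equal products. -/
theorem patK_inj : ∀ {Q Q' : List ℕ} {u v : ℕ}, u < 16240 → v < 16240 → Q.length = Q'.length →
    (∀ q ∈ Q, q < 16240) → (∀ q ∈ Q', q < 16240) → patK Q u = patK Q' v →
    ∀ p ∈ Q.zip Q', bK u p.1 = bK v p.2
  | [], Q', u, v, _, _, _, _, _, _ => by simp
  | a :: Q, [], u, v, _, _, hl, _, _, _ => by simp at hl
  | a :: Q, b :: Q', u, v, hu, hv, hl, hQ, hQ', h => by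
    change Nat.add (Nat.mul 64 (patK Q u)) (Nat.sub (bK u a) 4080) =
      Nat.add (Nat.mul 64 (patK Q' v)) (Nat.sub (bK v b) 4080) at h
    simp only [show ∀ x y : ℕ, Nat.add x y = x + y from fun _ _ => rfl,
      show ∀ x y : ℕ, Nat.mul x y = x * y from fun _ _ => rfl,
      show ∀ x y : ℕ, Nat.sub x y = x - y from fun _ _ => rfl] at h
    have h1 := bK_range hu (hQ a List.mem_cons_self)
    have h2 := bK_range hv (hQ' b List.mem_cons_self)
    intro p hp
    rw [List.zip_cons_cons, List.mem_cons] at hp
    rcases hp with rfl | hp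
    · show bK u a = bK v b
      omega
    · exact patK_inj hu hv (by simpa using hl) (fun q hq => hQ q (List.mem_cons_of_mem _ hq))
        (fun q hq => hQ' q (List.mem_cons_of_mem _ hq)) (by omega) p hp

end CfsgLib.KnownC.RuGroup
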