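import Mathlib

/-!
# Counting the bits of numbers below `2 ^ 56` in the kernel
-/

set_option autoImplicit false
set_option maxRecDepth 100000

namespace CfsgLib.KnownC.RuGroup

/-- Bytes of three masks, repeated. -/
def rep (m : ℕ) : ℕ → ℕ
  | 0 => 0
  | n + 1 => m + 256 * rep m n

/-- Three steps of adding neighbouring fields. -/
def swar (a b c x : ℕ) : ℕ :=
  let s := Nat.sub x (Nat.land (Nat.shiftRight x 1) a)
  let t := Nat.add (Nat.land s b) (Nat.land (Nat.shiftRight s 2) b)
  Nat.add (Nat.land t c) (Nat.land (Nat.shiftRight t 4) c)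

/-- The number of ones below position 56. -/
def pop (x : ℕ) : ℕ :=
  Nat.mod (swar 0x55555555555555 0x33333333333333 0xf0f0f0f0f0f0f (Nat.land x 0xffffffffffffff)) 255

/-- The number of ones below position 112. -/
def popD (x : ℕ) : ℕ :=
  Nat.mod (swar 0x5555555555555555555555555555 0x3333333333333333333333333333 0xf0f0f0f0f0f0f0f0f0f0f0f0f0f (Nat.land x 0xffffffffffffffffffffffffffff)) 255

theorem byte_ok : ((List.range 256).all fun b =>
    Nat.ble (Nat.land (Nat.shiftRight b 1) 0x55) b && Nat.blt (Nat.sub b (Nat.land (Nat.shiftRight b 1) 0x55)) 256 &&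
    let s := Nat.sub b (Nat.land (Nat.shiftRight b 1) 0x55)
    Nat.blt (Nat.add (Nat.land s 0x33) (Nat.land (Nat.shiftRight s 2) 0x33)) 256 &&
      Nat.beq (swar 0x55 0x33 0xf b) ((List.range 8).map fun j => (b.testBit j).toNat).sum) = true := by
  decide +kernel

theorem land_step {b y m M s : ℕ} (hb : b < 256) (hs : s ≤ 8) (hm : m < 2 ^ (8 - s)) :
    ((b + 256 * y) >>> s) &&& (m + 256 * M) = ((b >>> s) &&& m) + 256 * ((y >>> s) &&& M) := by
  have hm8 : m < 2 ^ 8 := lt_of_lt_of_le hm (Nat.pow_le_pow_right (by norm_num) (Nat.sub_le _ _))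
  have hb8 : b < 2 ^ 8 := by simpa using hb
  have hl : (b >>> s) &&& m < 2 ^ 8 := lt_of_le_of_lt Nat.and_le_right hm8
  refine Nat.eq_of_testBit_eq fun j => ?_
  rw [show (256 : ℕ) = 2 ^ 8 from rfl, add_comm b, add_comm m, add_comm (_ &&& m), Nat.testBit_two_pow_mul_add _ hl,
    Nat.testBit_land, Nat.testBit_shiftRight, Nat.testBit_two_pow_mul_add _ hb8,
    Nat.testBit_two_pow_mul_add _ hm8]
  by_cases hj : j < 8
  · simp only [hj, if_true, Nat.testBit_land, Nat.testBit_shiftRight]
    by_cases hsj : s + j < 8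
    · simp [hsj]
    · rw [Nat.testBit_lt_two_pow (lt_of_lt_of_le hm (Nat.pow_le_pow_right (by norm_num) (by omega)))]
      simp
  · simp only [hj, if_false, Nat.testBit_land, Nat.testBit_shiftRight]
    rw [if_neg (by omega : ¬ s + j < 8)]
    congr 2
    omega

theorem sum_split (x n : ℕ) :
    ∑ i ∈ Finset.range (8 * (n + 1)), (x.testBit i).toNat =
      ((List.range 8).map fun j => ((x % 256).testBit j).toNat).sum +
        ∑ i ∈ Finset.range (8 * n), ((x / 256).testBit i).toNat := by
  rw [show 8 * (n + 1) = 8 + 8 * n by ring, Finset.sum_range_add]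
  congr 1
  · show _ = (Multiset.map (fun j => ((x % 2 ^ 8).testBit j).toNat) (Multiset.range 8)).sum
    exact Finset.sum_congr rfl fun j hj => by
      rw [Nat.testBit_mod_two_pow]; simp [Finset.mem_range.1 hj]
  · refine Finset.sum_congr rfl fun i _ => ?_
    rw [show x / 256 = x / 2 ^ 8 from rfl, Nat.testBit_div_two_pow, add_comm 8 i]

theorem swar_spec : ∀ n x : ℕ, x < 256 ^ n →
    swar (rep 0x55 n) (rep 0x33 n) (rep 0xf n) x % 255 = (∑ i ∈ Finset.range (8 * n), (x.testBit i).toNat) % 255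
  | 0, x, hx => by
    obtain rfl : x = 0 := by simpa using hx
    rfl
  | n + 1, x, hx => by
    have hb : x % 256 < 256 := Nat.mod_lt _ (by norm_num)
    have hy : x / 256 < 256 ^ n := by rw [Nat.div_lt_iff_lt_mul (by norm_num)]; rwa [pow_succ] at hx
    have ih := swar_spec n _ hy
    have h := byte_ok
    simp only [List.all_eq_true, List.mem_range, Bool.and_eq_true, Nat.ble_eq, Nat.blt_eq, Nat.beq_eq] at h
    obtain ⟨⟨h1, h2⟩, h3, h4⟩ := h _ hb
    rw [sum_split, ← h4]
    set b := x % 256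
    set y := x / 256
    have hxy : x = b + 256 * y := (Nat.mod_add_div x 256).symm
    simp only [swar, rep, show ∀ p q : ℕ, Nat.land p q = p &&& q from fun _ _ => rfl,
      show ∀ p q : ℕ, Nat.shiftRight p q = p >>> q from fun _ _ => rfl,
      show ∀ p q : ℕ, Nat.add p q = p + q from fun _ _ => rfl,
      show ∀ p q : ℕ, Nat.sub p q = p - q from fun _ _ => rfl] at h1 h2 h3 h4 ih ⊢
    rw [hxy, land_step hb (by norm_num) (by norm_num : (85 : ℕ) < 2 ^ (8 - 1))]
    have hsub : (y >>> 1) &&& rep 85 n ≤ y :=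
      le_trans Nat.and_le_left (Nat.shiftRight_le _ _)
    rw [show b + 256 * y - ((b >>> 1 &&& 85) + 256 * (y >>> 1 &&& rep 85 n)) =
      (b - (b >>> 1 &&& 85)) + 256 * (y - (y >>> 1 &&& rep 85 n)) by omega]
    generalize b - (b >>> 1 &&& 85) = s1 at h2 h3 ⊢
    generalize y - (y >>> 1 &&& rep 85 n) = S1 at ih ⊢
    have e0 : (s1 + 256 * S1) &&& (51 + 256 * rep 51 n) = (s1 &&& 51) + 256 * (S1 &&& rep 51 n) := by
      simpa using land_step (s := 0) (y := S1) (M := rep 51 n) h2 (by norm_num) (by norm_num : (51 : ℕ) < 2 ^ (8 - 0))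
    rw [e0, land_step h2 (by norm_num) (by norm_num : (51 : ℕ) < 2 ^ (8 - 2))]
    rw [show (s1 &&& 51) + 256 * (S1 &&& rep 51 n) + ((s1 >>> 2 &&& 51) + 256 * (S1 >>> 2 &&& rep 51 n)) =
      ((s1 &&& 51) + (s1 >>> 2 &&& 51)) + 256 * ((S1 &&& rep 51 n) + (S1 >>> 2 &&& rep 51 n)) by omega]
    generalize (s1 &&& 51) + (s1 >>> 2 &&& 51) = s2 at h3 ⊢
    generalize (S1 &&& rep 51 n) + (S1 >>> 2 &&& rep 51 n) = S2 at ih ⊢
    have e1 : (s2 + 256 * S2) &&& (15 + 256 * rep 15 n) = (s2 &&& 15) + 256 * (S2 &&& rep 15 n) := by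
      simpa using land_step (s := 0) (y := S2) (M := rep 15 n) h3 (by norm_num) (by norm_num : (15 : ℕ) < 2 ^ (8 - 0))
    rw [e1, land_step h3 (by norm_num) (by norm_num : (15 : ℕ) < 2 ^ (8 - 4))]
    omega

theorem bits_le (x n : ℕ) : ∑ i ∈ Finset.range n, (x.testBit i).toNat ≤ n :=
  (Finset.sum_le_sum fun i _ => Bool.toNat_le _).trans (by simp)

theorem pop_eq (x : ℕ) : pop x = ∑ i ∈ Finset.range 56, (x.testBit i).toNat := by
  have h := swar_spec 7 (x &&& 0xffffffffffffff) (lt_of_le_of_lt Nat.and_le_right (by norm_num))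
  rw [Nat.mod_eq_of_lt (lt_of_le_of_lt (bits_le _ _) (by norm_num))] at h
  refine Eq.trans ?_ (h.trans (Finset.sum_congr rfl fun i hi => ?_))
  · rfl
  · rw [show (0xffffffffffffff : ℕ) = 2 ^ 56 - 1 by norm_num, Nat.and_two_pow_sub_one_eq_mod, Nat.testBit_mod_two_pow]
    simp [show i < 56 from Finset.mem_range.1 hi]

theorem popD_eq (x : ℕ) : popD x = ∑ i ∈ Finset.range 112, (x.testBit i).toNat := by
  have h := swar_spec 14 (x &&& 0xffffffffffffffffffffffffffff) (lt_of_le_of_lt Nat.and_le_right (by norm_num))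
  rw [Nat.mod_eq_of_lt (lt_of_le_of_lt (bits_le _ _) (by norm_num))] at h
  refine Eq.trans ?_ (h.trans (Finset.sum_congr rfl fun i hi => ?_))
  · rfl
  · rw [show (0xffffffffffffffffffffffffffff : ℕ) = 2 ^ 112 - 1 by norm_num, Nat.and_two_pow_sub_one_eq_mod, Nat.testBit_mod_two_pow]
    simp [show i < 112 from Finset.mem_range.1 hi]

/-- The digit of a number at a position. -/
def dig (w n i : ℕ) : ℕ := Nat.shiftRight n (Nat.mul w i) % Nat.pow 2 w

/-- A condition holds for all subsets of a list, given by the sums of their members. -/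
noncomputable def allSub (f : ℕ → Bool) (G : List ℕ) : ℕ → Bool :=
  List.rec f (fun g _ ih acc => cond (ih acc) (ih (Nat.xor g acc)) false) G

theorem allSub_spec (f : ℕ → Bool) : ∀ (G : List ℕ) (acc : ℕ), allSub f G acc = true →
    ∀ c : List Bool, c.length = G.length →
      f (((G.zip c).filterMap fun p => if p.2 then some p.1 else none).foldl Nat.xor acc) = true
  | [], acc, h, c, hc => by simp only [allSub] at h; simpa using h
  | g :: r, acc, h, [], hc => by simp at hc
  | g :: r, acc, h, b :: c, hc => by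
    have h : allSub f r acc = true ∧ allSub f r (Nat.xor g acc) = true := by
      have e : allSub f (g :: r) acc = cond (allSub f r acc) (allSub f r (Nat.xor g acc)) false := rfl
      rw [e] at h
      cases h1 : allSub f r acc <;> simp [h1] at h ⊢
      exact h
    cases b
    · simpa using allSub_spec f r acc h.1 c (by simpa using hc)
    · have := allSub_spec f r _ h.2 c (by simpa using hc)
      simpa [Nat.xor_comm] using this

end CfsgLib.KnownC.RuGroup
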