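import Cfsg.Agent.Lib.KnownC.RuGroup.LineCheck

/-!
# Checks for the centraliser of the element of order 14 and the relations of three elements
-/

set_option autoImplicit false
set_option maxRecDepth 100000
set_option maxHeartbeats 0
set_option Elab.async false

namespace CfsgLib.KnownC.RuGroup

/-- The elements commuting with the element of order 14. -/
noncomputable def centA (k i : ℕ) : ℕ := iterF tN (k % 14) (cond (Nat.blt k 14) i (tZ i))

/-- A product of the three elements, the last one corrected. -/
noncomputable def testApp (s k : ℕ) (w : List ℕ) (i : ℕ) : ℕ :=
  List.rec i (fun c _ v => cond (Nat.beq c 0) (iterF tX s v) (cond (Nat.beq c 1) (tN v) (tB (centA k v)))) w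

/-- A power of such a product moves some line. -/
noncomputable def movesK (s k : ℕ) : Bool :=
  testW.any fun e => (List.range 24).any fun i => !(Nat.beq (iterF (testApp s k e.1) e.2 i) i)

theorem wordN : wordRepK wN tN = true := by decide +kernel

theorem wordZ : wordRepK wZ tZ = true := by decide +kernel

theorem wordB : wordRepK wB tB = true := by decide +kernel

theorem relations : ((List.range 4060).all fun i =>
    Nat.beq (tN (tX i)) (iterF tX 4 (tN i)) && Nat.beq (tN (tZ i)) (tZ (tN i)) &&
      Nat.beq (tB (tN i)) (iterF tN 13 (tB i)) && Nat.beq (iterF tN 14 i) i && Nat.beq (tZ (tZ i)) i &&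
      Nat.beq (tB (tB i)) i) = true := by decide +kernel

theorem candN1 : candF tN 14 baseN.1 candN.1 = true := by decide +kernel

theorem candN2 : candF tN 14 baseN.2 candN.2 = true := by decide +kernel

theorem pairN : pairF tN 14 baseN candN centA 28 = true := by decide +kernel

theorem sigNok : sigOK tN 14 baseN sigN = true := by decide +kernel

theorem sepN : sepOK sigN ordN posN = true := by decide +kernel

theorem test_one : (testW.all fun e => (List.range 4060).all fun i => Nat.beq (iterF (testApp 1 0 e.1) e.2 i) i) = true := by
  decide +kernel

theorem test_rest : ((List.range 28).all fun k => (Nat.beq k 0 || movesK 1 k) && movesK 2 k) = true := by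
  decide +kernel

end CfsgLib.KnownC.RuGroup
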