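import Cfsg.Agent.Lib.KnownC.RuGroup.LineCheck

/-!
# Checks for the centraliser of the element of order 29
-/

set_option autoImplicit false
set_option maxRecDepth 100000
set_option maxHeartbeats 0
set_option Elab.async false

namespace CfsgLib.KnownC.RuGroup

theorem candX2 : candF tX 29 baseX.2 candX.2 = true := by decide +kernel

theorem pairX : pairF tX 29 baseX candX (iterF tX) 29 = true := by decide +kernel

theorem sepX : sepOK sigX ordX posX = true := by decide +kernel

end CfsgLib.KnownC.RuGroup
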