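import Cfsg.Agent.Lib.KnownC.RuGroup.CentXA
import Cfsg.Agent.Lib.KnownC.RuGroup.CentXB
import Cfsg.Agent.Lib.KnownC.RuGroup.CentXC

/-!
# Checks for the centraliser of the element of order 29
-/
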