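import Cfsg.Agent.Lib.KnownC.RuGroup.LineCheck

/-!
# Checks for the centraliser of the element of order 29
-/

set_option autoImplicit false
set_option maxRecDepth 100000
set_option maxHeartbeats 0
set_option Elab.async false

namespace CfsgLib.KnownC.RuGroup

theorem wordX : wordRepK wX tX = true := by decide +kernel

theorem candX1 : candF tX 29 baseX.1 candX.1 = true := by decide +kernel

theorem powX : ((List.range 4060).all fun i => Nat.beq (iterF tX 29 i) i) = true ∧ Nat.beq (tX baseX.1) baseX.1 = false := by
  decide +kernel

end CfsgLib.KnownC.RuGroup
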