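import Mathlib

/-!
# The shortest vectors with one non-zero coordinate

Machine-generated.
-/

set_option autoImplicit false
set_option maxRecDepth 100000

namespace CfsgLib.KnownC.RuGroup

/-- Their indices, by coordinate and sign. -/
def singles : List ℕ := [0, 2, 9222, 9220, 13322, 13320, 15374, 15372, 15378, 15376, 15894, 15892, 15898, 15896, 15902, 15900, 15906, 15904, 16166, 16164, 16170, 16168, 16174, 16172, 16178, 16176, 16182, 16180, 16186, 16184, 16190, 16188, 16194, 16192, 16198, 16196, 16202, 16200, 16206, 16204, 16210, 16208, 16214, 16212, 16218, 16216, 16222, 16220, 16226, 16224, 16230, 16228, 16234, 16232, 16238, 16236, 1, 3, 9223, 9221, 13323, 13321, 15375, 15373, 15379, 15377, 15895, 15893, 15899, 15897, 15903, 15901, 15907, 15905, 16167, 16165, 16171, 16169, 16175, 16173, 16179, 16177, 16183, 16181, 16187, 16185, 16191, 16189, 16195, 16193, 16199, 16197, 16203, 16201, 16207, 16205, 16211, 16209, 16215, 16213, 16219, 16217, 16223, 16221, 16227, 16225, 16231, 16229, 16235, 16233, 16239, 16237]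

end CfsgLib.KnownC.RuGroup
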