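import Cfsg.Agent.Lib.KnownC.RuGroup.Vec
import Cfsg.Agent.Lib.KnownC.RuGroup.WordData
import Cfsg.Agent.Lib.KnownC.RuGroup.SingleData

/-!
# Checks on the parities of the lattice and on the signs belonging to short code words
-/

set_option autoImplicit false
set_option maxRecDepth 100000
set_option maxHeartbeats 0
set_option Elab.async false

namespace CfsgLib.KnownC.RuGroup

open CfsgLib.KnownC.RuLattice (parity basis info1 gen1 short)

/-- The exclusive or of a list. -/
def xs (l : List ℕ) : ℕ := l.foldr (fun a b => Nat.xor a b) 0

/-- A list of pairwise different numbers, as a set of bits. -/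
def insK : List ℕ → ℕ × Bool
  | [] => (0, true)
  | a :: l => let r := insK l; (Nat.lor r.1 (Nat.shiftLeft 1 a), r.2 && !Nat.testBit r.1 a)

theorem insK_spec : ∀ l : List ℕ, (insK l).2 = true →
    l.Nodup ∧ ∀ v, (insK l).1.testBit v = true ↔ v ∈ l
  | [], _ => by simp [insK]
  | a :: l, h => by
    simp only [insK, Bool.and_eq_true, Bool.not_eq_true'] at h
    obtain ⟨h1, h2⟩ := insK_spec l h.1
    refine ⟨List.nodup_cons.2 ⟨fun ha => ?_, h1⟩, fun v => ?_⟩
    · rw [(h2 a).2 ha] at h; simp at h
    · simp only [insK]
      rw [show Nat.lor (insK l).1 (Nat.shiftLeft 1 a) = (insK l).1 ||| 1 <<< a from rfl, Nat.testBit_lor,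
        Bool.or_eq_true, h2, Nat.shiftLeft_eq, one_mul, Nat.testBit_two_pow]
      simp [List.mem_cons, eq_comm, or_comm]

/-- Sets of at most two coordinates. -/
def small : List (List ℕ) :=
  [] :: ((List.range 56).map fun i => [i]) ++
    (List.range 56).flatMap fun a => (List.range a).map fun b => [b, a]

/-- The projected syndrome of some coordinates. -/
def synR (h : List ℕ) : ℕ := xs (h.map fun i => colR.getD i 0)

/-- The syndrome of some coordinates. -/
def syn (h : List ℕ) : ℕ := xs (h.map fun i => dig 56 colP i)

/-- The parities of the basis in one number. -/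
def parP : ℕ := 0x39fa65c000000065c39fa0000000fa65c390000000000000000000000000000000000000000000000000f000000f0000000000000000000000000000000000000000000000000f000000f0000000000000000000000000000000000000000000000000f000000f0000000000000000000000000000000000000000000000000f000000f000b6a070046a080017d0b00e8204006a10d006ae0200cb60e00c4601000b6a070046a080017d0b00e8204006a10d006ae0200cb60e00c460107a5a3982c06008f5a15c86a080040895a68c40a0022132fa88204001

/-- The second digits of the basis in one number. -/
def hiP : ℕ := 0xa05c000000000030fa00000000005039000000000000000000000000fa60c000000000c390a00000000065c09000000000000000000000009f000c000000005c000a00000000a6000900000000000000000000007d68888000000014b880800000000e1888800000000000000000000000000000000000000000000000000e1888800000001700000e800000cb00000c4000007d000008200000d0d88880000000a070000a080000d0b0000204000010d0000e0200007d688880000000a098000600800010c800080040005068000a002000177088800000008d60008e000000add888800000004b0880880000005a58000e000000b970000a0000007ab8888000000093b0880e00000054c0800a000000d4e00888000000e9b88088000000f458888800000008280888000000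

/-- The sum of the coordinates of a basis vector on a word, modulo four. -/
def tK (w k : ℕ) : ℕ :=
  (pop (Nat.land w (dig 56 parP k)) + 2 * pop (Nat.land w (dig 56 hiP k))) % 4

/-- The syndrome required by a word. -/
noncomputable def twK (w : ℕ) : ℕ :=
  Nat.rec 0 (fun k acc => cond (Nat.ble 2 (tK w k)) (Nat.lor acc (Nat.shiftLeft 1 k)) acc) 56

/-- The projected syndrome required by a word. -/
noncomputable def twR (w : ℕ) : ℕ :=
  Nat.rec 0 (fun j acc => cond (Nat.ble 2 (tK w (rows.getD j 0))) (Nat.lor acc (Nat.shiftLeft 1 j)) acc) 19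

/-- The members of a word. -/
def suppL (w : ℕ) : List ℕ := (List.range 56).filter fun i => w.testBit i

/-- The mask of some coordinates. -/
def maskL (h : List ℕ) : ℕ := h.foldr (fun i acc => Nat.lor acc (Nat.shiftLeft 1 i)) 0

/-- A test on syndromes that excludes completion. -/
def prune (tw S s : ℕ) : Bool := Nat.beq (pop (Nat.land S (Nat.xor s tw)) % 2) 1

/-- A search through the sets of coordinates. -/
noncomputable def dfs (leaf : ℕ → Bool) (tw : ℕ) (l : List (ℕ × ℕ)) : ℕ → ℕ → Bool :=
  List.rec (fun h _ => leaf h)
    (fun e _ ih h s =>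
      cond (cond (prune tw e.2 s) true (ih h s))
        (cond (prune tw e.2 (Nat.xor s (dig 56 colP e.1))) true
          (ih (Nat.lor h (Nat.shiftLeft 1 e.1)) (Nat.xor s (dig 56 colP e.1)))) false) l

/-- The tests do not concern later coordinates. -/
def statOK : List (ℕ × ℕ) → Bool
  | [] => true
  | e :: r => (r.all fun f => Nat.beq (pop (Nat.land e.2 (dig 56 colP f.1)) % 2) 0) && statOK r

/-- The searching order of an entry. -/
def orderOf' (e : ℕ × ℕ × ℕ × ℕ × ℕ × ℕ) : List (ℕ × ℕ) :=
  (List.range 16).map fun j => (dig 64 e.2.2.2.1 j % 64, Nat.shiftRight (dig 64 e.2.2.2.1 j) 6)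

/-- The vectors of an entry with given signs. -/
def leafK (e : ℕ × ℕ × ℕ × ℕ × ℕ × ℕ) (h : ℕ) : Bool :=
  (List.range e.2.2.2.2.1).any fun j =>
    let t := trip (dig 14 e.2.2.2.2.2 j)
    Nat.blt (dig 14 e.2.2.2.2.2 j) 16240 &&
      (Nat.beq t.1 (Nat.xor e.1 h) && (Nat.beq t.2.1 h && Nat.beq t.2.2 1))

/-- The check of an entry. -/
noncomputable def entryK (e : ℕ × ℕ × ℕ × ℕ × ℕ × ℕ) : Bool :=
  Nat.beq (pop e.1) 16 && Nat.blt e.1 (2 ^ 56) && Nat.beq (twK e.1) e.2.1 &&
    cond (Nat.beq e.2.2.1 0)
      (Nat.beq (maskL ((orderOf' e).map Prod.fst)) e.1 && (statOK (orderOf' e) &&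
        dfs (leafK e) e.2.1 (orderOf' e) 0 0))
      (prune e.2.1 e.2.2.1 0 && (suppL e.1).all fun i => Nat.beq (pop (Nat.land e.2.2.1 (dig 56 colP i)) % 2) 0)

/-- The words are known. -/
noncomputable def known (w : ℕ) : Bool := (bucket.getD (w % 61) []).any fun v => Nat.beq v.1 w

/-- The test on all words. -/
noncomputable def wordK (w : ℕ) : Bool := cond (Nat.blt 16 (pop w)) true (known w)

theorem col_ok : ((List.range 56).all fun k => (List.range 56).all fun i =>
    (dig 56 colP i).testBit k == (parity.getD k 0).testBit i) = true := by decide +kernel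

theorem colR_ok : ((List.range 56).all fun i => Nat.blt (colR.getD i 0) (2 ^ 19) &&
    (List.range 19).all fun j => Nat.blt (rows.getD j 0) 56 &&
      (colR.getD i 0).testBit j == (parity.getD (rows.getD j 0) 0).testBit i) = true := by decide +kernel

theorem hi_ok : ((List.range 56).all fun k => (List.range 56).all fun i =>
    decide ((basis.getD k []).getD i 0 % 4 =
      (if (parity.getD k 0).testBit i then 1 else 0) + 2 * (if (hiBits.getD k 0).testBit i then 1 else 0))) = true := by
  decide +kernel

theorem tab_ok : ((List.range 56).all fun k => Nat.beq (dig 56 parP k) (parity.getD k 0) &&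
    Nat.beq (dig 56 hiP k) (hiBits.getD k 0)) = true := by decide +kernel

theorem small_ok : (insK (small.map synR)).2 = true := by decide +kernel

/-- The set of projected syndromes of small sets. -/
def smallSet : ℕ := (insK (small.map synR)).1

theorem short_ok : (short.all fun w => (suppL w).sublists.all fun h =>
    !Nat.testBit smallSet (Nat.xor (twR w) (synR h))) = true := by decide +kernel

theorem bucket_ok : (bucket.all fun b => b.all fun v =>
    Nat.beq v.1 0 || (short.any fun s => Nat.beq s v.1) ||
      Nat.beq ((wordsC.getD v.2.1 []).getD v.2.2 (0, 0, 0, 0, 0, 0)).1 v.1) = true := by decide +kernel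

theorem singles_ok : ((List.range 56).all fun i => (List.range 2).all fun s =>
    let u := singles.getD (2 * i + s) 16240
    Nat.blt u 16240 && (Nat.beq (if Nat.beq s 0 then (trip u).1 else (trip u).2.1) (Nat.shiftLeft 1 i) &&
      (Nat.beq (if Nat.beq s 0 then (trip u).2.1 else (trip u).1) 0 && Nat.beq (trip u).2.2 4))) = true := by
  decide +kernel

end CfsgLib.KnownC.RuGroup
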