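import Cfsg.Agent.Lib.KnownC.RuGroup.Code

/-!
# The signs on the words of weight sixteen, part 0
-/

set_option autoImplicit false
set_option maxRecDepth 100000
set_option maxHeartbeats 0
set_option Elab.async false

namespace CfsgLib.KnownC.RuGroup

theorem entries0 : words0.all entryK = true := by decide +kernel

theorem entries1 : words1.all entryK = true := by decide +kernel

theorem entries2 : words2.all entryK = true := by decide +kernel

theorem entries3 : words3.all entryK = true := by decide +kernel

theorem entries4 : words4.all entryK = true := by decide +kernel

theorem entries5 : words5.all entryK = true := by decide +kernel

theorem entries6 : words6.all entryK = true := by decide +kernel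

theorem entries7 : words7.all entryK = true := by decide +kernel

theorem entries8 : words8.all entryK = true := by decide +kernel

theorem entries9 : words9.all entryK = true := by decide +kernel

end CfsgLib.KnownC.RuGroup
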