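import Cfsg.Agent.Lib.KnownC.RuGroup.Code

/-!
# The signs on the words of weight sixteen, part 1
-/

set_option autoImplicit false
set_option maxRecDepth 100000
set_option maxHeartbeats 0
set_option Elab.async false

namespace CfsgLib.KnownC.RuGroup

theorem entries10 : words10.all entryK = true := by decide +kernel

theorem entries11 : words11.all entryK = true := by decide +kernel

theorem entries12 : words12.all entryK = true := by decide +kernel

theorem entries13 : words13.all entryK = true := by decide +kernel

theorem entries14 : words14.all entryK = true := by decide +kernel

theorem entries15 : words15.all entryK = true := by decide +kernel

theorem entries16 : words16.all entryK = true := by decide +kernel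

theorem entries17 : words17.all entryK = true := by decide +kernel

theorem entries18 : words18.all entryK = true := by decide +kernel

theorem entries19 : words19.all entryK = true := by decide +kernel

end CfsgLib.KnownC.RuGroup
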