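import Cfsg.Agent.Lib.KnownC.RuGroup.Code

/-!
# The signs on the words of weight sixteen, part 2
-/

set_option autoImplicit false
set_option maxRecDepth 100000
set_option maxHeartbeats 0
set_option Elab.async false

namespace CfsgLib.KnownC.RuGroup

theorem entries20 : words20.all entryK = true := by decide +kernel

theorem entries21 : words21.all entryK = true := by decide +kernel

theorem entries22 : words22.all entryK = true := by decide +kernel

theorem entries23 : words23.all entryK = true := by decide +kernel

theorem entries24 : words24.all entryK = true := by decide +kernel

theorem entries25 : words25.all entryK = true := by decide +kernel

theorem entries26 : words26.all entryK = true := by decide +kernel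

theorem entries27 : words27.all entryK = true := by decide +kernel

theorem entries28 : words28.all entryK = true := by decide +kernel

end CfsgLib.KnownC.RuGroup
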