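import Cfsg.Agent.Lib.KnownC.RuGroup.Mem
import Cfsg.Agent.Lib.KnownC.RuGroup.Code

/-!
# The orbits along the base, as checked lists
-/

set_option autoImplicit false
set_option maxRecDepth 100000
set_option maxHeartbeats 0
set_option Elab.async false

namespace CfsgLib.KnownC.RuGroup

open Cfsg.Spor CfsgLib.KnownC.RuLattice

/-- The generators on lines. -/
def fwdF : ℕ → ℕ → ℕ
  | 0 => fwd0
  | 1 => fwd1
  | 2 => fwd2
  | 3 => fwd3
  | 4 => fwd4
  | 5 => fwd5
  | _ => fwd6

/-- Their inverses. -/
def bwdF : ℕ → ℕ → ℕ
  | 0 => bwd0
  | 1 => bwd1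
  | 2 => bwd2
  | 3 => bwd3
  | 4 => bwd4
  | 5 => bwd5
  | _ => bwd6

/-- The orbits. -/
def orbF : ℕ → ℕ → ℕ
  | 0 => orb0
  | 1 => orb1
  | 2 => orb2
  | 3 => orb3
  | 4 => orb4
  | _ => orb5

/-- The trees. -/
def treeF : ℕ → ℕ → ℕ
  | 0 => tree0
  | 1 => tree1
  | 2 => tree2
  | 3 => tree3
  | 4 => tree4
  | _ => tree5

/-- The numbers of generators fixing the earlier base points. -/
def levelN : List ℕ := [7, 6, 5, 4, 3, 1]

/-- The sizes of the orbits. -/
def levelSize : List ℕ := [16240, 2304, 78, 2, 25, 4]

/-- The base. -/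
def bpt : ℕ → ℕ
  | 0 => 0
  | 1 => 4
  | 2 => 88
  | 3 => 2828
  | 4 => 12
  | _ => 528

/-- The same products with a base point and its multiple. -/
noncomputable def sameB (u w j : ℕ) : Bool :=
  Nat.beq (bK u (bpt j)) (bK w (bpt j)) && Nat.beq (bK u (succU (bpt j))) (bK w (succU (bpt j)))

/-- The same products with the first base points. -/
noncomputable def candK (k u w : ℕ) : Bool := (List.range k).all fun j => sameB u w j

/-- A step of the tree. -/
noncomputable def stepK (k i : ℕ) : Bool :=
  Nat.blt (orbF k i) 16240 &&
    cond (Nat.beq i 0) (Nat.beq (orbF k i) (bpt k))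
      (Nat.blt (treeF k i / 8) i && Nat.blt (treeF k i % 8) (levelN.getD k 0) &&
        Nat.beq (orbF k i) (actP (fwdF (treeF k i % 8)) (orbF k (treeF k i / 8))))

/-- The orbit as a set of bits. -/
def orbBits (k : ℕ) : ℕ × Bool := insK ((List.range (levelSize.getD k 0)).map (orbF k))

/-- The checks on a level. -/
noncomputable def levelK (k : ℕ) : Bool :=
  ((List.range (levelN.getD k 0)).all fun j => (List.range k).all fun m =>
    Nat.beq (actP (fwdF j) (bpt m)) (bpt m)) &&
  ((List.range (levelSize.getD k 0)).all fun i => stepK k i)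

theorem level0 : levelK 0 = true := by decide +kernel
theorem level1 : levelK 1 = true := by decide +kernel
theorem level2 : levelK 2 = true := by decide +kernel
theorem level3 : levelK 3 = true := by decide +kernel
theorem level4 : levelK 4 = true := by decide +kernel
theorem level5 : levelK 5 = true := by decide +kernel

theorem pos0 : ((List.range 16240).all fun i => Nat.beq (dig 1 (orbBits 0).1 i) 1) = true ∧ (orbBits 0).2 = true := by
  decide +kernel

theorem cand1 : (orbBits 1).2 = true ∧
    ((List.range 16240).all fun u => !(candK 1 u (bpt 1)) || Nat.testBit (orbBits 1).1 u) = true := by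
  decide +kernel

theorem cand2 : (orbBits 2).2 = true ∧
    ((List.range 16240).all fun u => !(candK 2 u (bpt 2)) || Nat.testBit (orbBits 2).1 u) = true := by
  decide +kernel

theorem cand3 : (orbBits 3).2 = true ∧
    ((List.range 16240).all fun u => !(candK 3 u (bpt 3)) || Nat.testBit (orbBits 3).1 u) = true := by
  decide +kernel

theorem cand4 : (orbBits 4).2 = true ∧
    ((List.range 16240).all fun u => !(candK 4 u (bpt 4)) || Nat.testBit (orbBits 4).1 u) = true := by
  decide +kernel

theorem cand5 : (orbBits 5).2 = true ∧
    ((List.range 16240).all fun u => !(candK 5 u (bpt 5)) || Nat.testBit (orbBits 5).1 u) = true := by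
  decide +kernel

theorem fix_six : ((sep.take 14).all fun q => (List.range 16240).all fun u =>
    !(candK 6 u q) || Nat.beq u q) = true := by decide +kernel

theorem sep_halves : ((sep.drop 14).all fun q => (sep.take 14).any fun p => Nat.beq (succU p) q) = true ∧
    (List.range 6).all (fun j => Nat.blt (bpt j) 16240) = true := by decide +kernel

theorem base_mem : memT (trip 0) = true := by decide +kernel

theorem center_fix : ((List.range 16240).all fun u =>
    Nat.beq (u / 4) 0 || !((List.range 6).all fun j => Nat.beq (actP (fwdF j) u) u)) = true := by decide +kernel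

theorem line_cand : ((List.range 6).all fun k => Nat.beq k 0 || (List.range 4).all fun c =>
    !(candK k (4 * (bpt k / 4) + c) (bpt k)) || Nat.beq (4 * (bpt k / 4) + c) (bpt k)) = true := by decide +kernel

theorem levels_ok (k : ℕ) (hk : k < 6) : levelK k = true := by
  interval_cases k
  exacts [level0, level1, level2, level3, level4, level5]

end CfsgLib.KnownC.RuGroup
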