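import Cfsg.Agent.Lib.KnownC.RuGroup.PermCheck

/-!
# The checks on the generators, part 1
-/

set_option autoImplicit false
set_option maxRecDepth 100000
set_option maxHeartbeats 0
set_option Elab.async false

namespace CfsgLib.KnownC.RuGroup

theorem mapB3 : mapK bwd3 fwd3 = true := by decide +kernel

theorem mapF3 : mapK fwd3 bwd3 = true := by decide +kernel

theorem perm3 : permK fwd3 bwd3 = true := by decide +kernel

theorem lineA3 : lineK fwd3 0 2030 = true := by decide +kernel

theorem lineB3 : lineK fwd3 2030 2030 = true := by decide +kernel

theorem good3 : PermGood fwd3 bwd3 := permGood_of mapB3 mapF3 perm3 lineA3 lineB3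

theorem mapB4 : mapK bwd4 fwd4 = true := by decide +kernel

theorem mapF4 : mapK fwd4 bwd4 = true := by decide +kernel

theorem perm4 : permK fwd4 bwd4 = true := by decide +kernel

theorem lineA4 : lineK fwd4 0 2030 = true := by decide +kernel

theorem lineB4 : lineK fwd4 2030 2030 = true := by decide +kernel

theorem good4 : PermGood fwd4 bwd4 := permGood_of mapB4 mapF4 perm4 lineA4 lineB4

end CfsgLib.KnownC.RuGroup
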