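import Cfsg.Agent.Lib.KnownC.RuGroup.PermCheck

/-!
# The checks on the generators, part 2
-/

set_option autoImplicit false
set_option maxRecDepth 100000
set_option maxHeartbeats 0
set_option Elab.async false

namespace CfsgLib.KnownC.RuGroup

theorem mapB5 : mapK bwd5 fwd5 = true := by decide +kernel

theorem mapF5 : mapK fwd5 bwd5 = true := by decide +kernel

theorem perm5 : permK fwd5 bwd5 = true := by decide +kernel

theorem lineA5 : lineK fwd5 0 2030 = true := by decide +kernel

theorem lineB5 : lineK fwd5 2030 2030 = true := by decide +kernel

theorem good5 : PermGood fwd5 bwd5 := permGood_of mapB5 mapF5 perm5 lineA5 lineB5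

theorem mapB6 : mapK bwd6 fwd6 = true := by decide +kernel

theorem mapF6 : mapK fwd6 bwd6 = true := by decide +kernel

theorem perm6 : permK fwd6 bwd6 = true := by decide +kernel

theorem lineA6 : lineK fwd6 0 2030 = true := by decide +kernel

theorem lineB6 : lineK fwd6 2030 2030 = true := by decide +kernel

theorem good6 : PermGood fwd6 bwd6 := permGood_of mapB6 mapF6 perm6 lineA6 lineB6

end CfsgLib.KnownC.RuGroup
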