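import Cfsg.Agent.Lib.KnownC.RuGroup.Perm0
import Cfsg.Agent.Lib.KnownC.RuGroup.Perm1
import Cfsg.Agent.Lib.KnownC.RuGroup.Perm2
import Cfsg.Agent.Lib.KnownC.RuGroup.Orbits

/-!
# Seven automorphisms and the action on the shortest vectors
-/

set_option autoImplicit false
set_option maxRecDepth 100000
set_option maxHeartbeats 0

namespace CfsgLib.KnownC.RuGroup

open Cfsg.Spor CfsgLib.KnownC.RuLattice

attribute [local irreducible] vecsAt sortV posV sep unitV fwd0 fwd1 fwd2 fwd3 fwd4 fwd5 fwd6 bwd0 bwd1 bwd2 bwd3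
  bwd4 bwd5 bwd6 orb0 orb1 orb2 orb3 orb4 orb5 tree0 tree1 tree2 tree3 tree4 tree5

theorem perm_good (j : ℕ) : PermGood (fwdF j) (bwdF j) := by
  match j with
  | 0 => exact good0
  | 1 => exact good1
  | 2 => exact good2
  | 3 => exact good3
  | 4 => exact good4
  | 5 => exact good5
  | j + 6 => exact good6

theorem bpt_lt (k : ℕ) : bpt k < 16240 := by
  unfold bpt; split <;> norm_num

theorem orb0_step {i : ℕ} (hi : i < 16240) : orb0 i < 16240 ∧
    ((i = 0 ∧ orb0 i = 0) ∨ (tree0 i / 8 < i ∧ tree0 i % 8 < 7 ∧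
      orb0 i = actP (fwdF (tree0 i % 8)) (orb0 (tree0 i / 8)))) := by
  have h := level0
  simp only [levelK, Bool.and_eq_true, List.all_eq_true, List.mem_range] at h
  have h1 := h.2 i (show i < levelSize.getD 0 0 from hi)
  simp only [stepK, Bool.and_eq_true, Nat.blt_eq] at h1
  obtain ⟨h2, h3⟩ := h1
  refine ⟨h2, ?_⟩
  by_cases h0 : i = 0
  · left
    subst h0
    simp only [Nat.beq_refl, cond_true, Nat.beq_eq] at h3
    exact ⟨rfl, h3⟩
  · right
    rw [show Nat.beq i 0 = false from Bool.eq_false_iff.2 (fun h => h0 (Nat.eq_of_beq_eq_true h))] at h3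
    simp only [cond_false, Bool.and_eq_true, Nat.blt_eq, Nat.beq_eq] at h3
    exact ⟨h3.1.1, h3.1.2, h3.2⟩

theorem orb0_mem : ∀ i < 16240, vec (orb0 i) ∈ M := by
  intro i
  induction i using Nat.strong_induction_on with
  | _ i ih =>
    intro hi
    rcases (orb0_step hi).2 with ⟨-, e⟩ | ⟨hlt, -, e⟩
    · rw [e]; exact vec_mem_of_memT (by norm_num) base_mem
    · have hm := ih _ hlt (by omega)
      rw [e, ← (perm_good _).lin_vec (orb0_step (by omega)).1 hm]
      exact (perm_good _).map.lin_mem hm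

theorem orb0_onto {u : ℕ} (hu : u < 16240) : ∃ i < 16240, orb0 i = u := by
  obtain ⟨h1, h2⟩ := pos0
  have h3 := List.all_eq_true.1 h1 u (List.mem_range.2 hu)
  rw [Nat.beq_eq, dig, show Nat.mul 1 u = 1 * u from rfl, one_mul,
    show Nat.shiftRight (orbBits 0).1 u = (orbBits 0).1 >>> u from rfl, show Nat.pow 2 1 = 2 from rfl] at h3
  have h4 : (orbBits 0).1.testBit u = true := by
    rw [Nat.testBit, Nat.one_and_eq_mod_two, h3]; rfl
  obtain ⟨i, hi, e⟩ := List.mem_map.1 ((insK_spec _ h2).2 u |>.1 h4)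
  exact ⟨i, List.mem_range.1 hi, e⟩

/-- Every numbered vector is in the lattice. -/
theorem vec_mem {u : ℕ} (hu : u < 16240) : vec u ∈ M := by
  obtain ⟨i, hi, rfl⟩ := orb0_onto hu
  exact orb0_mem i hi

/-- The lattice vector with a number. -/
noncomputable def pt (u : Fin 16240) : ruLattice := ⟨vec u, mem_iff.2 (vec_mem u.2)⟩

theorem gI_mem {x : RuVec} (hx : x ∈ M) : gI • x ∈ M := mem_M (gI_smul_mem_ruLattice (mem_iff.2 hx))

theorem B_map (g : fourRu) (v w : ruLattice) :
    B (((g : Equiv.Perm ruLattice) v : ruLattice) : RuVec) (((g : Equiv.Perm ruLattice) w : ruLattice) : RuVec) =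
      B (v : RuVec) (w : RuVec) := by
  obtain ⟨hadd, -, hn⟩ := g.2
  have hB : ∀ z : ruLattice, B (((g : Equiv.Perm ruLattice) z : ruLattice) : RuVec)
      (((g : Equiv.Perm ruLattice) z : ruLattice) : RuVec) = B (z : RuVec) (z : RuVec) := fun z => by
    have := hn z
    rw [norm_eq, norm_eq] at this
    simpa [B, sq] using this
  have h := hB (v + w)
  rw [hadd] at h
  simp only [AddSubgroup.coe_add, B_add, B_comm _ ((_ : RuVec) + _)] at h
  have h1 := hB v
  have h2 := hB w
  have h3 := B_comm (((g : Equiv.Perm ruLattice) v : ruLattice) : RuVec) (((g : Equiv.Perm ruLattice) w : ruLattice) : RuVec)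
  have h4 := B_comm (v : RuVec) (w : RuVec)
  omega

theorem image_exists (g : fourRu) (u : Fin 16240) :
    ∃ v : Fin 16240, (g : Equiv.Perm ruLattice) (pt u) = pt v := by
  obtain ⟨a, ha, e⟩ := exists_vec (mem_M ((g : Equiv.Perm ruLattice) (pt u)).2)
    (by rw [B_map g (pt u) (pt u)]; exact B_self u.2)
  exact ⟨⟨a, ha⟩, Subtype.ext e⟩

/-- The image of a number. -/
noncomputable def img (g : fourRu) (u : Fin 16240) : Fin 16240 := (image_exists g u).choose

theorem img_spec (g : fourRu) (u : Fin 16240) : (g : Equiv.Perm ruLattice) (pt u) = pt (img g u) :=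
  (image_exists g u).choose_spec

theorem pt_inj {u v : Fin 16240} (h : pt u = pt v) : u = v :=
  Fin.ext (vec_inj u.2 v.2 (congrArg Subtype.val h))

theorem img_eq {g : fourRu} {u v : Fin 16240} (h : (g : Equiv.Perm ruLattice) (pt u) = pt v) : img g u = v :=
  pt_inj ((img_spec g u).symm.trans h)

theorem img_mul (g h : fourRu) (u : Fin 16240) : img (g * h) u = img g (img h u) :=
  img_eq (by
    show (g : Equiv.Perm ruLattice) ((h : Equiv.Perm ruLattice) (pt u)) = _
    rw [img_spec, img_spec])

theorem img_one (u : Fin 16240) : img 1 u = u := img_eq rfl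

/-- The action on the numbers of the shortest vectors. -/
noncomputable def act : fourRu →* Equiv.Perm (Fin 16240) where
  toFun g :=
    { toFun := img g
      invFun := img g⁻¹
      left_inv := fun u => by rw [← img_mul, inv_mul_cancel, img_one]
      right_inv := fun u => by rw [← img_mul, mul_inv_cancel, img_one] }
  map_one' := Equiv.ext img_one
  map_mul' g h := Equiv.ext fun u => img_mul g h u

theorem act_apply (g : fourRu) (u : Fin 16240) : act g u = img g u := rfl

/-- One of the seven automorphisms. -/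
noncomputable def gen (j : ℕ) : fourRu := ((perm_good j).map.exists_auto (perm_good j).inv_map).choose

theorem gen_spec (j : ℕ) (v : ruLattice) :
    (((gen j : Equiv.Perm ruLattice) v : ruLattice) : RuVec) = lin (bwdF j) (v : RuVec) :=
  ((perm_good j).map.exists_auto (perm_good j).inv_map).choose_spec v

theorem act_gen (j : ℕ) (u : Fin 16240) : (act (gen j) u : ℕ) = actP (fwdF j) u := by
  have e : img (gen j) u = ⟨_, (perm_good j).fwd_lt u.2⟩ := img_eq (Subtype.ext (by
    rw [gen_spec]
    exact (perm_good j).lin_vec u.2 (vec_mem u.2)))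
  rw [act_apply, e]

/-- The next multiple as a number below 16240. -/
def succF (u : Fin 16240) : Fin 16240 := ⟨succU u, succU_lt u.2⟩

theorem pt_succ (u : Fin 16240) : pt (succF u) = ruI (pt u) := Subtype.ext (vec_succ u.2)

theorem act_succ (g : fourRu) (u : Fin 16240) : act g (succF u) = succF (act g u) := by
  refine img_eq ?_
  rw [pt_succ, g.2.2.1, act_apply, img_spec, ← pt_succ]

theorem act_bK (g : fourRu) (u v : Fin 16240) : bK (act g u) (act g v) = bK u v := by
  refine bK_congr (Fin.is_lt _) (Fin.is_lt _) u.2 v.2 ?_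
  have h := B_map g (pt u) (pt v)
  rw [img_spec, img_spec] at h
  exact h

theorem act_injective : Function.Injective act := by
  intro g h e
  have he : ∀ u : Fin 16240, (g : Equiv.Perm ruLattice) (pt u) = (h : Equiv.Perm ruLattice) (pt u) := fun u => by
    rw [img_spec, img_spec, ← act_apply, ← act_apply, e]
  let φ : fourRu → (ruLattice →+ ruLattice) := fun f => AddMonoidHom.mk' (f : Equiv.Perm ruLattice) f.2.1
  refine Subtype.ext (Equiv.ext fun v => ?_)
  have key : ∀ x ∈ spanned, ∀ hx : x ∈ ruLattice, φ g ⟨x, hx⟩ = φ h ⟨x, hx⟩ := by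
    intro x hx
    induction hx using AddSubgroup.closure_induction with
    | mem y hy =>
      obtain ⟨u, hu, rfl⟩ := hy
      exact fun hy => he ⟨u, by
        have h := List.getElem_of_mem hu
        obtain ⟨k, hk, rfl⟩ := h
        have h := List.all_eq_true.1 span_idx_ok.2 k (List.mem_range.2 (span_idx_ok.1 ▸ hk))
        simp only [Bool.and_eq_true, Nat.blt_eq] at h
        rw [List.getD_eq_getElem _ _ hk] at h
        exact h.1⟩
    | zero => intro _; exact (φ g).map_zero.trans (φ h).map_zero.symm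
    | add a b ha hb iha ihb =>
      intro _
      have ma : a ∈ ruLattice := mem_iff.2 (spanned_le ha)
      have mb : b ∈ ruLattice := mem_iff.2 (spanned_le hb)
      show φ g (⟨a, ma⟩ + ⟨b, mb⟩) = φ h (⟨a, ma⟩ + ⟨b, mb⟩)
      rw [map_add, map_add, iha ma, ihb mb]
    | neg a ha iha =>
      intro _
      have ma : a ∈ ruLattice := mem_iff.2 (spanned_le ha)
      show φ g (-⟨a, ma⟩) = φ h (-⟨a, ma⟩)
      rw [map_neg, map_neg, iha ma]
  exact key v (mem_spanned (mem_M v.2)) v.2
where
  spanned_le {x : RuVec} (hx : x ∈ spanned) : x ∈ M := by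
    refine (AddSubgroup.closure_le M).2 ?_ hx
    rintro _ ⟨u, hu, rfl⟩
    exact span_mem hu

end CfsgLib.KnownC.RuGroup
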