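import Cfsg.Agent.Lib.KnownC.RuGroup.Lines
import Cfsg.Agent.Lib.KnownC.RuGroup.LineData

/-!
# Checks on permutations of the lines given by functions
-/

set_option autoImplicit false
set_option maxRecDepth 100000
set_option maxHeartbeats 0

namespace CfsgLib.KnownC.RuGroup

open Cfsg.Spor CfsgLib.KnownC.RuLattice

/-- A function gives a permutation of the lines. -/
def RepF (t : ℕ → ℕ) (p : Equiv.Perm (Fin 4060)) : Prop := ∀ i : Fin 4060, t i = (p i : ℕ)

theorem RepF.inj {t : ℕ → ℕ} {p q : Equiv.Perm (Fin 4060)} (hp : RepF t p) (hq : RepF t q) : p = q :=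
  Equiv.ext fun i => Fin.ext ((hp i).symm.trans (hq i))

theorem RepF.comp {s t : ℕ → ℕ} {p q : Equiv.Perm (Fin 4060)} (hp : RepF s p) (hq : RepF t q) :
    RepF (fun i => s (t i)) (p * q) := fun i => by
  show s (t i) = _
  rw [hq i, hp (q i), Equiv.Perm.mul_apply]

/-- A function iterated. -/
noncomputable def iterF (t : ℕ → ℕ) (k i : ℕ) : ℕ := Nat.rec i (fun _ v => t v) k

theorem RepF.iter {t : ℕ → ℕ} {p : Equiv.Perm (Fin 4060)} (hp : RepF t p) :
    ∀ k, RepF (iterF t k) (p ^ k)
  | 0, i => by simp [iterF]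
  | k + 1, i => by
    show t (iterF t k i) = _
    rw [hp.iter k i, hp ((p ^ k) i), pow_succ', Equiv.Perm.mul_apply]

/-- Image of a line under a word in the generators. -/
noncomputable def appW (w : List ℕ) (i : ℕ) : ℕ := List.rec i (fun j _ v => fwdF j v / 4) w

/-- The word as an automorphism of the lattice. -/
noncomputable def wordG (w : List ℕ) : fourRu := (w.map gen).prod

theorem appW_spec : ∀ (w : List ℕ) (i : Fin 4060), appW w i = (lineAct (wordG w) i : ℕ)
  | [], i => by simp [appW, wordG]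
  | j :: w, i => by
    show fwdF j (appW w i) / 4 = _
    rw [appW_spec w i, ← lineAct_gen, show wordG (j :: w) = gen j * wordG w from List.prod_cons, map_mul,
      Equiv.Perm.mul_apply]

/-- A word gives a function. -/
noncomputable def wordRepK (w : List ℕ) (t : ℕ → ℕ) : Bool :=
  (List.range 4060).all fun i => Nat.beq (appW w i) (t i)

theorem repF_word {w : List ℕ} {t : ℕ → ℕ} (h : wordRepK w t = true) : RepF t (lineAct (wordG w)) := fun i => by
  rw [← appW_spec w i]
  exact (Nat.eq_of_beq_eq_true (List.all_eq_true.1 h i (List.mem_range.2 i.2))).symm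

/-- Orthogonality of lines. -/
noncomputable def orthK (l m : ℕ) : Bool :=
  Nat.beq (bK (4 * l) (4 * m)) 4096 && Nat.beq (bK (4 * l) (succU (4 * m))) 4096

/-- Orthogonality of the vectors. -/
def Orth (u v : Fin 16240) : Prop := B (vec u) (vec v) = 0 ∧ B (vec u) (gI • vec v) = 0

theorem Orth.symm {u v : Fin 16240} (h : Orth u v) : Orth v u := by
  refine ⟨by rw [B_comm]; exact h.1, ?_⟩
  rw [B_comm, B_gI, h.2, neg_zero]

theorem Orth.succ_right {u v : Fin 16240} (h : Orth u v) : Orth u (succF v) := by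
  show B (vec u) (vec (succU v)) = 0 ∧ B (vec u) (gI • vec (succU v)) = 0
  rw [vec_succ v.2, gI_gI, B_neg_right, h.1, neg_zero]
  exact ⟨h.2, rfl⟩

theorem Orth.pow_right {u v : Fin 16240} (h : Orth u v) : ∀ k : ℕ, Orth u (succF^[k] v)
  | 0 => h
  | k + 1 => by rw [Function.iterate_succ', Function.comp_apply]; exact (h.pow_right k).succ_right

theorem Orth.of_lines {u v u' v' : Fin 16240} (h : Orth u v) (hu : lineOf u = lineOf u')
    (hv : lineOf v = lineOf v') : Orth u' v' := by
  obtain ⟨k, -, rfl⟩ := exists_pow hv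
  obtain ⟨m, -, rfl⟩ := exists_pow hu
  exact (((h.pow_right k).symm).pow_right m).symm

theorem orthK_iff (l m : Fin 4060) : orthK l m = true ↔ Orth (repOf l) (repOf m) := by
  have h1 := bK_eq (repOf l).2 (repOf m).2
  have h2 := bK_eq (repOf l).2 (succF (repOf m)).2
  rw [show ((succF (repOf m) : Fin 16240) : ℕ) = succU (repOf m : ℕ) from rfl, vec_succ (repOf m).2] at h2
  simp only [orthK, Bool.and_eq_true, Nat.beq_eq, Orth]
  show bK (repOf l : ℕ) (repOf m : ℕ) = 4096 ∧ bK (repOf l : ℕ) (succU (repOf m : ℕ)) = 4096 ↔ _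
  omega

/-- Preserving orthogonality. -/
def Pres (p : Equiv.Perm (Fin 4060)) : Prop := ∀ l m : Fin 4060, orthK (p l) (p m) = orthK l m

theorem pres_lineAct (g : fourRu) : Pres (lineAct g) := by
  have key : ∀ (g : fourRu) (l m : Fin 4060), orthK l m = true →
      orthK (lineAct g l) (lineAct g m) = true := by
    intro g l m h
    rw [orthK_iff] at h ⊢
    have hg : Orth (act g (repOf l)) (act g (repOf m)) := by
      have e1 := B_map g (pt (repOf l)) (pt (repOf m))
      have e2 := B_map g (pt (repOf l)) (pt (succF (repOf m)))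
      rw [img_spec, img_spec] at e1 e2
      rw [← act_apply, ← act_apply, act_succ] at e2
      change B (vec (act g (repOf l))) (vec (succU (act g (repOf m) : ℕ))) = B (vec (repOf l)) (vec (succU (repOf m : ℕ))) at e2
      rw [vec_succ (Fin.is_lt _), vec_succ (Fin.is_lt _)] at e2
      exact ⟨e1.trans h.1, e2.trans h.2⟩
    exact hg.of_lines (lineOf_repOf _).symm (lineOf_repOf _).symm
  intro l m
  cases h : orthK l m
  · by_contra hc
    rw [Bool.not_eq_false] at hc
    have := key g⁻¹ _ _ hc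
    rw [map_inv] at this
    simp only [Equiv.Perm.inv_def, Equiv.symm_apply_apply] at this
    rw [h] at this
    exact Bool.false_ne_true this
  · exact key g l m h

/-- The pattern of a line against an orbit. -/
noncomputable def crossF (t : ℕ → ℕ) (o e : ℕ) : ℕ → ℕ :=
  Nat.rec (fun _ => 0) (fun _ ih m => Nat.add (cond (orthK e m) 1 0) (Nat.mul 2 (ih (t m)))) o

theorem cross_eq {t : ℕ → ℕ} {g c : Equiv.Perm (Fin 4060)} (ht : RepF t g) (hc : Pres c) (hcg : Commute c g)
    (e : Fin 4060) : ∀ (o : ℕ) (m : Fin 4060), crossF t o (c e) (c m) = crossF t o e m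
  | 0, _ => rfl
  | o + 1, m => by
    show Nat.add (cond (orthK (c e) (c m)) 1 0) (Nat.mul 2 (crossF t o (c e) (t (c m)))) =
      Nat.add (cond (orthK e m) 1 0) (Nat.mul 2 (crossF t o e (t m)))
    have hgc : g (c m) = c (g m) := by
      have := DFunLike.congr_fun hcg.eq m
      simp only [Equiv.Perm.mul_apply] at this
      exact this.symm
    rw [hc e m, ht (c m), hgc, ht m, cross_eq ht hc hcg e o (g m)]

/-- The candidates contain all lines with the pattern of a base point. -/
noncomputable def candF (t : ℕ → ℕ) (o e : ℕ) (L : List ℕ) : Bool :=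
  (List.range 4060).all fun y => !(Nat.beq (crossF t o y y) (crossF t o e e)) || L.any fun v => Nat.beq v y

/-- The consistent pairs of candidates are allowed. -/
noncomputable def pairF (t : ℕ → ℕ) (o : ℕ) (e : ℕ × ℕ) (C : List ℕ × List ℕ) (A : ℕ → ℕ → ℕ) (n : ℕ) : Bool :=
  C.1.all fun y1 => C.2.all fun y2 => !(Nat.beq (crossF t o y1 y2) (crossF t o e.1 e.2)) ||
    (List.range n).any fun k => Nat.beq (A k e.1) y1 && Nat.beq (A k e.2) y2

/-- The stored patterns are right. -/
noncomputable def sigOK (t : ℕ → ℕ) (o : ℕ) (e : ℕ × ℕ) (sig : ℕ → ℕ) : Bool :=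
  (List.range 4060).all fun l =>
    Nat.beq (sig l) (Nat.add (crossF t o l e.1) (Nat.mul (2 ^ o) (crossF t o l e.2)))

/-- The patterns are different. -/
noncomputable def sepOK (sig ord pos : ℕ → ℕ) : Bool :=
  ((List.range 4059).all fun i => Nat.blt (sig (ord i)) (sig (ord (i + 1)))) &&
    (List.range 4060).all fun l => Nat.blt (pos l) 4060 && Nat.beq (ord (pos l)) l

theorem sep_inj {sig ord pos : ℕ → ℕ} (h : sepOK sig ord pos = true) {l m : ℕ} (hl : l < 4060) (hm : m < 4060)
    (e : sig l = sig m) : l = m := by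
  simp only [sepOK, Bool.and_eq_true, List.all_eq_true, List.mem_range, Nat.blt_eq, Nat.beq_eq] at h
  have mono : ∀ j i, i < j → j < 4060 → sig (ord i) < sig (ord j) := by
    intro j
    induction j with
    | zero => intro i hi; omega
    | succ j ih =>
      intro i hi hj
      rcases lt_or_eq_of_le (Nat.lt_succ_iff.1 hi) with h2 | h2
      · exact lt_trans (ih i h2 (by omega)) (h.1 j (by omega))
      · exact h2 ▸ h.1 j (by omega)
  obtain ⟨a1, a2⟩ := h.2 l hl
  obtain ⟨b1, b2⟩ := h.2 m hm
  rw [← a2, ← b2] at e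
  rcases lt_trichotomy (pos l) (pos m) with h1 | h1 | h1
  · exact absurd e (mono _ _ h1 b1).ne
  · rw [← a2, ← b2, h1]
  · exact absurd e (mono _ _ h1 a1).ne'

/-- The permutations commuting with the given one are the listed ones. -/
theorem cent_spec {t sig ord pos : ℕ → ℕ} {o : ℕ} {e : ℕ × ℕ} {C : List ℕ × List ℕ} {A : ℕ → ℕ → ℕ} {n : ℕ}
    (he : e.1 < 4060 ∧ e.2 < 4060)
    (h1 : candF t o e.1 C.1 = true) (h2 : candF t o e.2 C.2 = true) (h3 : pairF t o e C A n = true)
    (h4 : sigOK t o e sig = true) (h5 : sepOK sig ord pos = true)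
    {g : Equiv.Perm (Fin 4060)} (ht : RepF t g) (el : ℕ → Equiv.Perm (Fin 4060))
    (hA : ∀ k < n, RepF (A k) (el k)) (hpres : ∀ k < n, Pres (el k)) (hcomm : ∀ k < n, Commute (el k) g)
    {c : Equiv.Perm (Fin 4060)} (hc : Pres c) (hcg : Commute c g) : ∃ k < n, c = el k := by
  let a : Fin 4060 := ⟨e.1, he.1⟩
  let b : Fin 4060 := ⟨e.2, he.2⟩
  have hmem : ∀ (p : Fin 4060) (L : List ℕ), candF t o p L = true → ((c p : ℕ)) ∈ L := by
    intro p L h
    have h' := List.all_eq_true.1 h (c p : ℕ) (List.mem_range.2 (Fin.is_lt _))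
    rw [cross_eq ht hc hcg p o p, Nat.beq_refl] at h'
    simp only [Bool.not_true, Bool.false_or, List.any_eq_true, Nat.beq_eq] at h'
    obtain ⟨v, hv, rfl⟩ := h'
    exact hv
  simp only [pairF, List.all_eq_true] at h3
  have h6 := h3 _ (hmem a _ h1) _ (hmem b _ h2)
  rw [cross_eq ht hc hcg a o b] at h6
  change (!(Nat.beq (crossF t o a b) (crossF t o a b)) || _) = true at h6
  rw [Nat.beq_refl] at h6
  simp only [Bool.not_true, Bool.false_or, List.any_eq_true, List.mem_range, Bool.and_eq_true, Nat.beq_eq] at h6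
  obtain ⟨k, hk, e1, e2⟩ := h6
  refine ⟨k, hk, ?_⟩
  have hd1 : c a = el k a := Fin.ext (e1.symm.trans (hA k hk a))
  have hd2 : c b = el k b := Fin.ext (e2.symm.trans (hA k hk b))
  refine Equiv.ext fun l => ?_
  refine (el k).symm.injective (Fin.ext (sep_inj h5 (Fin.is_lt _) (Fin.is_lt _) ?_))
  simp only [Equiv.symm_apply_apply]
  set d := (el k)⁻¹ * c with hd
  show sig (d l : ℕ) = sig (l : ℕ)
  have hdg : Commute d g := ((hcomm k hk).inv_left).mul_left hcg
  have hdp : Pres d := fun p q => by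
    show orthK ((el k).symm (c p)) ((el k).symm (c q)) = _
    rw [← hpres k hk ((el k).symm (c p)) ((el k).symm (c q)), Equiv.apply_symm_apply, Equiv.apply_symm_apply, hc]
  have ha : d a = a := by rw [hd, Equiv.Perm.mul_apply, hd1, Equiv.Perm.inv_def, Equiv.symm_apply_apply]
  have hb : d b = b := by rw [hd, Equiv.Perm.mul_apply, hd2, Equiv.Perm.inv_def, Equiv.symm_apply_apply]
  have hsig : ∀ p : Fin 4060, sig (p : ℕ) = Nat.add (crossF t o p a) (Nat.mul (2 ^ o) (crossF t o p b)) := fun p =>
    Nat.eq_of_beq_eq_true (List.all_eq_true.1 h4 p (List.mem_range.2 p.2))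
  rw [hsig, hsig, ← cross_eq ht hdp hdg l o a, ← cross_eq ht hdp hdg l o b, ha, hb]

end CfsgLib.KnownC.RuGroup
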