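import Cfsg.Agent.Lib.KnownC.RuGroup.Order

/-!
# The centre and the action on the 4060 lines
-/

set_option autoImplicit false
set_option maxRecDepth 100000
set_option maxHeartbeats 0

namespace CfsgLib.KnownC.RuGroup

open Cfsg.Spor CfsgLib.KnownC.RuLattice

attribute [local irreducible] vecsAt sortV posV sep unitV fwd0 fwd1 fwd2 fwd3 fwd4 fwd5 fwd6 bwd0 bwd1 bwd2 bwd3
  bwd4 bwd5 bwd6 orb0 orb1 orb2 orb3 orb4 orb5 tree0 tree1 tree2 tree3 tree4 tree5 orbBits

theorem norm_gI (x : RuVec) : ruNorm (gI • x) = ruNorm x := by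
  refine Finset.sum_congr rfl fun p _ => ?_
  rw [Pi.smul_apply, smul_eq_mul, Zsqrtd.norm_mul, show gI.norm = 1 from rfl, one_mul]

theorem ruI_four (v : ruLattice) : ruI (ruI (ruI (ruI v))) = v := by
  refine Subtype.ext ?_
  show gI • gI • gI • gI • (v : RuVec) = v
  rw [gI_gI, gI_gI, neg_neg]

/-- Multiplication by `i`. -/
def scalPerm : Equiv.Perm ruLattice where
  toFun := ruI
  invFun v := ruI (ruI (ruI v))
  left_inv := ruI_four
  right_inv := ruI_four

theorem scalPerm_mem : scalPerm ∈ fourRu :=
  ⟨fun _ _ => Subtype.ext (smul_add gI _ _), fun _ => rfl, fun _ => norm_gI _⟩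

/-- Multiplication by `i` as an automorphism of the lattice. -/
def scal : fourRu := ⟨scalPerm, scalPerm_mem⟩

theorem act_scal (u : Fin 16240) : act scal u = succF u := img_eq (pt_succ u).symm

theorem scal_comm (g : fourRu) : g * scal = scal * g :=
  Subtype.ext (Equiv.ext fun v => g.2.2.1 v)

theorem scal_pow_four : scal ^ 4 = 1 :=
  Subtype.ext (Equiv.ext fun v => ruI_four v)

theorem orderOf_scal : orderOf scal = 4 := by
  have h : orderOf scal = 2 ^ (1 + 1) := by
    haveI := Fact.mk Nat.prime_two
    refine orderOf_eq_prime_pow ?_ scal_pow_four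
    intro h
    have h' := congrArg (fun g => ((act g (bF 0) : Fin 16240) : ℕ)) h
    simp only [pow_one, pow_two, map_mul, map_one, Equiv.Perm.mul_apply, Equiv.Perm.one_apply, act_scal] at h'
    exact absurd h' (by decide)
  simpa using h

/-- The line of a numbered vector. -/
def lineOf (u : Fin 16240) : Fin 4060 := ⟨u / 4, by omega⟩

/-- The first vector of a line. -/
def repOf (l : Fin 4060) : Fin 16240 := ⟨4 * l, by omega⟩

theorem lineOf_repOf (l : Fin 4060) : lineOf (repOf l) = l := Fin.ext (by simp [lineOf, repOf])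

theorem lineOf_succ (u : Fin 16240) : lineOf (succF u) = lineOf u := Fin.ext (by
  show succU u / 4 = (u : ℕ) / 4
  unfold succU; omega)

theorem succ_pow (g : fourRu) : ∀ (k : ℕ) (u : Fin 16240), act g (succF^[k] u) = succF^[k] (act g u)
  | 0, _ => rfl
  | k + 1, u => by
    rw [Function.iterate_succ', Function.comp_apply, Function.comp_apply, act_succ, succ_pow g k u]

theorem lineOf_pow : ∀ (k : ℕ) (u : Fin 16240), lineOf (succF^[k] u) = lineOf u
  | 0, _ => rfl
  | k + 1, u => by rw [Function.iterate_succ', Function.comp_apply, lineOf_succ, lineOf_pow k u]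

theorem exists_pow {u v : Fin 16240} (h : lineOf u = lineOf v) : ∃ k < 4, v = succF^[k] u := by
  have h' : (u : ℕ) / 4 = (v : ℕ) / 4 := congrArg Fin.val h
  refine ⟨((v : ℕ) % 4 + 4 - (u : ℕ) % 4) % 4, Nat.mod_lt _ (by norm_num), Fin.ext ?_⟩
  have hval : ∀ k, k < 4 → ((succF^[k] u : Fin 16240) : ℕ) = 4 * ((u : ℕ) / 4) + ((u : ℕ) % 4 + k) % 4 := by
    intro k hk
    interval_cases k <;> simp [succF, succU] <;> omega
  rw [hval _ (Nat.mod_lt _ (by norm_num))]
  omega

theorem lineOf_act (g : fourRu) {u v : Fin 16240} (h : lineOf u = lineOf v) :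
    lineOf (act g v) = lineOf (act g u) := by
  obtain ⟨k, -, rfl⟩ := exists_pow h
  rw [succ_pow, lineOf_pow]

/-- The action on the lines. -/
noncomputable def lineAct : fourRu →* Equiv.Perm (Fin 4060) where
  toFun g :=
    { toFun := fun l => lineOf (act g (repOf l))
      invFun := fun l => lineOf (act g⁻¹ (repOf l))
      left_inv := fun l => by
        show lineOf (act g⁻¹ (repOf (lineOf (act g (repOf l))))) = l
        rw [lineOf_act g⁻¹ (u := act g (repOf l)) (lineOf_repOf _).symm, ← Equiv.Perm.mul_apply,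
          ← map_mul, inv_mul_cancel, map_one, Equiv.Perm.one_apply, lineOf_repOf]
      right_inv := fun l => by
        show lineOf (act g (repOf (lineOf (act g⁻¹ (repOf l))))) = l
        rw [lineOf_act g (u := act g⁻¹ (repOf l)) (lineOf_repOf _).symm, ← Equiv.Perm.mul_apply,
          ← map_mul, mul_inv_cancel, map_one, Equiv.Perm.one_apply, lineOf_repOf] }
  map_one' := Equiv.ext fun l => by
    show lineOf (act 1 (repOf l)) = l
    rw [map_one, Equiv.Perm.one_apply, lineOf_repOf]
  map_mul' g h := Equiv.ext fun l => by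
    show lineOf (act (g * h) (repOf l)) = lineOf (act g (repOf (lineOf (act h (repOf l)))))
    rw [lineOf_act g (u := act h (repOf l)) (lineOf_repOf _).symm, map_mul, Equiv.Perm.mul_apply]

theorem lineAct_lineOf (g : fourRu) (u : Fin 16240) : lineAct g (lineOf u) = lineOf (act g u) :=
  lineOf_act g (u := u) (v := repOf (lineOf u)) (lineOf_repOf _).symm

theorem lineAct_gen (j : ℕ) (l : Fin 4060) : (lineAct (gen j) l : ℕ) = fwdF j l / 4 := by
  show (act (gen j) (repOf l) : ℕ) / 4 = _
  rw [act_gen, show ((repOf l : Fin 16240) : ℕ) = 4 * (l : ℕ) from rfl, actP,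
    show 4 * (l : ℕ) / 4 = l by omega, show 4 * (l : ℕ) % 4 = 0 by omega]
  omega

theorem mem_zpowers_of_ker {g : fourRu} (hg : lineAct g = 1) : g ∈ Subgroup.zpowers scal := by
  have hline : ∀ (h : fourRu), lineAct h = 1 → ∀ u, lineOf (act h u) = lineOf u := fun h hh u => by
    rw [← lineAct_lineOf, hh, Equiv.Perm.one_apply]
  obtain ⟨k, -, hk⟩ := exists_pow (hline g hg (bF 0)).symm
  have hs : ∀ k u, act (scal ^ k) u = succF^[k] u := by
    intro k
    induction k with
    | zero => intro u; rw [pow_zero, map_one]; rfl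
    | succ k ih =>
      intro u
      rw [pow_succ', map_mul, Equiv.Perm.mul_apply, ih, act_scal, Function.iterate_succ', Function.comp_apply]
  have hker : lineAct ((scal ^ k)⁻¹ * g) = 1 := by
    rw [map_mul, map_inv, hg, mul_one, inv_eq_one]
    exact Equiv.ext fun l => by
      rw [← lineOf_repOf l, lineAct_lineOf, hs, lineOf_pow, Equiv.Perm.one_apply]
  have hfix : ∀ m, m < 6 → act ((scal ^ k)⁻¹ * g) (bF m) = bF m := by
    intro m
    induction m using Nat.strong_induction_on with
    | _ m ih =>
      intro hm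
      rcases Nat.eq_zero_or_pos m with rfl | hpos
      · rw [map_mul, Equiv.Perm.mul_apply, hk, ← hs, ← Equiv.Perm.mul_apply, ← map_mul, inv_mul_cancel, map_one,
          Equiv.Perm.one_apply]
      · set h := (scal ^ k)⁻¹ * g with hh
        have hc := cand_of_fixed h m (fun j hj => ih j hj (by omega)) (bF m)
        have hl : (act h (bF m) : ℕ) / 4 = bpt m / 4 := congrArg Fin.val (hline h hker (bF m))
        have h1 := List.all_eq_true.1 line_cand m (List.mem_range.2 hm)
        rw [Bool.or_eq_true, Nat.beq_eq, List.all_eq_true] at h1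
        have h2 := (h1.resolve_left (by omega)) ((act h (bF m) : ℕ) % 4) (List.mem_range.2 (Nat.mod_lt _ (by norm_num)))
        rw [← hl, Nat.div_add_mod, show bpt m = ((bF m : Fin 16240) : ℕ) from rfl, hc] at h2
        exact Fin.ext (Nat.eq_of_beq_eq_true (by simpa using h2))
  have h1 := fix_six_eq_one hfix
  rw [inv_mul_eq_one] at h1
  rw [← h1]
  exact pow_mem (Subgroup.mem_zpowers _) _

theorem center_eq : Subgroup.center fourRu = Subgroup.zpowers scal := by
  refine le_antisymm (fun z hz => mem_zpowers_of_ker ?_) ?_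
  · rw [Subgroup.mem_center_iff] at hz
    have h0 : lineOf (act z (bF 0)) = lineOf (bF 0) := by
      refine Fin.ext ?_
      have h := List.all_eq_true.1 center_fix (act z (bF 0) : ℕ) (List.mem_range.2 (Fin.is_lt _))
      have hfix : ((List.range 6).all fun j => Nat.beq (actP (fwdF j) (act z (bF 0) : ℕ)) (act z (bF 0) : ℕ)) = true := by
        rw [List.all_eq_true]
        intro j hj
        rw [Nat.beq_eq, ← act_gen, ← Equiv.Perm.mul_apply, ← map_mul, hz (gen j), map_mul, Equiv.Perm.mul_apply,
          gen_fix (k := 1) (by norm_num) (List.mem_range.1 hj) (by norm_num)]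
      rw [hfix] at h
      simpa [lineOf, bF, bpt] using h
    refine Equiv.ext fun l => ?_
    obtain ⟨i, hi, e⟩ := cand_in (k := 0) (u := (repOf l : ℕ)) (by norm_num) (Fin.is_lt _) rfl
    obtain ⟨g, -, hg⟩ := orbit_mem ⊤ (fun _ _ => Subgroup.mem_top _) (k := 0) (by norm_num) i hi
    have hg' : act g (bF 0) = repOf l := hg.trans (Fin.ext e)
    rw [Equiv.Perm.one_apply, ← lineOf_repOf l, lineAct_lineOf, ← hg', ← Equiv.Perm.mul_apply, ← map_mul, ← hz g,
      map_mul, Equiv.Perm.mul_apply]
    exact lineOf_act g h0.symm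
  · rw [Subgroup.zpowers_le, Subgroup.mem_center_iff]
    exact scal_comm

theorem card_center : Nat.card (Subgroup.center fourRu) = 4 := by
  rw [center_eq, Nat.card_zpowers, orderOf_scal]

theorem lineAct_ker : lineAct.ker = Subgroup.center fourRu := by
  refine le_antisymm (fun g hg => center_eq ▸ mem_zpowers_of_ker hg) ?_
  rw [center_eq, Subgroup.zpowers_le, MonoidHom.mem_ker]
  exact Equiv.ext fun l => by rw [← lineOf_repOf l, lineAct_lineOf, act_scal, lineOf_succ]; rfl

/-- The Rudvalis group as permutations of the 4060 lines. -/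
noncomputable def ruHom : Ru →* Equiv.Perm (Fin 4060) :=
  QuotientGroup.lift (Subgroup.center fourRu) lineAct (le_of_eq lineAct_ker.symm)

theorem ruHom_mk (g : fourRu) : ruHom (QuotientGroup.mk g) = lineAct g := rfl

theorem ruHom_injective : Function.Injective ruHom := by
  rw [← MonoidHom.ker_eq_bot_iff, Subgroup.eq_bot_iff_forall]
  intro x hx
  obtain ⟨g, rfl⟩ := QuotientGroup.mk_surjective x
  rw [MonoidHom.mem_ker, ruHom_mk, ← MonoidHom.mem_ker, lineAct_ker] at hx
  exact (QuotientGroup.eq_one_iff g).2 hx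

theorem card_Ru : Nat.card Ru = 145926144000 := by
  have h := Subgroup.card_eq_card_quotient_mul_card_subgroup (Subgroup.center fourRu)
  rw [card_center, card_fourRu] at h
  show Nat.card (fourRu ⧸ Subgroup.center fourRu) = _
  omega

theorem closure_ru : Subgroup.closure {x : Ru | ∃ j < 7, x = QuotientGroup.mk (gen j)} = ⊤ := by
  have h := congrArg (Subgroup.map (QuotientGroup.mk' (Subgroup.center fourRu))) closure_gen
  rw [MonoidHom.map_closure, Subgroup.map_top_of_surjective _ (QuotientGroup.mk'_surjective _)] at h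
  refine top_le_iff.1 (h ▸ Subgroup.closure_mono ?_)
  rintro _ ⟨g, ⟨j, hj, rfl⟩, rfl⟩
  exact ⟨j, hj, rfl⟩

end CfsgLib.KnownC.RuGroup
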