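import Mathlib

/-!
# Steps of the elimination modulo four

Machine-generated.
-/

set_option autoImplicit false
set_option maxRecDepth 100000

namespace CfsgLib.KnownC.RuGroup

/-- Pivot, index and the two binary digits of the negated basis vector. -/
def memSteps : List (ℕ × ℕ × ℕ) := [
  (0, 0x2132fa88204001, 0x291af200204001),
  (0, 0x2132fa88204001, 0x291af200204001),
  (0, 0x2132fa88204001, 0x291af200204001),
  (1, 0x895a68c40a002, 0xfccd2e0440a002),
  (1, 0x895a68c40a002, 0xfccd2e0440a002),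
  (1, 0x895a68c40a002, 0xfccd2e0440a002),
  (2, 0xf5a15c86a08004, 0x1c19dc0ea08004),
  (2, 0xf5a15c86a08004, 0x1c19dc0ea08004),
  (2, 0xf5a15c86a08004, 0x1c19dc0ea08004),
  (3, 0x7a5a3982c06008, 0xaeba310ac06008),
  (3, 0x7a5a3982c06008, 0xaeba310ac06008),
  (3, 0x7a5a3982c06008, 0xaeba310ac06008),
  (4, 0xcb60e00c46010, 0x58768e0ac46010),
  (4, 0xcb60e00c46010, 0x58768e0ac46010),
  (4, 0xcb60e00c46010, 0x58768e0ac46010),
  (5, 0x6a10d006ae020, 0x9511850e6ae020),
  (5, 0x6a10d006ae020, 0x9511850e6ae020),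
  (5, 0x6a10d006ae020, 0x9511850e6ae020),
  (6, 0x17d0b00e82040, 0x7bc58380e82040),
  (6, 0x17d0b00e82040, 0x7bc58380e82040),
  (6, 0x17d0b00e82040, 0x7bc58380e82040),
  (7, 0xb6a070046a080, 0xb21a070a46a080),
  (7, 0xb6a070046a080, 0xb21a070a46a080),
  (7, 0xb6a070046a080, 0xb21a070a46a080),
  (8, 0xcb60e00c460100, 0x9138e002460100),
  (8, 0xcb60e00c460100, 0x9138e002460100),
  (8, 0xcb60e00c460100, 0x9138e002460100),
  (9, 0x6a10d006ae0200, 0x2118508eae0200),
  (9, 0x6a10d006ae0200, 0x2118508eae0200),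
  (9, 0x6a10d006ae0200, 0x2118508eae0200),
  (10, 0x17d0b00e820400, 0xba08388e820400),
  (10, 0x17d0b00e820400, 0xba08388e820400),
  (10, 0x17d0b00e820400, 0xba08388e820400),
  (11, 0xb6a070046a0800, 0x3bc0708a6a0800),
  (11, 0xb6a070046a0800, 0x3bc0708a6a0800),
  (11, 0xb6a070046a0800, 0x3bc0708a6a0800),
  (12, 0xf000000f000, 0x177f888000f000),
  (12, 0xf000000f000, 0x177f888000f000),
  (12, 0xf000000f000, 0x177f888000f000),
  (13, 0x0, 0x5068000a002000),
  (14, 0x0, 0x10c80008004000),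
  (15, 0x0, 0xa0980006008000),
  (16, 0xf000000f0000, 0x7d9888800f0000),
  (16, 0xf000000f0000, 0x7d9888800f0000),
  (16, 0xf000000f0000, 0x7d9888800f0000),
  (17, 0x0, 0x10d0000e020000),
  (18, 0x0, 0xd0b00002040000),
  (19, 0x0, 0xa070000a080000),
  (20, 0xf000000f00000, 0xdfd88880f00000),
  (20, 0xf000000f00000, 0xdfd88880f00000),
  (20, 0xf000000f00000, 0xdfd88880f00000),
  (21, 0x0, 0x7d000008200000),
  (22, 0x0, 0xcb00000c400000),
  (23, 0x0, 0x1700000e800000),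
  (24, 0xf000000f000000, 0xfe18888f000000),
  (24, 0xf000000f000000, 0xfe18888f000000),
  (24, 0xf000000f000000, 0xfe18888f000000),
  (28, 0xfa65c390000000, 0xf47d4b10000000),
  (28, 0xfa65c390000000, 0xf47d4b10000000),
  (28, 0xfa65c390000000, 0xf47d4b10000000),
  (29, 0x65c39fa0000000, 0x717b1f20000000),
  (29, 0x65c39fa0000000, 0x717b1f20000000),
  (29, 0x65c39fa0000000, 0x717b1f20000000),
  (30, 0x39fa65c0000000, 0x4492ed40000000),
  (30, 0x39fa65c0000000, 0x4492ed40000000),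
  (30, 0x39fa65c0000000, 0x4492ed40000000),
  (32, 0x0, 0xa6000900000000),
  (33, 0x0, 0x5c000a00000000),
  (34, 0x0, 0x9f000c00000000),
  (36, 0x0, 0x65c09000000000),
  (37, 0x0, 0xc390a000000000),
  (38, 0x0, 0xfa60c000000000),
  (40, 0x0, 0x50390000000000),
  (41, 0x0, 0x30fa0000000000),
  (42, 0x0, 0xa05c0000000000)]

end CfsgLib.KnownC.RuGroup
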