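import Mathlib

/-!
# Lattice elements spanning the basis

Machine-generated.
-/

set_option autoImplicit false
set_option maxRecDepth 100000
set_option maxHeartbeats 0

namespace CfsgLib.KnownC.RuGroup

/-- Entries of the table and moves applied to them. -/
def spanW : List (ℕ × List ℕ) := [
  (14, []),
  (1, []),
  (18, []),
  (8, []),
  (4, []),
  (3, []),
  (13, []),
  (7, []),
  (16, []),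
  (11, []),
  (9, []),
  (12, []),
  (17, []),
  (10, []),
  (5, []),
  (19, []),
  (6, []),
  (15, []),
  (2, [1]),
  (18, [3]),
  (7, [2]),
  (5, [4]),
  (9, [1]),
  (10, [2]),
  (9, [2]),
  (2, [2]),
  (13, [4]),
  (14, [1]),
  (7, [0]),
  (17, [3]),
  (12, [2]),
  (11, [4]),
  (16, [0]),
  (13, [2]),
  (16, [2]),
  (15, [2]),
  (13, [0]),
  (7, [4]),
  (17, [4]),
  (15, [4]),
  (11, [4, 4]),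
  (0, []),
  (0, [0, 1, 3]),
  (0, [0, 2, 3]),
  (0, [0, 2, 1]),
  (0, [4, 4, 4, 4, 4, 4]),
  (0, [0, 1, 3, 4, 4, 4, 4, 4, 4]),
  (0, [0, 2, 3, 4, 4, 4, 4, 4, 4]),
  (0, [0, 2, 1, 4, 4, 4, 4, 4, 4]),
  (0, [4, 4, 4, 4, 4]),
  (0, [0, 1, 3, 4, 4, 4, 4, 4]),
  (0, [0, 2, 3, 4, 4, 4, 4, 4]),
  (0, [0, 2, 1, 4, 4, 4, 4, 4]),
  (0, [4, 4, 4, 4]),
  (0, [0, 1, 3, 4, 4, 4, 4]),
  (0, [0, 2, 3, 4, 4, 4, 4]),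
  (0, [0, 2, 1, 4, 4, 4, 4]),
  (0, [4, 4, 4]),
  (0, [0, 1, 3, 4, 4, 4]),
  (0, [0, 2, 3, 4, 4, 4]),
  (0, [0, 2, 1, 4, 4, 4]),
  (0, [4, 4]),
  (0, [0, 1, 3, 4, 4]),
  (0, [0, 2, 3, 4, 4]),
  (0, [0, 2, 1, 4, 4]),
  (0, [4]),
  (0, [0, 1, 3, 4]),
  (0, [0, 2, 3, 4]),
  (0, [0, 2, 1, 4]),
  (0, [0]),
  (0, [1]),
  (0, [2]),
  (0, [1, 2]),
  (0, [0, 4, 4, 4, 4, 4, 4]),
  (0, [1, 4, 4, 4, 4, 4, 4]),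
  (0, [2, 4, 4, 4, 4, 4, 4]),
  (0, [1, 2, 4, 4, 4, 4, 4, 4]),
  (0, [0, 4, 4, 4, 4, 4]),
  (0, [1, 4, 4, 4, 4, 4]),
  (0, [2, 4, 4, 4, 4, 4]),
  (0, [1, 2, 4, 4, 4, 4, 4]),
  (0, [0, 4, 4, 4, 4]),
  (0, [1, 4, 4, 4, 4]),
  (0, [2, 4, 4, 4, 4]),
  (0, [1, 2, 4, 4, 4, 4]),
  (0, [0, 4, 4, 4]),
  (0, [1, 4, 4, 4]),
  (0, [2, 4, 4, 4]),
  (0, [1, 2, 4, 4, 4]),
  (0, [0, 4, 4]),
  (0, [1, 4, 4]),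
  (0, [2, 4, 4]),
  (0, [1, 2, 4, 4]),
  (0, [0, 4]),
  (0, [1, 4]),
  (0, [2, 4]),
  (0, [1, 2, 4])]

/-- Part of the data. -/
def spanImg0 : List (List ℤ) := [
  [1, -1, 1, -1, 0, 0, -1, 0, 1, 1, 0, 0, 0, -1, 0, 0, 0, 0, 0, 0, 0, 0, 0, 0, 0, 1, 0, 1, 0, 0, 0, 0, 0, 1, 0, 0, 0, 0, 0, 0, 1, 0, 0, 0, -1, 0, 1, 0, 0, -1, 1, 0, 0, 0, 0, 0],
  [0, 1, 1, 1, 0, 0, 0, 0, 0, 0, 0, 0, 1, 1, 0, -1, 0, 0, 0, 0, 1, 0, -1, 1, 1, -1, 1, 0, -1, 0, 0, 0, 0, 0, 0, 0, 0, 0, 0, 0, 0, 0, 1, 0, 0, 0, 0, 0, 0, 1, 0, 0, 0, 0, 0, 1],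
  [1, -1, -1, 1, 0, 0, 0, 0, 0, 0, 0, -1, 0, 0, 0, 0, 1, 0, 1, 0, 0, 1, 1, 0, 0, 0, -1, 0, 0, 0, 0, 0, -1, 0, 0, 1, 0, 0, 1, 0, 0, 0, -1, 1, 0, 0, 0, 0, 0, 0, 0, 0, 1, 0, 0, 0],
  [1, 1, -1, -1, 0, 1, 0, 0, 0, 0, 0, 1, -1, 0, 0, 0, 0, 0, 0, 0, 0, 0, 0, 0, 0, 0, -1, 0, 0, 0, 0, 0, 0, 0, 1, 0, 0, 0, 1, 0, 0, -1, 0, 0, -1, 0, -1, 0, 0, -1, -1, 0, -1, 0, 0, 0],
  [0, -1, -1, 1, 0, 0, 0, 0, 0, 0, 0, 0, 1, -1, 0, -1, 0, 0, 0, 0, 1, 0, 1, -1, 1, 1, 1, 0, -1, 0, 0, 0, 0, 0, 0, 0, 0, 0, 0, 0, 0, 0, -1, 0, 0, 0, 0, 0, 0, 1, 0, 0, 0, 0, 0, -1],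
  [0, -1, 1, -1, 0, 0, 0, 0, 0, 0, 0, 0, 1, 1, 0, 1, 0, 0, 0, 0, 1, 0, -1, -1, 1, 1, -1, 0, -1, 0, 0, 0, 0, 0, 0, 0, 0, 0, 0, 0, 0, 0, -1, 0, 0, 0, 0, 0, 0, -1, 0, 0, 0, 0, 0, 1],
  [1, -1, 1, -1, -1, 0, 0, 1, 0, 0, 0, -1, 0, 0, 1, -1, 0, 0, 0, -1, -1, 0, 0, 0, 0, 0, 1, 0, 0, 0, 0, 0, 0, 0, 0, 0, 0, 0, -1, 0, 0, 0, 0, 0, 0, -1, 0, 0, 0, 0, 0, -1, 1, 0, 0, 0],
  [1, 1, 1, 1, 0, 0, -1, 0, 0, 0, 0, -1, 0, -1, 0, 0, 0, -1, 0, 0, 0, 0, 0, -1, 0, 0, -1, 0, 0, 0, 0, 0, 0, 1, 0, 0, 0, 0, 1, 0, 1, 0, 0, 0, 0, 0, 0, 1, 1, 0, 0, 0, 1, 0, 0, 0]]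

/-- Part of the data. -/
def spanImg1 : List (List ℤ) := [
  [1, -1, -1, 1, 0, 0, 1, 0, 0, 0, 0, 0, 0, -1, 0, 0, 0, 0, 0, 1, -1, 0, 0, 0, 0, 0, 0, 0, 0, 0, 0, 0, 0, 1, 0, 0, -1, -1, 0, 0, -1, 0, 0, 0, 0, 1, 0, 0, 0, 0, 0, -1, 0, -1, 0, -1],
  [1, 1, -1, -1, 0, 0, 0, 0, 1, 1, 0, 0, 0, 0, 0, 0, 0, 0, 0, 1, 1, 0, 0, 0, 0, 1, 0, 1, 0, 0, 0, 0, -1, 0, 0, 1, 0, 0, 0, 0, 0, 0, 1, -1, 0, -1, 0, 0, 0, 0, 0, -1, 0, 0, 0, 0],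
  [1, 1, -1, -1, 0, 0, -1, 0, 0, 0, -1, 0, 0, 1, 0, 0, -1, 0, 1, 0, 0, 1, -1, 0, -1, 0, 0, 0, 0, 0, 0, 0, 0, -1, 0, 0, 0, 0, 0, -1, 1, 0, 0, 0, 0, 0, 0, 0, 0, 0, 0, 0, 0, 0, -1, 0],
  [1, -1, 1, -1, 0, 0, 0, 0, 0, 0, 1, 0, 0, 0, 0, 0, 0, 1, 0, 0, 0, 0, 0, -1, -1, 0, 0, 0, 0, 0, 0, 0, -1, 0, 0, -1, 0, 0, 0, 1, 0, 0, -1, -1, 0, 0, 0, 1, -1, 0, 0, 0, 0, 0, -1, 0],
  [1, -1, -1, 1, 0, -1, 0, 0, -1, 1, 0, 0, -1, 0, 0, 0, 0, -1, 0, 0, 0, 0, 0, 1, 0, -1, 0, 1, 0, 0, 0, 0, 0, 0, -1, 0, 0, 0, 0, 0, 0, -1, 0, 0, 0, 0, 0, -1, 1, 0, 0, 0, 0, 0, 0, 0],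
  [1, 1, -1, -1, 1, 0, 0, 1, 0, 0, 0, 0, 0, 0, 1, 1, 0, -1, 0, 0, 0, 0, 0, -1, 0, 0, 0, 0, 0, 0, 0, 0, 0, 0, 0, 0, -1, 1, 0, 0, 0, 0, 0, 0, 0, 0, 0, 1, 1, 0, 0, 0, 0, 1, 0, -1],
  [1, 1, 1, 1, 1, 0, 0, -1, 1, -1, 0, 0, 0, 0, -1, 1, 1, 0, -1, 0, 0, -1, 1, 0, 0, 1, 0, -1, 0, 0, 0, 0, 0, 0, 0, 0, 0, 0, 0, 0, 0, 0, 0, 0, 0, 0, 0, 0, 0, 0, 0, 0, 0, 0, 0, 0],
  [1, -1, -1, 1, 1, 0, 0, 1, 0, 0, 1, 0, 0, 0, 1, 1, 0, 0, 0, 0, 0, 0, 0, 0, 1, 0, 0, 0, 0, 0, 0, 0, 0, 0, 0, 0, 0, 0, 0, -1, 0, 0, 0, 0, -1, 0, 1, 0, 0, 1, -1, 0, 0, 0, -1, 0]]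

/-- Part of the data. -/
def spanImg2 : List (List ℤ) := [
  [1, 1, 1, 1, 0, -1, 0, 0, 0, 0, -1, 0, -1, 0, 0, 0, 0, 0, 0, -1, -1, 0, 0, 0, -1, 0, 0, 0, 0, 0, 0, 0, 0, 0, 1, 0, 0, 0, 0, 1, 0, 1, 0, 0, 0, 1, 0, 0, 0, 0, 0, 1, 0, 0, 1, 0],
  [1, -1, 1, -1, 0, 1, 0, 0, 0, 0, 0, 0, 1, 0, 0, 0, 1, 0, 1, 0, 0, 1, 1, 0, 0, 0, 0, 0, 0, 0, 0, 0, 0, 0, -1, 0, -1, 1, 0, 0, 0, -1, 0, 0, 0, 0, 0, 0, 0, 0, 0, 0, 0, -1, 0, 1],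
  [0, 1, -1, 1, 0, 0, 0, 0, 0, 0, 0, 0, 0, 0, 1, 0, 0, 0, 0, 0, 1, 0, 1, -1, 0, 0, 0, 1, 1, 0, 0, 0, 0, 0, 0, 0, 0, 0, 0, 0, -1, 1, 0, -1, 0, 0, 0, 0, 0, 1, 0, 0, -1, 1, -1, 0],
  [-1, 1, 1, -1, 0, 0, 0, 0, 0, 0, 0, -1, 0, 0, 0, 0, 1, 0, 1, 0, 0, -1, -1, 0, 0, 0, 1, 0, 0, 0, 0, 0, -1, 0, 0, 1, 0, 0, 1, 0, 0, 0, 1, -1, 0, 0, 0, 0, 0, 0, 0, 0, -1, 0, 0, 0],
  [0, -1, 0, 1, 0, 0, 0, 0, -1, 1, 0, 0, 0, 0, -1, -1, 0, 0, 0, -1, 0, 1, -1, 0, 0, 0, -1, 0, 1, 0, 1, 0, -1, 0, 0, 1, 0, 0, 0, 0, 0, 0, 0, 0, 0, -1, 0, 0, 0, 0, 0, 0, -1, 0, 0, 0],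
  [1, 0, 0, -1, 1, -1, 0, 0, 0, 0, -1, 1, 1, 0, -1, 0, 0, -1, 1, 0, 0, 1, 0, -1, 1, 1, 1, 1, 0, 0, 0, 0, 0, 0, 0, 0, 0, 0, 0, 0, 0, 0, 0, 0, 0, 0, 0, 0, 0, 0, 0, 0, 0, 0, 0, 0],
  [0, 0, -1, 1, 1, 0, 0, 1, 0, 0, 0, 1, 0, -1, 0, 0, 0, 0, 0, -1, 0, 0, 0, 1, 0, 0, 0, 0, 1, 1, 0, 0, 0, 0, 0, 0, 0, 0, -1, 0, 1, 0, 0, 0, 0, -1, 0, 0, 1, 0, 0, 0, 0, -1, 0, 1],
  [0, 1, 0, 1, 0, -1, 0, 0, 0, 0, 1, 0, 0, -1, 0, 0, 0, 0, 0, -1, 0, 1, -1, 0, 0, 0, 0, 0, -1, 0, 1, 0, 0, 0, 1, 0, 0, 0, 0, 1, 1, 0, 0, 0, 0, -1, 0, 0, 0, 0, 0, 0, 0, 1, 0, 1]]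

/-- Part of the data. -/
def spanImg3 : List (List ℤ) := [
  [0, 1, 0, 1, 0, 0, 0, 0, 0, 0, 0, 0, 0, 0, -1, 1, 0, 0, 0, 0, 0, 0, 0, 1, 1, 0, 0, 0, -1, 0, 1, 0, -1, 0, 0, -1, -1, 1, 0, 0, 0, 0, 0, 0, 1, 0, -1, 0, -1, 0, 0, 0, 0, 0, -1, 0],
  [0, 1, 1, 1, 0, 0, 0, 0, 0, 0, 0, 0, -1, -1, 0, -1, 0, 0, 0, 0, 0, -1, 0, 0, 0, 0, 0, -1, -1, 0, 0, 0, 0, 0, 0, 0, 0, 0, 0, 0, 0, 0, 1, 0, 0, 0, 0, 0, 1, 0, 1, -1, -1, 1, 1, 0],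
  [-1, 0, 0, 1, 0, 0, 0, -1, 0, 0, 1, -1, 0, 0, 0, -1, -1, 0, 0, 0, 0, 0, 1, 0, 1, -1, 1, -1, 0, 0, 0, 0, 0, 0, -1, 0, 0, 0, 0, 0, 0, -1, 0, 0, 0, 0, 0, -1, 1, 0, 0, 0, 0, 0, 0, 0],
  [0, 0, -1, -1, -1, 0, 0, 1, 0, 0, 0, 0, 0, -1, 0, 0, 0, 1, 0, 0, 1, 0, 0, 0, 0, 0, 1, 0, -1, 1, 0, 0, 0, 0, 0, 0, 1, 1, 0, 0, -1, 0, 0, 0, 0, 0, 0, -1, 0, 0, 0, -1, 1, 0, 0, 0],
  [0, 0, 0, 0, 0, -1, 0, 0, 0, 0, -1, 0, -1, 0, 0, 0, 0, 0, 0, -1, -1, 0, 0, 0, -1, 0, 0, 0, 1, 1, 1, 1, 0, 0, -1, 0, 0, 0, 0, -1, 0, -1, 0, 0, 0, -1, 0, 0, 0, 0, 0, -1, 0, 0, -1, 0],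
  [-1, 1, 1, -1, 0, -1, 0, 0, -1, 1, 0, 0, 1, 0, 0, 0, 0, -1, 0, 0, 0, 0, 0, -1, 0, 1, 0, -1, 0, 0, 0, 0, 0, 0, -1, 0, 0, 0, 0, 0, 0, 1, 0, 0, 0, 0, 0, -1, -1, 0, 0, 0, 0, 0, 0, 0],
  [0, 1, 0, -1, 0, 0, 1, 0, 0, 0, 0, 0, 1, 0, 0, 0, 0, 0, 0, 1, 0, 1, 1, 0, 1, 0, 0, 0, 1, 0, 1, 0, 0, 1, 0, 0, 1, -1, 0, 0, 0, 1, 0, 0, 0, -1, 0, 0, 0, 0, 0, 0, 0, 0, -1, 0],
  [0, 0, 0, 0, 1, 1, 0, 0, 0, 0, 0, 0, 0, 0, 0, 1, 1, 0, 0, 0, 0, 1, 0, 1, 1, 1, -1, -1, -1, 0, 0, 1, 0, 0, 0, 0, 0, 0, 1, -1, 0, -1, 0, 0, 0, 0, 0, -1, 0, 0, 0, 0, 0, 0, 0, 0]]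

/-- Part of the data. -/
def spanImg4 : List (List ℤ) := [
  [0, 0, 0, 0, 0, -1, 0, 0, 1, 1, 0, 0, 1, 0, 0, 0, 0, -1, 0, 0, 0, 0, 0, 1, 0, 1, 0, 1, 1, -1, -1, 1, 0, 0, 1, 0, 0, 0, 0, 0, 0, -1, 0, 0, 0, 0, 0, 1, -1, 0, 0, 0, 0, 0, 0, 0],
  [0, 1, 0, -1, 0, -1, 0, 0, 1, 1, 0, 0, 0, 1, 0, 0, 0, 1, 0, 0, 0, 0, 0, 0, 0, 0, -1, 0, 1, 0, 1, 0, 0, 0, -1, 0, 0, 0, 0, 0, 1, 0, 0, 0, 0, 0, 0, -1, 0, 1, -1, 0, 1, 0, 0, 0],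
  [0, -1, 0, -1, 0, 0, 0, 0, 0, 0, 1, 0, 0, 0, 1, -1, 0, -1, 0, 0, 0, 0, 0, 0, 0, 0, 0, 0, -1, 0, 1, 0, 1, 0, 0, 1, 0, 0, 0, -1, 0, 0, 0, 0, 0, 0, 0, 1, 0, 1, -1, 0, 0, 1, 0, -1],
  [0, 1, 0, -1, 1, 0, 0, 1, 0, 0, 1, 0, 0, 0, 0, 0, 0, 0, 0, 0, 0, 0, 0, 1, 0, 0, 0, 0, 1, 0, 1, 0, 0, 0, 0, 0, 0, 0, 0, 1, 0, 0, 1, -1, 1, 0, 1, 0, 1, 0, 0, 0, 0, -1, 0, -1],
  [0, 0, 0, 0, 0, 0, 0, 0, 0, 0, 1, 0, 0, 0, 0, 0, 0, 1, 0, 0, 0, 0, 0, 1, -1, 0, 0, 0, 1, -1, 1, -1, -1, 0, 0, 1, 0, 0, 0, -1, 0, 0, 1, -1, 0, 0, 0, -1, -1, 0, 0, 0, 0, 0, 1, 0],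
  [0, 0, -1, 0, 0, 0, 0, -1, 0, -1, 0, 0, 0, -1, 0, 0, 0, 0, 0, -1, 0, 0, -1, 0, 1, 1, 1, 1, 0, 1, 0, 0, 0, 0, 1, 0, 1, 0, 0, 0, 0, 0, 0, 1, 1, 0, 0, 0, 1, 0, 0, 0, 0, 0, 0, 0],
  [0, -1, 0, 0, -1, 1, 0, 0, -1, 0, 0, 0, 0, -1, 0, 0, 0, 0, 0, 1, 0, -1, 0, 1, 1, -1, -1, 1, 0, 0, -1, 0, 0, 0, 0, 0, 0, -1, 0, 0, 0, 0, 0, -1, 1, 0, 0, 0, 0, 0, 0, 0, 0, 0, 0, 0],
  [0, 1, 0, 0, 0, 0, 0, 0, 1, 0, 0, 0, 1, 0, 1, 0, 0, 1, 1, 0, 0, 0, 0, 0, 1, -1, 1, -1, 0, 0, -1, 0, -1, 1, 0, 0, 0, -1, 0, 0, 0, 0, 0, 0, 0, 0, 0, 0, 0, -1, 0, 1, 0, 0, 0, 0]]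

/-- Part of the data. -/
def spanImg5 : List (List ℤ) := [
  [1, 1, 0, 0, 0, 0, 0, 0, 0, 0, 0, 1, 1, 0, 0, 0, 0, 1, 0, 1, 1, 1, -1, -1, 0, 0, 0, 0, 0, 0, 0, 0, 0, 0, 1, -1, 0, -1, 0, 0, 0, 0, 0, -1, 0, 0, 0, 0, 0, 0, 0, 0, -1, 0, 0, 1],
  [4, 0, 0, 0, 0, 0, 0, 0, 0, 0, 0, 0, 0, 0, 0, 0, 0, 0, 0, 0, 0, 0, 0, 0, 0, 0, 0, 0, 0, 0, 0, 0, 0, 0, 0, 0, 0, 0, 0, 0, 0, 0, 0, 0, 0, 0, 0, 0, 0, 0, 0, 0, 0, 0, 0, 0],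
  [0, 4, 0, 0, 0, 0, 0, 0, 0, 0, 0, 0, 0, 0, 0, 0, 0, 0, 0, 0, 0, 0, 0, 0, 0, 0, 0, 0, 0, 0, 0, 0, 0, 0, 0, 0, 0, 0, 0, 0, 0, 0, 0, 0, 0, 0, 0, 0, 0, 0, 0, 0, 0, 0, 0, 0],
  [0, 0, 4, 0, 0, 0, 0, 0, 0, 0, 0, 0, 0, 0, 0, 0, 0, 0, 0, 0, 0, 0, 0, 0, 0, 0, 0, 0, 0, 0, 0, 0, 0, 0, 0, 0, 0, 0, 0, 0, 0, 0, 0, 0, 0, 0, 0, 0, 0, 0, 0, 0, 0, 0, 0, 0],
  [0, 0, 0, 4, 0, 0, 0, 0, 0, 0, 0, 0, 0, 0, 0, 0, 0, 0, 0, 0, 0, 0, 0, 0, 0, 0, 0, 0, 0, 0, 0, 0, 0, 0, 0, 0, 0, 0, 0, 0, 0, 0, 0, 0, 0, 0, 0, 0, 0, 0, 0, 0, 0, 0, 0, 0],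
  [0, 0, 0, 0, 4, 0, 0, 0, 0, 0, 0, 0, 0, 0, 0, 0, 0, 0, 0, 0, 0, 0, 0, 0, 0, 0, 0, 0, 0, 0, 0, 0, 0, 0, 0, 0, 0, 0, 0, 0, 0, 0, 0, 0, 0, 0, 0, 0, 0, 0, 0, 0, 0, 0, 0, 0],
  [0, 0, 0, 0, 0, 4, 0, 0, 0, 0, 0, 0, 0, 0, 0, 0, 0, 0, 0, 0, 0, 0, 0, 0, 0, 0, 0, 0, 0, 0, 0, 0, 0, 0, 0, 0, 0, 0, 0, 0, 0, 0, 0, 0, 0, 0, 0, 0, 0, 0, 0, 0, 0, 0, 0, 0],
  [0, 0, 0, 0, 0, 0, 4, 0, 0, 0, 0, 0, 0, 0, 0, 0, 0, 0, 0, 0, 0, 0, 0, 0, 0, 0, 0, 0, 0, 0, 0, 0, 0, 0, 0, 0, 0, 0, 0, 0, 0, 0, 0, 0, 0, 0, 0, 0, 0, 0, 0, 0, 0, 0, 0, 0]]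

/-- Part of the data. -/
def spanImg6 : List (List ℤ) := [
  [0, 0, 0, 0, 0, 0, 0, 4, 0, 0, 0, 0, 0, 0, 0, 0, 0, 0, 0, 0, 0, 0, 0, 0, 0, 0, 0, 0, 0, 0, 0, 0, 0, 0, 0, 0, 0, 0, 0, 0, 0, 0, 0, 0, 0, 0, 0, 0, 0, 0, 0, 0, 0, 0, 0, 0],
  [0, 0, 0, 0, 0, 0, 0, 0, 4, 0, 0, 0, 0, 0, 0, 0, 0, 0, 0, 0, 0, 0, 0, 0, 0, 0, 0, 0, 0, 0, 0, 0, 0, 0, 0, 0, 0, 0, 0, 0, 0, 0, 0, 0, 0, 0, 0, 0, 0, 0, 0, 0, 0, 0, 0, 0],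
  [0, 0, 0, 0, 0, 0, 0, 0, 0, 4, 0, 0, 0, 0, 0, 0, 0, 0, 0, 0, 0, 0, 0, 0, 0, 0, 0, 0, 0, 0, 0, 0, 0, 0, 0, 0, 0, 0, 0, 0, 0, 0, 0, 0, 0, 0, 0, 0, 0, 0, 0, 0, 0, 0, 0, 0],
  [0, 0, 0, 0, 0, 0, 0, 0, 0, 0, 4, 0, 0, 0, 0, 0, 0, 0, 0, 0, 0, 0, 0, 0, 0, 0, 0, 0, 0, 0, 0, 0, 0, 0, 0, 0, 0, 0, 0, 0, 0, 0, 0, 0, 0, 0, 0, 0, 0, 0, 0, 0, 0, 0, 0, 0],
  [0, 0, 0, 0, 0, 0, 0, 0, 0, 0, 0, 4, 0, 0, 0, 0, 0, 0, 0, 0, 0, 0, 0, 0, 0, 0, 0, 0, 0, 0, 0, 0, 0, 0, 0, 0, 0, 0, 0, 0, 0, 0, 0, 0, 0, 0, 0, 0, 0, 0, 0, 0, 0, 0, 0, 0],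
  [0, 0, 0, 0, 0, 0, 0, 0, 0, 0, 0, 0, 4, 0, 0, 0, 0, 0, 0, 0, 0, 0, 0, 0, 0, 0, 0, 0, 0, 0, 0, 0, 0, 0, 0, 0, 0, 0, 0, 0, 0, 0, 0, 0, 0, 0, 0, 0, 0, 0, 0, 0, 0, 0, 0, 0],
  [0, 0, 0, 0, 0, 0, 0, 0, 0, 0, 0, 0, 0, 4, 0, 0, 0, 0, 0, 0, 0, 0, 0, 0, 0, 0, 0, 0, 0, 0, 0, 0, 0, 0, 0, 0, 0, 0, 0, 0, 0, 0, 0, 0, 0, 0, 0, 0, 0, 0, 0, 0, 0, 0, 0, 0],
  [0, 0, 0, 0, 0, 0, 0, 0, 0, 0, 0, 0, 0, 0, 4, 0, 0, 0, 0, 0, 0, 0, 0, 0, 0, 0, 0, 0, 0, 0, 0, 0, 0, 0, 0, 0, 0, 0, 0, 0, 0, 0, 0, 0, 0, 0, 0, 0, 0, 0, 0, 0, 0, 0, 0, 0]]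

/-- Part of the data. -/
def spanImg7 : List (List ℤ) := [
  [0, 0, 0, 0, 0, 0, 0, 0, 0, 0, 0, 0, 0, 0, 0, 4, 0, 0, 0, 0, 0, 0, 0, 0, 0, 0, 0, 0, 0, 0, 0, 0, 0, 0, 0, 0, 0, 0, 0, 0, 0, 0, 0, 0, 0, 0, 0, 0, 0, 0, 0, 0, 0, 0, 0, 0],
  [0, 0, 0, 0, 0, 0, 0, 0, 0, 0, 0, 0, 0, 0, 0, 0, 4, 0, 0, 0, 0, 0, 0, 0, 0, 0, 0, 0, 0, 0, 0, 0, 0, 0, 0, 0, 0, 0, 0, 0, 0, 0, 0, 0, 0, 0, 0, 0, 0, 0, 0, 0, 0, 0, 0, 0],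
  [0, 0, 0, 0, 0, 0, 0, 0, 0, 0, 0, 0, 0, 0, 0, 0, 0, 4, 0, 0, 0, 0, 0, 0, 0, 0, 0, 0, 0, 0, 0, 0, 0, 0, 0, 0, 0, 0, 0, 0, 0, 0, 0, 0, 0, 0, 0, 0, 0, 0, 0, 0, 0, 0, 0, 0],
  [0, 0, 0, 0, 0, 0, 0, 0, 0, 0, 0, 0, 0, 0, 0, 0, 0, 0, 4, 0, 0, 0, 0, 0, 0, 0, 0, 0, 0, 0, 0, 0, 0, 0, 0, 0, 0, 0, 0, 0, 0, 0, 0, 0, 0, 0, 0, 0, 0, 0, 0, 0, 0, 0, 0, 0],
  [0, 0, 0, 0, 0, 0, 0, 0, 0, 0, 0, 0, 0, 0, 0, 0, 0, 0, 0, 4, 0, 0, 0, 0, 0, 0, 0, 0, 0, 0, 0, 0, 0, 0, 0, 0, 0, 0, 0, 0, 0, 0, 0, 0, 0, 0, 0, 0, 0, 0, 0, 0, 0, 0, 0, 0],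
  [0, 0, 0, 0, 0, 0, 0, 0, 0, 0, 0, 0, 0, 0, 0, 0, 0, 0, 0, 0, 4, 0, 0, 0, 0, 0, 0, 0, 0, 0, 0, 0, 0, 0, 0, 0, 0, 0, 0, 0, 0, 0, 0, 0, 0, 0, 0, 0, 0, 0, 0, 0, 0, 0, 0, 0],
  [0, 0, 0, 0, 0, 0, 0, 0, 0, 0, 0, 0, 0, 0, 0, 0, 0, 0, 0, 0, 0, 4, 0, 0, 0, 0, 0, 0, 0, 0, 0, 0, 0, 0, 0, 0, 0, 0, 0, 0, 0, 0, 0, 0, 0, 0, 0, 0, 0, 0, 0, 0, 0, 0, 0, 0],
  [0, 0, 0, 0, 0, 0, 0, 0, 0, 0, 0, 0, 0, 0, 0, 0, 0, 0, 0, 0, 0, 0, 4, 0, 0, 0, 0, 0, 0, 0, 0, 0, 0, 0, 0, 0, 0, 0, 0, 0, 0, 0, 0, 0, 0, 0, 0, 0, 0, 0, 0, 0, 0, 0, 0, 0]]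

/-- Part of the data. -/
def spanImg8 : List (List ℤ) := [
  [0, 0, 0, 0, 0, 0, 0, 0, 0, 0, 0, 0, 0, 0, 0, 0, 0, 0, 0, 0, 0, 0, 0, 4, 0, 0, 0, 0, 0, 0, 0, 0, 0, 0, 0, 0, 0, 0, 0, 0, 0, 0, 0, 0, 0, 0, 0, 0, 0, 0, 0, 0, 0, 0, 0, 0],
  [0, 0, 0, 0, 0, 0, 0, 0, 0, 0, 0, 0, 0, 0, 0, 0, 0, 0, 0, 0, 0, 0, 0, 0, 4, 0, 0, 0, 0, 0, 0, 0, 0, 0, 0, 0, 0, 0, 0, 0, 0, 0, 0, 0, 0, 0, 0, 0, 0, 0, 0, 0, 0, 0, 0, 0],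
  [0, 0, 0, 0, 0, 0, 0, 0, 0, 0, 0, 0, 0, 0, 0, 0, 0, 0, 0, 0, 0, 0, 0, 0, 0, 4, 0, 0, 0, 0, 0, 0, 0, 0, 0, 0, 0, 0, 0, 0, 0, 0, 0, 0, 0, 0, 0, 0, 0, 0, 0, 0, 0, 0, 0, 0],
  [0, 0, 0, 0, 0, 0, 0, 0, 0, 0, 0, 0, 0, 0, 0, 0, 0, 0, 0, 0, 0, 0, 0, 0, 0, 0, 4, 0, 0, 0, 0, 0, 0, 0, 0, 0, 0, 0, 0, 0, 0, 0, 0, 0, 0, 0, 0, 0, 0, 0, 0, 0, 0, 0, 0, 0],
  [0, 0, 0, 0, 0, 0, 0, 0, 0, 0, 0, 0, 0, 0, 0, 0, 0, 0, 0, 0, 0, 0, 0, 0, 0, 0, 0, 4, 0, 0, 0, 0, 0, 0, 0, 0, 0, 0, 0, 0, 0, 0, 0, 0, 0, 0, 0, 0, 0, 0, 0, 0, 0, 0, 0, 0],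
  [0, 0, 0, 0, 0, 0, 0, 0, 0, 0, 0, 0, 0, 0, 0, 0, 0, 0, 0, 0, 0, 0, 0, 0, 0, 0, 0, 0, 4, 0, 0, 0, 0, 0, 0, 0, 0, 0, 0, 0, 0, 0, 0, 0, 0, 0, 0, 0, 0, 0, 0, 0, 0, 0, 0, 0],
  [0, 0, 0, 0, 0, 0, 0, 0, 0, 0, 0, 0, 0, 0, 0, 0, 0, 0, 0, 0, 0, 0, 0, 0, 0, 0, 0, 0, 0, 4, 0, 0, 0, 0, 0, 0, 0, 0, 0, 0, 0, 0, 0, 0, 0, 0, 0, 0, 0, 0, 0, 0, 0, 0, 0, 0],
  [0, 0, 0, 0, 0, 0, 0, 0, 0, 0, 0, 0, 0, 0, 0, 0, 0, 0, 0, 0, 0, 0, 0, 0, 0, 0, 0, 0, 0, 0, 4, 0, 0, 0, 0, 0, 0, 0, 0, 0, 0, 0, 0, 0, 0, 0, 0, 0, 0, 0, 0, 0, 0, 0, 0, 0]]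

/-- Part of the data. -/
def spanImg9 : List (List ℤ) := [
  [0, 0, 0, 0, 0, 0, 0, 0, 0, 0, 0, 0, 0, 0, 0, 0, 0, 0, 0, 0, 0, 0, 0, 0, 0, 0, 0, 0, 0, 0, 0, 4, 0, 0, 0, 0, 0, 0, 0, 0, 0, 0, 0, 0, 0, 0, 0, 0, 0, 0, 0, 0, 0, 0, 0, 0],
  [0, 0, 0, 0, 0, 0, 0, 0, 0, 0, 0, 0, 0, 0, 0, 0, 0, 0, 0, 0, 0, 0, 0, 0, 0, 0, 0, 0, 0, 0, 0, 0, 4, 0, 0, 0, 0, 0, 0, 0, 0, 0, 0, 0, 0, 0, 0, 0, 0, 0, 0, 0, 0, 0, 0, 0],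
  [0, 0, 0, 0, 0, 0, 0, 0, 0, 0, 0, 0, 0, 0, 0, 0, 0, 0, 0, 0, 0, 0, 0, 0, 0, 0, 0, 0, 0, 0, 0, 0, 0, 4, 0, 0, 0, 0, 0, 0, 0, 0, 0, 0, 0, 0, 0, 0, 0, 0, 0, 0, 0, 0, 0, 0],
  [0, 0, 0, 0, 0, 0, 0, 0, 0, 0, 0, 0, 0, 0, 0, 0, 0, 0, 0, 0, 0, 0, 0, 0, 0, 0, 0, 0, 0, 0, 0, 0, 0, 0, 4, 0, 0, 0, 0, 0, 0, 0, 0, 0, 0, 0, 0, 0, 0, 0, 0, 0, 0, 0, 0, 0],
  [0, 0, 0, 0, 0, 0, 0, 0, 0, 0, 0, 0, 0, 0, 0, 0, 0, 0, 0, 0, 0, 0, 0, 0, 0, 0, 0, 0, 0, 0, 0, 0, 0, 0, 0, 4, 0, 0, 0, 0, 0, 0, 0, 0, 0, 0, 0, 0, 0, 0, 0, 0, 0, 0, 0, 0],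
  [0, 0, 0, 0, 0, 0, 0, 0, 0, 0, 0, 0, 0, 0, 0, 0, 0, 0, 0, 0, 0, 0, 0, 0, 0, 0, 0, 0, 0, 0, 0, 0, 0, 0, 0, 0, 4, 0, 0, 0, 0, 0, 0, 0, 0, 0, 0, 0, 0, 0, 0, 0, 0, 0, 0, 0],
  [0, 0, 0, 0, 0, 0, 0, 0, 0, 0, 0, 0, 0, 0, 0, 0, 0, 0, 0, 0, 0, 0, 0, 0, 0, 0, 0, 0, 0, 0, 0, 0, 0, 0, 0, 0, 0, 4, 0, 0, 0, 0, 0, 0, 0, 0, 0, 0, 0, 0, 0, 0, 0, 0, 0, 0],
  [0, 0, 0, 0, 0, 0, 0, 0, 0, 0, 0, 0, 0, 0, 0, 0, 0, 0, 0, 0, 0, 0, 0, 0, 0, 0, 0, 0, 0, 0, 0, 0, 0, 0, 0, 0, 0, 0, 4, 0, 0, 0, 0, 0, 0, 0, 0, 0, 0, 0, 0, 0, 0, 0, 0, 0]]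

/-- Part of the data. -/
def spanImg10 : List (List ℤ) := [
  [0, 0, 0, 0, 0, 0, 0, 0, 0, 0, 0, 0, 0, 0, 0, 0, 0, 0, 0, 0, 0, 0, 0, 0, 0, 0, 0, 0, 0, 0, 0, 0, 0, 0, 0, 0, 0, 0, 0, 4, 0, 0, 0, 0, 0, 0, 0, 0, 0, 0, 0, 0, 0, 0, 0, 0],
  [0, 0, 0, 0, 0, 0, 0, 0, 0, 0, 0, 0, 0, 0, 0, 0, 0, 0, 0, 0, 0, 0, 0, 0, 0, 0, 0, 0, 0, 0, 0, 0, 0, 0, 0, 0, 0, 0, 0, 0, 4, 0, 0, 0, 0, 0, 0, 0, 0, 0, 0, 0, 0, 0, 0, 0],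
  [0, 0, 0, 0, 0, 0, 0, 0, 0, 0, 0, 0, 0, 0, 0, 0, 0, 0, 0, 0, 0, 0, 0, 0, 0, 0, 0, 0, 0, 0, 0, 0, 0, 0, 0, 0, 0, 0, 0, 0, 0, 4, 0, 0, 0, 0, 0, 0, 0, 0, 0, 0, 0, 0, 0, 0],
  [0, 0, 0, 0, 0, 0, 0, 0, 0, 0, 0, 0, 0, 0, 0, 0, 0, 0, 0, 0, 0, 0, 0, 0, 0, 0, 0, 0, 0, 0, 0, 0, 0, 0, 0, 0, 0, 0, 0, 0, 0, 0, 4, 0, 0, 0, 0, 0, 0, 0, 0, 0, 0, 0, 0, 0],
  [0, 0, 0, 0, 0, 0, 0, 0, 0, 0, 0, 0, 0, 0, 0, 0, 0, 0, 0, 0, 0, 0, 0, 0, 0, 0, 0, 0, 0, 0, 0, 0, 0, 0, 0, 0, 0, 0, 0, 0, 0, 0, 0, 4, 0, 0, 0, 0, 0, 0, 0, 0, 0, 0, 0, 0],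
  [0, 0, 0, 0, 0, 0, 0, 0, 0, 0, 0, 0, 0, 0, 0, 0, 0, 0, 0, 0, 0, 0, 0, 0, 0, 0, 0, 0, 0, 0, 0, 0, 0, 0, 0, 0, 0, 0, 0, 0, 0, 0, 0, 0, 4, 0, 0, 0, 0, 0, 0, 0, 0, 0, 0, 0],
  [0, 0, 0, 0, 0, 0, 0, 0, 0, 0, 0, 0, 0, 0, 0, 0, 0, 0, 0, 0, 0, 0, 0, 0, 0, 0, 0, 0, 0, 0, 0, 0, 0, 0, 0, 0, 0, 0, 0, 0, 0, 0, 0, 0, 0, 4, 0, 0, 0, 0, 0, 0, 0, 0, 0, 0],
  [0, 0, 0, 0, 0, 0, 0, 0, 0, 0, 0, 0, 0, 0, 0, 0, 0, 0, 0, 0, 0, 0, 0, 0, 0, 0, 0, 0, 0, 0, 0, 0, 0, 0, 0, 0, 0, 0, 0, 0, 0, 0, 0, 0, 0, 0, 4, 0, 0, 0, 0, 0, 0, 0, 0, 0]]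

/-- Part of the data. -/
def spanImg11 : List (List ℤ) := [
  [0, 0, 0, 0, 0, 0, 0, 0, 0, 0, 0, 0, 0, 0, 0, 0, 0, 0, 0, 0, 0, 0, 0, 0, 0, 0, 0, 0, 0, 0, 0, 0, 0, 0, 0, 0, 0, 0, 0, 0, 0, 0, 0, 0, 0, 0, 0, 4, 0, 0, 0, 0, 0, 0, 0, 0],
  [0, 0, 0, 0, 0, 0, 0, 0, 0, 0, 0, 0, 0, 0, 0, 0, 0, 0, 0, 0, 0, 0, 0, 0, 0, 0, 0, 0, 0, 0, 0, 0, 0, 0, 0, 0, 0, 0, 0, 0, 0, 0, 0, 0, 0, 0, 0, 0, 4, 0, 0, 0, 0, 0, 0, 0],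
  [0, 0, 0, 0, 0, 0, 0, 0, 0, 0, 0, 0, 0, 0, 0, 0, 0, 0, 0, 0, 0, 0, 0, 0, 0, 0, 0, 0, 0, 0, 0, 0, 0, 0, 0, 0, 0, 0, 0, 0, 0, 0, 0, 0, 0, 0, 0, 0, 0, 4, 0, 0, 0, 0, 0, 0],
  [0, 0, 0, 0, 0, 0, 0, 0, 0, 0, 0, 0, 0, 0, 0, 0, 0, 0, 0, 0, 0, 0, 0, 0, 0, 0, 0, 0, 0, 0, 0, 0, 0, 0, 0, 0, 0, 0, 0, 0, 0, 0, 0, 0, 0, 0, 0, 0, 0, 0, 4, 0, 0, 0, 0, 0],
  [0, 0, 0, 0, 0, 0, 0, 0, 0, 0, 0, 0, 0, 0, 0, 0, 0, 0, 0, 0, 0, 0, 0, 0, 0, 0, 0, 0, 0, 0, 0, 0, 0, 0, 0, 0, 0, 0, 0, 0, 0, 0, 0, 0, 0, 0, 0, 0, 0, 0, 0, 4, 0, 0, 0, 0],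
  [0, 0, 0, 0, 0, 0, 0, 0, 0, 0, 0, 0, 0, 0, 0, 0, 0, 0, 0, 0, 0, 0, 0, 0, 0, 0, 0, 0, 0, 0, 0, 0, 0, 0, 0, 0, 0, 0, 0, 0, 0, 0, 0, 0, 0, 0, 0, 0, 0, 0, 0, 0, 4, 0, 0, 0],
  [0, 0, 0, 0, 0, 0, 0, 0, 0, 0, 0, 0, 0, 0, 0, 0, 0, 0, 0, 0, 0, 0, 0, 0, 0, 0, 0, 0, 0, 0, 0, 0, 0, 0, 0, 0, 0, 0, 0, 0, 0, 0, 0, 0, 0, 0, 0, 0, 0, 0, 0, 0, 0, 4, 0, 0],
  [0, 0, 0, 0, 0, 0, 0, 0, 0, 0, 0, 0, 0, 0, 0, 0, 0, 0, 0, 0, 0, 0, 0, 0, 0, 0, 0, 0, 0, 0, 0, 0, 0, 0, 0, 0, 0, 0, 0, 0, 0, 0, 0, 0, 0, 0, 0, 0, 0, 0, 0, 0, 0, 0, 4, 0]]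

/-- Part of the data. -/
def spanImg12 : List (List ℤ) := [
  [0, 0, 0, 0, 0, 0, 0, 0, 0, 0, 0, 0, 0, 0, 0, 0, 0, 0, 0, 0, 0, 0, 0, 0, 0, 0, 0, 0, 0, 0, 0, 0, 0, 0, 0, 0, 0, 0, 0, 0, 0, 0, 0, 0, 0, 0, 0, 0, 0, 0, 0, 0, 0, 0, 0, 4]]

/-- Their coordinates. -/
def spanImg : List (List ℤ) := spanImg0 ++ spanImg1 ++ spanImg2 ++ spanImg3 ++ spanImg4 ++ spanImg5 ++ spanImg6 ++ spanImg7 ++ spanImg8 ++ spanImg9 ++ spanImg10 ++ spanImg11 ++ spanImg12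

/-- Part of the data. -/
def spanCmb0 : List (List (ℕ × ℤ)) := [
  [(1, -1), (2, 1), (3, 2), (4, 2), (5, -1), (6, 2), (7, -1), (8, 1), (10, -1), (11, -1), (12, -1), (13, 2), (14, 2), (15, -1), (17, -1), (19, 1), (20, -1), (21, -1), (23, 2), (24, 1), (25, 1), (27, -1), (28, 2), (29, -1), (30, 1), (32, 1), (38, 1), (39, -1), (40, 2), (41, -1), (42, -2), (43, 1), (44, -1), (47, -1), (49, -1), (50, 1), (53, 1), (54, 2), (57, -1), (59, 1), (61, 1), (62, 1), (63, -1), (66, -1), (71, -1), (72, -1), (75, -2), (77, 1), (78, 1), (82, 1), (84, 1), (86, 1), (87, 1), (88, -1), (92, 2), (93, 1), (94, -1), (96, 1)],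
  [(0, -1), (1, 1), (2, -1), (3, 1), (7, -1), (9, 2), (11, 1), (12, 1), (16, 1), (17, -1), (18, -1), (19, 1), (20, 1), (22, 1), (23, 1), (25, 1), (28, 2), (29, 2), (30, 2), (31, 1), (34, 1), (37, 1), (38, 2), (39, 1), (40, 1), (42, -2), (44, 1), (46, 1), (47, -1), (49, 1), (50, -1), (52, -1), (54, 1), (56, 1), (63, 2), (64, -1), (65, -1), (70, -1), (71, -1), (72, -1), (73, 1), (77, -1), (78, 2), (83, -1), (84, 2), (85, -1), (86, 2), (87, 1), (88, 1), (91, 1), (92, 1), (93, 2), (95, 1)],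
  [(0, -1), (2, 1), (4, 1), (5, -1), (6, -1), (7, 1), (8, 2), (9, -1), (11, -1), (12, 1), (13, 1), (14, -1), (16, 2), (17, 1), (18, 2), (19, -1), (20, 1), (21, 2), (22, 1), (24, -1), (25, 1), (28, -1), (30, 2), (32, 1), (34, -1), (36, 1), (37, 2), (40, 1), (41, -2), (42, -1), (43, 3), (44, -3), (45, -1), (46, 1), (47, -1), (49, 1), (51, 1), (52, -1), (53, -1), (54, 2), (56, 1), (58, 1), (59, -1), (62, -2), (63, -1), (64, 1), (65, -1), (68, -1), (69, -2), (74, -1), (75, -1), (78, 1), (81, 1), (82, -1), (86, -1), (89, -2), (90, -1), (93, 1), (95, -1)],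
  [(0, 1), (1, 1), (2, -1), (3, -1), (4, 1), (5, 2), (6, 1), (7, 1), (9, 2), (10, -1), (11, 2), (12, 1), (13, -1), (14, -1), (15, 2), (16, 2), (18, 1), (19, 1), (20, -1), (22, 2), (23, 2), (24, 1), (26, -1), (27, 1), (28, 1), (29, -1), (30, 1), (31, -1), (32, -1), (33, 1), (34, 1), (37, -1), (38, -1), (41, -2), (43, -1), (46, 2), (48, -2), (49, -1), (50, -1), (51, -1), (54, 1), (55, -1), (58, -1), (60, 1), (61, -1), (63, 1), (64, 1), (67, -1), (68, -1), (69, 1), (70, -1), (71, -2), (73, 1), (74, -1), (79, 1), (80, -1), (81, -1), (82, -1), (84, 2), (85, 1), (86, 2), (87, -1), (90, -1), (91, 1), (92, 1), (93, -1), (95, 1), (96, -1)],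
  [(1, 2), (3, 1), (4, -1), (7, 2), (9, 2), (11, -1), (12, -1), (13, 1), (15, -1), (16, -1), (17, 1), (18, 2), (19, -1), (20, 1), (22, 1), (23, 1), (25, -1), (26, -1), (27, -1), (28, -1), (29, -1), (30, 2), (31, -1), (32, -1), (33, 1), (34, -1), (36, 1), (37, 1), (39, 1), (40, 2), (41, -2), (42, -4), (43, 1), (46, -1), (49, -1), (52, -1), (53, -2), (58, -1), (60, -1), (61, -2), (62, -2), (63, 1), (64, 1), (65, -1), (66, 1), (67, 1), (68, -1), (69, -2), (71, -1), (72, 1), (73, 1), (74, -1), (75, -1), (78, 1), (81, -1), (82, -1), (83, -1), (84, 1), (86, 2), (87, 1), (88, -1), (89, -1), (93, 1), (95, 1), (96, -2)],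
  [(0, 2), (1, 1), (2, 1), (3, 1), (4, 2), (6, -1), (7, 1), (9, 2), (11, -1), (12, 1), (13, -1), (14, 2), (16, -1), (17, 2), (18, 2), (19, 2), (21, -1), (22, 1), (23, 2), (24, 2), (25, -1), (26, 2), (28, 1), (29, -1), (30, -1), (31, -1), (32, 1), (33, 1), (34, 2), (35, 1), (36, 1), (38, 2), (39, 2), (41, -1), (42, -1), (43, 1), (44, -2), (47, 1), (48, 1), (49, -2), (50, -1), (51, -2), (52, 1), (53, -1), (54, 2), (56, 1), (57, -1), (59, -1), (61, -2), (62, 1), (63, -1), (64, -2), (65, -2), (66, 1), (68, -1), (71, -1), (73, 2), (74, -1), (75, 1), (76, -2), (77, 1), (79, -1), (80, 1), (81, -1), (82, 2), (83, -1), (84, 2), (86, 1), (90, -1), (91, 1), (93, 1), (95, 1)],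
  [(0, -1), (1, 2), (2, 1), (3, -1), (5, 1), (7, 2), (8, 1), (9, 2), (10, 1), (11, -1), (12, 2), (13, -1), (14, -1), (15, 1), (18, -1), (21, -1), (22, -1), (23, 1), (25, 2), (27, 1), (28, 2), (29, 2), (30, 2), (31, 1), (32, -1), (34, 1), (37, 1), (38, 1), (39, 2), (40, 2), (41, -1), (42, -2), (44, -1), (45, 1), (46, 1), (49, 1), (50, -1), (52, 1), (53, -1), (54, 1), (55, -1), (56, 1), (59, -1), (60, -1), (61, -1), (62, -1), (63, 2), (65, -2), (66, 1), (68, 1), (69, 2), (70, -1), (71, -1), (73, 1), (74, -1), (75, 1), (76, -1), (77, -1), (78, 2), (79, -1), (80, 2), (83, -1), (85, -1), (86, 1), (88, 2), (89, -1), (92, 2), (95, 1), (96, -1)],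
  [(0, 1), (3, -1), (4, -1), (5, -1), (9, 2), (10, -1), (11, 1), (12, 1), (13, 2), (14, 1), (16, 2), (19, 2), (20, -1), (21, 2), (22, 1), (23, -1), (24, -1), (25, 2), (28, 2), (32, -1), (36, 1), (37, 1), (38, 2), (39, -1), (41, -2), (42, -1), (43, -1), (44, 1), (45, -1), (46, 1), (51, 1), (53, 2), (54, 2), (57, -1), (58, 1), (61, 1), (62, 2), (65, 1), (67, -1), (68, -1), (69, -1), (70, -1), (73, 1), (75, 1), (76, -1), (83, -2), (84, 2), (87, -1), (89, -2), (91, -1), (92, 1), (93, 1), (95, -1), (96, 1)]]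

/-- Part of the data. -/
def spanCmb1 : List (List (ℕ × ℤ)) := [
  [(1, -1), (2, -1), (3, 1), (4, -1), (6, 2), (7, 1), (10, -1), (11, -1), (13, -1), (14, -1), (15, 1), (16, 2), (18, -1), (20, -1), (22, -1), (23, -1), (24, 1), (25, 2), (27, -1), (28, 2), (31, 1), (32, 1), (37, 1), (38, 2), (39, 2), (40, 2), (41, -1), (42, -1), (43, -2), (45, 1), (51, 1), (53, 1), (54, 1), (55, -1), (61, 2), (62, 1), (63, 1), (64, -1), (65, -1), (66, 1), (71, 1), (72, -1), (74, -1), (75, -1), (76, 1), (78, 2), (80, 1), (82, 1), (83, -1), (84, 1), (90, 1), (93, 1), (95, -1)],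
  [(0, -1), (1, -1), (4, 1), (5, 2), (7, -1), (8, -1), (10, 1), (13, -1), (14, -1), (15, 2), (16, 2), (17, 1), (18, -1), (21, 2), (22, 2), (23, 1), (24, 2), (25, 2), (26, -1), (28, 2), (29, 2), (32, 1), (34, -1), (35, 1), (36, 1), (37, 2), (38, 1), (40, 2), (41, -1), (42, -1), (45, -1), (46, 2), (48, -1), (49, 1), (51, 1), (52, -2), (53, -1), (54, 1), (55, 1), (56, -1), (59, -1), (60, 2), (62, -1), (63, 2), (65, -1), (66, -2), (70, -1), (71, -1), (73, 1), (74, 1), (75, -1), (76, 1), (79, 1), (81, -1), (84, 1), (85, -1), (86, 1), (88, 1), (89, 1), (93, 1), (94, 1), (96, -2)],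
  [(0, 1), (1, -1), (2, 1), (3, 2), (5, 1), (7, 2), (8, -1), (9, -1), (10, 2), (11, 1), (12, 1), (13, -1), (14, 1), (15, -1), (16, 2), (17, -1), (18, 2), (19, 2), (20, 2), (21, -1), (22, 2), (24, -1), (25, 2), (27, 2), (29, -1), (30, 2), (31, -1), (34, -1), (36, 1), (37, 1), (38, 1), (39, 2), (40, 2), (41, -2), (42, -3), (44, -1), (45, 1), (47, 1), (51, 1), (53, 1), (54, 2), (56, 1), (58, -2), (59, -1), (60, 1), (61, -1), (63, 1), (64, 1), (65, 1), (66, 1), (67, 1), (69, -2), (70, -1), (72, 1), (73, 2), (74, -1), (75, -2), (77, -2), (78, 2), (79, -1), (80, -1), (81, -1), (82, -1), (84, 2), (86, 1), (89, -2), (90, 2), (91, -1), (93, 2), (96, -1)],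
  [(0, 1), (1, -1), (2, 2), (5, -1), (6, 1), (7, 2), (8, 1), (9, 2), (11, -1), (13, 2), (14, 1), (15, 2), (16, 1), (17, -1), (18, 2), (19, 2), (20, 2), (22, -1), (23, 1), (24, 1), (26, -1), (27, 1), (30, 2), (31, -1), (33, 1), (34, -1), (36, 1), (37, 1), (38, 1), (39, 2), (41, -3), (42, -3), (43, 2), (44, -1), (46, 1), (48, -1), (49, -1), (50, -1), (52, 2), (54, 2), (55, -1), (56, -1), (57, -1), (59, -1), (64, 1), (65, -1), (68, -1), (69, -2), (71, -1), (72, 1), (73, 3), (74, -2), (75, -1), (76, -2), (78, 1), (79, -1), (82, -2), (83, -1), (84, 1), (86, 1), (92, 1), (94, -1), (95, 1), (96, 1)],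
  [(1, -1), (3, -1), (5, 2), (6, 1), (7, -1), (9, -1), (10, -1), (11, 2), (13, -1), (14, 2), (15, -1), (16, -1), (17, 2), (18, 2), (19, 2), (20, 2), (21, 1), (23, -1), (24, 2), (25, 1), (27, 2), (28, 2), (29, 1), (30, 2), (31, 1), (32, -1), (34, 1), (37, -1), (38, -1), (39, 2), (40, 2), (43, -3), (44, 2), (47, -1), (53, -2), (55, 1), (57, -2), (58, -2), (59, -1), (61, -1), (62, -1), (63, -1), (64, 2), (65, -1), (66, -1), (67, -1), (68, 2), (70, -1), (71, -2), (73, 2), (74, -1), (75, 2), (76, 1), (80, 1), (81, 2), (83, 1), (84, 2), (86, 2), (87, 1), (88, 1), (89, 2), (90, 1), (92, 1), (93, 2), (95, 2), (96, -1)],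
  [(0, -1), (1, 1), (2, -1), (3, -1), (4, 2), (5, 1), (6, 1), (7, 1), (8, -1), (9, 1), (10, 1), (11, 2), (13, -1), (15, 1), (17, 2), (19, 1), (21, 1), (22, 2), (23, 1), (24, -1), (27, 1), (28, 2), (30, 2), (31, -1), (34, -1), (36, 1), (41, -1), (43, -1), (44, 1), (46, 1), (48, -1), (53, -2), (54, 1), (56, 1), (58, -1), (59, -1), (60, 1), (61, -1), (62, -1), (64, 1), (67, -2), (69, -1), (70, -1), (71, -1), (73, 1), (75, 1), (77, -1), (79, 1), (81, -1), (84, 2), (86, 3), (90, -1), (92, 1), (94, 1), (95, 2), (96, -2)],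
  [(0, 2), (1, 1), (2, 1), (3, 2), (4, 2), (6, 1), (7, -1), (8, 2), (10, -1), (11, 2), (12, 1), (13, 1), (18, 2), (19, 2), (20, 2), (22, 2), (24, 2), (25, 1), (26, -1), (27, -1), (28, -1), (29, -1), (30, 2), (31, -1), (32, -1), (33, 1), (36, 1), (38, 2), (39, 2), (40, 2), (41, -3), (43, 1), (44, -1), (46, -1), (47, -1), (48, -1), (50, -1), (51, -1), (52, -1), (53, -1), (54, 2), (56, 1), (57, -1), (58, -2), (59, -1), (60, -1), (61, -1), (65, -2), (66, 1), (68, -1), (69, -1), (71, -1), (72, 1), (73, 3), (74, -2), (75, -1), (77, 1), (78, 2), (80, -1), (82, -1), (84, 3), (86, 1), (87, 1), (93, 3), (95, 1)],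
  [(0, 1), (1, 2), (2, -1), (3, 2), (4, -1), (5, 1), (6, 2), (8, 2), (9, -1), (12, -1), (17, 1), (18, 1), (20, -1), (21, 2), (22, 2), (23, 2), (24, -1), (25, 1), (26, -1), (27, -1), (28, -1), (29, 2), (30, -1), (31, -1), (32, -1), (33, 1), (34, -1), (36, 1), (38, 2), (39, 2), (40, 2), (41, -2), (42, -2), (43, -2), (44, 1), (48, -1), (52, -2), (53, -2), (54, 1), (55, -1), (56, 1), (58, -1), (59, -1), (63, 2), (64, 1), (65, -1), (66, 1), (71, 1), (72, 1), (74, -1), (75, -1), (76, 1), (77, 1), (78, 2), (79, 1), (80, -1), (81, -1), (82, -1), (83, -1), (84, 2), (85, 1), (88, 1), (90, 1), (93, 1), (94, 1), (95, -1), (96, -2)]]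

/-- Part of the data. -/
def spanCmb2 : List (List (ℕ × ℤ)) := [
  [(2, 1), (4, -1), (5, -1), (6, -1), (7, 2), (8, -1), (9, 2), (11, 1), (13, 2), (14, -1), (15, 2), (16, 1), (18, 1), (19, 1), (20, 1), (21, 2), (22, 1), (23, 1), (24, -1), (25, 1), (28, 2), (29, 1), (30, -1), (34, 1), (37, 1), (38, -1), (41, -2), (42, -2), (43, 1), (45, -2), (46, 2), (47, 1), (48, -1), (50, -1), (53, 1), (54, 1), (55, -1), (58, 2), (59, -1), (60, 2), (62, -1), (63, 1), (64, 2), (65, 1), (66, -1), (68, -1), (69, -1), (70, -1), (71, -1), (73, 1), (76, -1), (78, -1), (79, -1), (80, 1), (81, -1), (83, -1), (84, 1), (85, 1), (86, 1), (87, -1), (88, -1), (89, -1), (90, -1), (91, 1), (92, 1), (93, 1), (94, -1), (95, 1)],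
  [(0, -1), (1, 2), (4, 2), (5, 2), (6, -1), (8, 2), (10, 1), (11, -1), (12, 2), (13, 1), (15, -1), (17, -1), (20, 2), (21, 2), (22, 2), (23, -1), (24, 1), (26, -1), (27, -1), (28, 2), (29, 2), (30, 2), (31, 1), (32, 1), (35, 1), (37, 2), (39, 2), (40, 2), (41, -1), (42, -2), (43, 2), (44, -1), (45, -2), (46, 2), (47, -1), (49, 1), (50, -1), (51, 2), (52, -2), (53, -3), (55, 1), (58, 2), (59, -1), (61, -1), (62, -2), (63, 2), (65, -3), (66, -1), (69, -1), (70, -1), (71, -1), (72, -1), (73, 1), (74, -1), (78, 2), (80, 1), (85, -1), (86, 1), (87, 1), (88, 1), (89, -1), (93, 2), (94, 1), (95, 1)],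
  [(0, 2), (1, 2), (2, 1), (3, 2), (4, 1), (5, 2), (6, 1), (7, 2), (9, 2), (10, 2), (11, 2), (12, -1), (13, 1), (14, 2), (16, 2), (17, 1), (19, 1), (20, 2), (21, -1), (24, 1), (25, -1), (26, 2), (27, -1), (28, 1), (29, 1), (30, 2), (31, -1), (32, 1), (33, 1), (34, 2), (35, 1), (36, 1), (37, 2), (38, 2), (40, 2), (41, -4), (42, -2), (43, -2), (44, 2), (47, 1), (48, 1), (49, -1), (50, -1), (51, -1), (52, 1), (53, -2), (56, 1), (61, -1), (62, -1), (63, 1), (64, 1), (65, -1), (66, -1), (67, 1), (68, -1), (69, -1), (71, -2), (73, 2), (74, -1), (75, -1), (76, -1), (78, 1), (79, -1), (81, -2), (84, 2), (86, 2), (88, -1), (91, 1), (93, 1), (95, 2)],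
  [(0, 1), (1, 2), (2, 2), (4, 1), (5, 1), (6, -1), (9, 1), (10, -1), (12, -1), (14, 1), (15, 1), (17, -1), (18, -1), (19, -1), (20, -1), (22, 2), (24, 1), (25, 1), (26, 2), (28, 1), (29, 1), (32, -1), (33, 1), (35, 1), (38, 2), (39, 2), (42, -1), (44, -2), (45, -1), (49, -1), (51, -1), (53, -1), (54, 1), (58, -1), (61, -1), (62, 1), (63, -1), (64, -1), (65, -3), (66, 1), (68, 2), (69, 1), (70, -1), (73, 1), (74, -1), (75, 1), (78, 1), (81, -1), (86, 1), (88, 1), (89, -1), (93, -1), (94, 1)],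
  [(1, 2), (2, 2), (4, 2), (5, -1), (7, 2), (8, 2), (10, 1), (11, 2), (12, -1), (13, 1), (15, -1), (16, -1), (18, 2), (19, -1), (20, 2), (21, 2), (22, -1), (24, 1), (25, -1), (27, 2), (28, -1), (30, 1), (34, -1), (36, 1), (37, 1), (38, -1), (40, 2), (41, -3), (42, -1), (43, 2), (44, -1), (53, -3), (54, 1), (55, 1), (56, 1), (58, -1), (59, -1), (60, -1), (61, -2), (62, -3), (64, 3), (65, -1), (66, -1), (67, -1), (68, -1), (71, -1), (72, 1), (73, 2), (74, -1), (75, -1), (76, 1), (79, -1), (81, 1), (82, -1), (83, 1), (84, 1), (87, 1), (89, 1), (90, -1), (92, 1), (95, 2), (96, 1)],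
  [(1, 2), (2, 1), (5, 1), (6, 1), (7, 1), (8, 2), (10, 1), (12, -1), (13, 2), (14, 2), (15, 1), (16, -1), (18, 1), (19, 1), (20, 1), (21, 1), (22, 2), (23, -1), (24, 2), (25, 2), (26, -1), (28, 2), (29, 2), (32, 2), (34, -1), (35, 1), (37, 2), (39, 2), (41, -2), (42, -3), (44, -1), (45, -2), (46, 1), (48, -1), (49, -1), (51, 1), (53, -2), (54, 1), (56, -1), (57, -1), (58, 1), (59, -1), (60, 1), (62, 1), (63, 1), (65, -2), (66, -2), (67, -1), (68, 1), (69, -1), (70, -1), (72, -1), (73, 2), (74, -1), (77, 1), (80, 1), (83, -1), (85, -1), (86, 1), (88, -1), (92, 2), (93, 1), (94, 1), (95, 2)],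
  [(0, 1), (2, -1), (3, 2), (5, -1), (6, 1), (7, 2), (8, 2), (9, -1), (10, -1), (12, -1), (13, 1), (14, 2), (15, 2), (16, 2), (17, 1), (18, 1), (20, 1), (21, 1), (22, 2), (23, -1), (24, 2), (25, 2), (26, -1), (28, 2), (29, 2), (32, 2), (34, -1), (35, 1), (37, 2), (39, 2), (41, -3), (42, -3), (43, -1), (44, -2), (45, -2), (46, 1), (48, -1), (49, -1), (51, 1), (52, -1), (54, 3), (56, -1), (57, -1), (58, 1), (60, 2), (61, 2), (62, 1), (65, -1), (66, -2), (68, 1), (69, -2), (70, -1), (72, -1), (73, 1), (74, -2), (75, -1), (76, 1), (77, 1), (83, -1), (88, -1), (90, 1), (92, 1), (93, 1), (94, 1), (95, 1), (96, 1)],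
  [(0, -1), (1, -1), (2, 2), (3, -1), (7, 2), (8, -1), (9, 2), (10, 2), (11, 1), (12, -1), (13, -1), (14, 2), (16, 2), (18, -1), (19, -1), (21, 1), (25, 2), (26, -1), (27, 2), (28, -1), (29, 1), (31, 2), (33, 1), (34, -1), (36, 1), (38, 2), (39, 2), (40, 2), (41, -3), (42, -3), (43, -1), (47, 1), (49, -1), (51, 1), (53, -1), (54, 1), (55, 1), (56, -1), (57, -1), (58, -2), (59, -1), (60, -1), (61, -1), (62, -1), (64, 1), (66, -1), (67, 2), (68, 2), (69, 1), (71, 1), (73, 2), (75, -1), (77, -1), (78, 1), (79, -1), (81, -1), (82, -1), (84, 1), (85, -1), (88, 1), (89, 1), (90, 1), (93, -1), (95, -1), (96, -1)]]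

/-- Part of the data. -/
def spanCmb3 : List (List (ℕ × ℤ)) := [
  [(0, 1), (3, 2), (4, 2), (5, 1), (6, -1), (7, 2), (8, 1), (10, 1), (11, -1), (12, 2), (13, 1), (14, -1), (15, 2), (16, 2), (17, 2), (18, 2), (19, -1), (21, -1), (23, 1), (24, 1), (25, -1), (26, -1), (27, -1), (30, -1), (32, 2), (33, 1), (34, 1), (37, -1), (38, -1), (39, 2), (40, 2), (41, -4), (42, -1), (43, 2), (44, -2), (45, -1), (46, 1), (47, 1), (48, -1), (49, -1), (50, -2), (52, -1), (53, -1), (55, -2), (56, -1), (58, 1), (59, -1), (61, -1), (62, -2), (64, 1), (67, 2), (68, -1), (70, 1), (74, -1), (75, -1), (76, 1), (77, 2), (79, -1), (80, 1), (81, -1), (82, 1), (83, 1), (84, 1), (85, 2), (86, -1), (88, -1), (91, 2), (92, -1), (93, 1), (95, 1)],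
  [(66, 1)],
  [(67, 1)],
  [(68, 1)],
  [(0, -1), (2, 2), (3, 2), (5, -1), (6, -1), (8, -1), (10, -1), (11, 1), (12, 2), (14, -1), (15, 1), (16, -1), (17, 1), (18, 2), (21, 2), (22, -1), (24, 2), (25, 1), (26, 2), (29, -1), (30, -1), (31, -1), (32, 1), (33, 1), (34, 2), (35, 1), (36, 1), (37, -1), (38, 2), (39, -1), (41, -1), (42, 1), (43, 2), (44, -1), (49, 1), (50, -1), (51, -2), (53, 1), (56, 1), (58, 1), (59, -1), (60, -1), (61, -1), (63, -2), (64, -1), (65, -1), (66, 2), (67, 1), (68, -2), (70, 1), (71, -1), (73, 1), (74, 1), (75, 1), (77, 1), (78, -1), (79, -1), (81, 1), (82, 2), (84, 2), (87, 1), (90, -2), (91, 2), (93, 1), (94, -1), (95, 1), (96, 1)],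
  [(0, -1), (2, 2), (3, -1), (4, -1), (6, 2), (7, -1), (8, 2), (9, 2), (10, -1), (11, 2), (12, 1), (13, -1), (14, 1), (15, 2), (16, 1), (18, 2), (19, -1), (20, -1), (22, 1), (23, -1), (24, 2), (25, 1), (26, -1), (28, -1), (29, 1), (30, -1), (35, 1), (37, 1), (38, 2), (39, 1), (40, 1), (41, -3), (42, 1), (43, 1), (44, -2), (47, -1), (48, -1), (51, -1), (54, 1), (55, -1), (56, -1), (57, -1), (58, -1), (60, -1), (62, 1), (63, -1), (64, -1), (65, -1), (68, -1), (71, 1), (73, 2), (76, 1), (77, 1), (78, 1), (79, 1), (80, -1), (81, 2), (82, -1), (84, 2), (85, -1), (89, 1), (90, -1), (92, 1), (94, 1), (95, 1)],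
  [(0, 1), (1, -1), (2, 1), (3, 1), (4, -1), (5, 1), (6, -1), (8, 2), (9, -1), (10, 2), (11, 1), (12, 1), (13, 1), (14, -1), (15, 2), (16, 1), (17, 2), (18, 2), (20, -1), (22, 2), (24, -1), (25, -1), (27, 1), (29, 1), (30, 1), (34, -1), (36, 1), (37, 2), (39, 2), (40, 1), (41, -3), (43, 3), (44, 1), (45, -1), (48, -1), (52, -1), (53, -1), (54, 1), (55, -2), (56, -2), (58, -1), (59, -2), (62, -2), (64, 1), (68, -1), (69, -2), (70, -1), (71, 1), (73, 1), (74, -1), (76, 1), (78, 1), (80, 1), (83, 1), (85, 1), (86, -1), (87, -1), (88, 1), (89, -1), (90, 1), (91, 1), (92, -1), (94, 1), (95, 2), (96, -1)],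
  [(72, 1)]]

/-- Part of the data. -/
def spanCmb4 : List (List (ℕ × ℤ)) := [
  [(0, 1), (1, 2), (3, 1), (4, 1), (5, -1), (6, 2), (7, -1), (8, 1), (9, -1), (10, 2), (11, 2), (12, -1), (13, 2), (16, 2), (19, 1), (20, 1), (21, 1), (22, 2), (23, -1), (24, 1), (25, 2), (26, 2), (27, -1), (28, -1), (30, 1), (31, -1), (32, -1), (33, 1), (34, -1), (35, 1), (36, 1), (41, -2), (42, -2), (43, -1), (45, -1), (48, -1), (56, 2), (57, 1), (58, -1), (59, -1), (60, 1), (61, 1), (66, 1), (67, -2), (68, 1), (69, -1), (71, -1), (72, 1), (73, 2), (76, 1), (77, 1), (79, 1), (80, -1), (81, -1), (82, -1), (83, -1), (84, 1), (89, -1), (93, 1), (94, 1), (96, 1)],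
  [(0, 2), (1, -1), (2, 1), (3, 2), (4, 2), (5, -1), (7, -1), (8, 2), (9, 1), (10, 2), (12, -1), (13, 2), (16, 2), (17, 1), (18, -1), (22, 2), (25, 1), (29, 1), (30, 1), (32, 1), (34, -1), (36, 1), (41, -3), (42, -1), (43, 2), (44, 1), (45, -1), (48, -1), (49, -1), (50, -1), (51, 1), (52, -1), (54, 2), (59, -1), (61, 1), (62, -1), (63, -1), (65, 1), (66, -2), (69, -1), (73, 1), (75, -1), (77, 1), (81, -1), (85, 1), (90, 1), (92, 1), (93, 1), (94, 1), (96, 1)],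
  [(1, 2), (3, 1), (5, 2), (6, -1), (7, 2), (9, 2), (12, -1), (14, 1), (15, 2), (16, 2), (17, 2), (18, 1), (20, -1), (21, -1), (22, -1), (23, 1), (24, 2), (25, 1), (26, 2), (27, 2), (29, -1), (30, 2), (31, -1), (32, 1), (33, 1), (34, -1), (35, 1), (41, -2), (42, -4), (43, -1), (44, -1), (49, -2), (51, -1), (52, 1), (53, -1), (56, -1), (58, -1), (60, -1), (61, -2), (63, -1), (65, -2), (69, 1), (71, -1), (73, 1), (74, -1), (76, 1), (78, -1), (79, -1), (80, -1), (83, -1), (84, 1), (91, 1), (92, 1), (95, 1), (96, -1)],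
  [(76, 1)],
  [(2, -1), (3, 1), (5, 2), (6, 1), (8, 2), (9, -1), (10, 1), (11, 1), (12, 1), (13, 2), (14, 2), (16, 2), (17, -1), (18, -1), (21, -1), (23, -1), (24, 1), (25, -1), (27, -1), (28, 2), (29, 1), (30, -1), (31, 1), (32, 1), (41, -2), (43, -1), (45, -1), (46, 1), (51, 1), (53, 1), (54, -1), (56, -2), (58, 1), (59, 1), (60, 1), (61, 2), (62, 1), (63, 1), (65, 1), (66, -1), (67, 1), (68, 1), (72, -1), (76, 1), (77, 2), (80, 1), (82, 1), (83, 1), (86, -1), (87, 1), (89, 1), (90, 1), (91, 1), (94, 1), (95, 1), (96, 1)],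
  [(3, 2), (4, 1), (5, 1), (6, -1), (8, 1), (9, -1), (10, -1), (11, -1), (13, -1), (14, 2), (15, -1), (16, 1), (17, 2), (18, 1), (19, -1), (20, -1), (21, 2), (24, 2), (25, 1), (26, 2), (27, 2), (28, -1), (29, -1), (30, 2), (31, 2), (33, 1), (34, -1), (35, 1), (36, 1), (41, -1), (42, -2), (44, -1), (45, -1), (46, -1), (47, -1), (48, 1), (49, -1), (50, 1), (52, -1), (53, -1), (54, 1), (55, 2), (56, -1), (57, -1), (58, -1), (60, -1), (61, -1), (62, -1), (63, -3), (64, -1), (65, -3), (66, -1), (68, 1), (69, 1), (71, -1), (74, -1), (76, 1), (79, -1), (81, 1), (82, 1), (86, -1), (87, 1), (88, 3), (90, 1), (94, 1)],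
  [(1, 2), (2, -1), (3, 1), (4, 2), (5, -1), (6, 1), (7, 2), (8, 1), (9, -1), (10, -1), (12, 1), (13, 1), (15, 2), (16, 2), (17, 2), (18, 2), (19, 2), (20, 2), (21, 2), (24, -1), (25, 1), (26, -1), (27, -1), (28, -1), (29, -1), (31, -1), (32, 2), (33, 1), (34, 1), (41, -3), (43, -1), (44, -2), (45, -1), (46, 1), (48, -1), (50, -1), (53, -1), (54, 1), (55, -1), (56, 2), (57, -1), (58, 2), (59, -1), (60, 1), (64, 1), (65, -1), (67, -1), (68, -2), (69, -1), (70, 1), (74, -1), (75, -1), (76, -1), (77, 1), (83, -1), (84, 1), (85, 1), (88, -2), (89, -1), (90, -2), (91, 1), (93, 2), (96, 1)],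
  [(80, 1)]]

/-- Part of the data. -/
def spanCmb5 : List (List (ℕ × ℤ)) := [
  [(0, 2), (1, 2), (3, 2), (5, -1), (6, 2), (7, 2), (8, -1), (9, 1), (11, -1), (12, 1), (13, 2), (14, 1), (15, -1), (16, 1), (17, -1), (18, 2), (19, -1), (21, -1), (23, 1), (25, -1), (26, 2), (27, -1), (28, 1), (30, 1), (31, -1), (33, 1), (34, -1), (35, 1), (41, -2), (42, -4), (44, -1), (46, 1), (47, 1), (49, -1), (50, -1), (52, 1), (53, 1), (55, -1), (56, 1), (57, 1), (58, 1), (59, 1), (60, 1), (63, -1), (66, 1), (68, -1), (69, -2), (71, -1), (74, -1), (80, -1), (81, -1), (83, -1), (84, 1), (85, 1), (86, 2), (89, -2), (94, -1), (95, 1)],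
  [(0, 1), (1, 1), (2, 1), (3, -1), (4, 1), (5, 2), (6, 1), (7, 1), (11, 2), (13, -1), (15, 1), (16, -1), (17, 1), (18, 1), (19, 2), (20, 2), (22, 1), (23, 2), (24, 2), (25, 1), (26, -1), (28, 1), (30, 2), (31, -1), (32, 1), (34, 2), (35, 1), (36, 1), (41, -1), (42, 1), (43, -2), (46, 1), (48, -1), (50, -1), (51, -2), (52, 1), (53, -2), (54, 1), (56, 1), (57, -1), (59, -1), (60, 1), (61, -1), (62, -1), (63, 1), (65, -1), (66, -1), (68, -1), (71, -3), (73, 2), (74, -1), (76, -1), (81, -1), (84, 2), (86, 3), (88, -1), (89, 1), (90, -1), (92, 1), (93, 1), (95, 2), (96, -1)],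
  [(0, 2), (1, -1), (3, -1), (4, 2), (5, -1), (6, 2), (7, 2), (8, 2), (9, -1), (10, 2), (12, 1), (13, 1), (14, 2), (15, -1), (16, -1), (17, 2), (18, 1), (19, 1), (20, 2), (21, 1), (23, -1), (24, 1), (25, -1), (26, -1), (27, 2), (28, -1), (29, 1), (32, 1), (34, -1), (35, 1), (41, -3), (42, 1), (44, 1), (47, 1), (48, -1), (50, -1), (51, 1), (52, 1), (53, -2), (54, 2), (55, 1), (57, -1), (58, 1), (59, -1), (62, -1), (63, -1), (64, 1), (66, -2), (67, -1), (68, -1), (69, -1), (73, 1), (74, -1), (75, 1), (77, 1), (78, -1), (83, 1), (84, 1), (91, -1), (92, 1), (93, -1), (94, 2), (95, 1), (96, 2)],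
  [(84, 1)],
  [(85, 1)],
  [(86, 1)],
  [(87, 1)],
  [(88, 1)]]

/-- Part of the data. -/
def spanCmb6 : List (List (ℕ × ℤ)) := [
  [(89, 1)],
  [(90, 1)],
  [(91, 1)],
  [(92, 1)],
  [(93, 1)],
  [(94, 1)],
  [(95, 1)],
  [(96, 1)]]

/-- The basis in terms of them. -/
def spanCmb : List (List (ℕ × ℤ)) := spanCmb0 ++ spanCmb1 ++ spanCmb2 ++ spanCmb3 ++ spanCmb4 ++ spanCmb5 ++ spanCmb6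

/-- Their numbers. -/
def spanIdx : List ℕ := [282, 9109, 470, 202, 9089, 9069, 94, 354, 366, 390, 318, 426, 162, 106, 10, 38, 194, 230, 8943, 460, 2943, 4494, 2359, 3681, 2825, 9053, 5388, 2197, 355, 136, 3463, 5717, 367, 3707, 2905, 4231, 95, 12075, 11272, 12842, 2406, 0, 9222, 13322, 15374, 15378, 15894, 15898, 15902, 15906, 16166, 16170, 16174, 16178, 16182, 16186, 16190, 16194, 16198, 16202, 16206, 16210, 16214, 16218, 16222, 16226, 16230, 16234, 16238, 1, 9223, 13323, 15375, 15379, 15895, 15899, 15903, 15907, 16167, 16171, 16175, 16179, 16183, 16187, 16191, 16195, 16199, 16203, 16207, 16211, 16215, 16219, 16223, 16227, 16231, 16235, 16239]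

end CfsgLib.KnownC.RuGroup
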