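import Cfsg.Agent.Lib.KnownC.RuLattice.Main
import Cfsg.Agent.Lib.KnownC.RuGroup.SpanData

/-!
# The lattice equals the span of its basis, and membership by elimination
-/

set_option autoImplicit false
set_option maxRecDepth 100000
set_option maxHeartbeats 0
set_option Elab.async false

namespace CfsgLib.KnownC.RuGroup

open Cfsg.Spor CfsgLib.KnownC.RuLattice

/-- One of the five moves. -/
def move (o : ℕ) (v : RuVec) : RuVec :=
  if o = 0 then gI • v else if o = 1 then ruRj v else if o = 2 then ruRk v
  else if o = 3 then ruSign v else ruShift v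

/-- An element of the lattice from a table entry and moves. -/
def moved (e : ℕ × List ℕ) : RuVec := e.2.foldl (fun v o => move o v) (ruTable.getD e.1 0)

theorem closed_spec {L : AddSubgroup RuVec} (hL : L ∈ ruClosed) (t : ℕ) : ∀ (ops : List ℕ) (v : RuVec),
    v ∈ L → ops.foldl (fun v o => move o v) v ∈ L
  | [], v, h => h
  | o :: r, v, h => closed_spec hL t r _ (by
      obtain ⟨h0, h1, h2, h3, h4⟩ := hL.2 v h
      show move o v ∈ L
      unfold move
      split_ifs <;> assumption)

theorem moved_mem (e : ℕ × List ℕ) : moved e ∈ ruLattice := by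
  rw [ruLattice, AddSubgroup.mem_sInf]
  intro L hL
  refine closed_spec hL e.1 _ _ ?_
  by_cases h : e.1 < ruTable.length
  · exact hL.1 _ (mem_getD h)
  · rw [List.getD_eq_default _ _ (not_lt.1 h)]; exact L.zero_mem

/-- Combinations of the spanning elements. -/
def linS : List (ℕ × ℤ) → List ℤ
  | [] => []
  | (k, c) :: r => addL ((spanImg.getD k []).map fun v => c * v) (linS r)

theorem span_ok : ((List.range spanImg.length).all fun k =>
    eqList (moved (spanW.getD k (0, []))) (spanImg.getD k [])) = true := by decide +kernel

theorem cmb_ok : ((List.range basis.length).all fun k => linS (spanCmb.getD k []) == basis.getD k []) = true := by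
  decide +kernel

theorem ofList_linS_mem : ∀ l : List (ℕ × ℤ), ofList (linS l) ∈ ruLattice
  | [] => by
    have : ofList (linS []) = 0 := by ext p <;> simp [linS, ofList]
    rw [this]; exact zero_mem _
  | (k, c) :: r => by
    have hb : ofList (spanImg.getD k []) ∈ ruLattice := by
      by_cases hk : k < spanImg.length
      · rw [← eq_of_eqList (List.all_eq_true.1 span_ok k (List.mem_range.2 hk))]
        exact moved_mem _
      · have : ofList (spanImg.getD k []) = 0 := by
          rw [List.getD_eq_default _ _ (not_lt.1 hk)]; ext p <;> simp [ofList]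
        rw [this]; exact zero_mem _
    have e : ofList (linS ((k, c) :: r)) = c • ofList (spanImg.getD k []) + ofList (linS r) := by
      have hm : ∀ i, ((spanImg.getD k []).map fun v => c * v).getD i 0 = c * (spanImg.getD k []).getD i 0 := by
        intro i
        have := List.getD_map (l := spanImg.getD k []) (d := (0 : ℤ)) (f := fun v => c * v) (n := i)
        simpa using this
      ext p <;> simp [-List.getD_eq_getElem?_getD, ofList, linS, getD_addL, hm, Pi.smul_apply]
    rw [e]
    exact add_mem (zsmul_mem hb c) (ofList_linS_mem r)

theorem mem_iff {x : RuVec} : x ∈ ruLattice ↔ x ∈ M := by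
  refine ⟨mem_M, fun hx => ?_⟩
  refine (AddSubgroup.closure_le ruLattice).2 ?_ hx
  rintro _ ⟨h, hh, rfl⟩
  obtain ⟨k, hk, rfl⟩ := List.getElem_of_mem hh
  have := beq_iff_eq.1 (List.all_eq_true.1 cmb_ok k (List.mem_range.2 hk))
  rw [List.getD_eq_getElem _ _ hk] at this
  rw [SetLike.mem_coe, ← this]
  exact ofList_linS_mem _

/-- The quotients found by elimination along the basis. -/
def redK : List (List ℤ) → ℕ → List ℤ → List (ℕ × ℤ)
  | [], _, _ => []
  | b :: r, k, v =>
    let c := v.getD k 0 / b.getD k 1
    if c = 0 then redK r (k + 1) v else (k, c) :: redK r (k + 1) (addL v (b.map fun y => -c * y))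

/-- Membership of a list of coordinates. -/
def memK (v : List ℤ) : Bool :=
  let l := redK basis 0 v
  (List.range 56).all fun i => decide ((linL l).getD i 0 = v.getD i 0)

theorem memK_sound {v : List ℤ} (h : memK v = true) : ofList v ∈ M := by
  simp only [memK, List.all_eq_true, List.mem_range, decide_eq_true_eq] at h
  have e : ofList v = ofList (linL (redK basis 0 v)) := by
    funext p
    obtain ⟨n, t⟩ := p
    simp only [ofList]
    rw [h _ (by omega), h _ (by omega)]
  rw [e]
  exact ofList_linL_mem _

end CfsgLib.KnownC.RuGroup
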