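import Cfsg.Agent.Lib.KnownC.RuGroup.Act
import Cfsg.Agent.Lib.KnownC.RuGroup.Span
import Cfsg.Agent.Lib.KnownC.RuGroup.MemData

/-!
# Membership in the lattice by elimination modulo four
-/

set_option autoImplicit false
set_option maxRecDepth 100000
set_option maxHeartbeats 0
set_option Elab.async false

namespace CfsgLib.KnownC.RuGroup

open Cfsg.Spor CfsgLib.KnownC.RuLattice

/-- The elimination on two binary digits. -/
noncomputable def red4 (l : List (ℕ × ℕ × ℕ)) : ℕ → ℕ → Bool :=
  List.rec (fun s0 s1 => Nat.beq (Nat.lor s0 s1) 0)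
    (fun e _ ih s0 s1 => cond (Nat.testBit (Nat.lor s0 s1) e.1)
      (ih (Nat.xor s0 e.2.1) (Nat.xor (Nat.xor s1 e.2.2) (Nat.land s0 e.2.1))) (ih s0 s1)) l

/-- Membership of the vector of a triple. -/
noncomputable def memT (t : ℕ × ℕ × ℕ) : Bool :=
  cond (Nat.beq t.2.2 1) (red4 memSteps (Nat.lor t.1 t.2.1) t.2.1) (Nat.beq t.2.2 4 && red4 memSteps 0 0)

theorem steps_ok : (memSteps.all fun e => (List.range 56).all fun i =>
    decide ((-(basis.getD e.1 []).getD i 0) % 4 =
      (if e.2.1.testBit i then 1 else 0) + 2 * (if e.2.2.testBit i then 1 else 0))) = true := by decide +kernel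

theorem units_ok : ((List.range 56).all fun i => memK ((List.range 56).map (coT (trip (dig 14 unitV i)))) &&
    Nat.beq (trip (dig 14 unitV i)).1 (Nat.shiftLeft 1 i) && Nat.beq (trip (dig 14 unitV i)).2.1 0 &&
      Nat.beq (trip (dig 14 unitV i)).2.2 4 && Nat.blt (dig 14 unitV i) 16240) = true := by decide +kernel

/-- The coordinate as a homomorphism. -/
def coHom (j : ℕ) : RuVec →+ ℤ := AddMonoidHom.mk' (fun x => co x j) fun x y => co_add x y j

theorem unit_mem {i : ℕ} (hi : i < 56) : vec (dig 14 unitV i) ∈ M := by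
  have h := List.all_eq_true.1 units_ok i (List.mem_range.2 hi)
  simp only [Bool.and_eq_true] at h
  exact memK_sound h.1.1.1.1

theorem unit_lt {i : ℕ} (hi : i < 56) : dig 14 unitV i < 16240 := by
  have h := List.all_eq_true.1 units_ok i (List.mem_range.2 hi)
  simp only [Bool.and_eq_true, Nat.blt_eq] at h
  exact h.2

theorem co_unit {i j : ℕ} (hi : i < 56) (hj : j < 56) :
    co (vec (dig 14 unitV i)) j = if i = j then 4 else 0 := by
  have h := List.all_eq_true.1 units_ok i (List.mem_range.2 hi)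
  simp only [Bool.and_eq_true, Nat.beq_eq] at h
  obtain ⟨⟨⟨⟨-, h1⟩, h2⟩, h3⟩, -⟩ := h
  rw [co_vec _ hj, coT, h1, h2, h3, show Nat.shiftLeft 1 i = 1 <<< i from rfl, Nat.shiftLeft_eq, one_mul,
    Nat.testBit_two_pow, Nat.zero_testBit]
  by_cases hij : i = j <;> simp [hij]

theorem mem_of_four_dvd {z : RuVec} (hz : ∀ i < 56, (4 : ℤ) ∣ co z i) : z ∈ M := by
  have e : z = ∑ i ∈ Finset.range 56, (co z i / 4) • vec (dig 14 unitV i) := by
    refine ext_co fun j hj => ?_
    show coHom j _ = coHom j _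
    rw [map_sum, Finset.sum_eq_single j]
    · rw [map_zsmul, smul_eq_mul]
      show co z j = co z j / 4 * co (vec (dig 14 unitV j)) j
      rw [co_unit hj hj, if_pos rfl, Int.ediv_mul_cancel (hz j hj)]
    · intro i hi hne
      rw [map_zsmul, smul_eq_mul]
      show co z i / 4 * co (vec (dig 14 unitV i)) j = 0
      rw [co_unit (Finset.mem_range.1 hi) hj, if_neg hne, mul_zero]
    · intro h; exact absurd (Finset.mem_range.2 hj) h
  rw [e]
  exact sum_mem fun i hi => zsmul_mem (unit_mem (Finset.mem_range.1 hi)) _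

theorem basis_getD_mem (k : ℕ) : ofList (basis.getD k []) ∈ M := by
  by_cases hk : k < basis.length
  · exact AddSubgroup.subset_closure ⟨_, mem_getD hk, rfl⟩
  · have : ofList (basis.getD k []) = 0 := by
      rw [List.getD_eq_default _ _ (not_lt.1 hk)]; ext p <;> simp [ofList]
    rw [this]; exact zero_mem _

theorem red4_spec : ∀ (l : List (ℕ × ℕ × ℕ)), (∀ e ∈ l, e ∈ memSteps) → ∀ (x : RuVec) (s0 s1 : ℕ),
    red4 l s0 s1 = true →
    (∀ i < 56, (co x i) % 4 = ((s0.testBit i).toNat : ℤ) + 2 * ((s1.testBit i).toNat : ℤ)) → x ∈ M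
  | [], _, x, s0, s1, h, hx => by
    refine mem_of_four_dvd fun i hi => ?_
    have h0 : s0 ||| s1 = 0 := Nat.beq_eq.symm ▸ h
    have h1 := congrArg (Nat.testBit · i) h0
    simp only [Nat.testBit_lor, Nat.zero_testBit, Bool.or_eq_false_iff] at h1
    have h2 := hx i hi
    rw [h1.1, h1.2] at h2
    simp at h2
    omega
  | e :: r, hl, x, s0, s1, h, hx => by
    have hr : ∀ e' ∈ r, e' ∈ memSteps := fun e' he' => hl e' (List.mem_cons_of_mem _ he')
    change cond (Nat.testBit (Nat.lor s0 s1) e.1)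
      (red4 r (Nat.xor s0 e.2.1) (Nat.xor (Nat.xor s1 e.2.2) (Nat.land s0 e.2.1))) (red4 r s0 s1) = true at h
    cases hb : Nat.testBit (Nat.lor s0 s1) e.1
    · rw [hb] at h
      exact red4_spec r hr x s0 s1 h hx
    · rw [hb] at h
      have key : x - ofList (basis.getD e.1 []) ∈ M := by
        refine red4_spec r hr _ _ _ h fun i hi => ?_
        have h1 := List.all_eq_true.1 steps_ok e (hl e List.mem_cons_self)
        have h2 := List.all_eq_true.1 h1 i (List.mem_range.2 hi)
        rw [decide_eq_true_eq] at h2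
        have h3 := hx i hi
        rw [sub_eq_add_neg, co_add, co_neg, co_ofList _ hi, Int.add_emod, h2, h3]
        simp only [show ∀ a b : ℕ, Nat.xor a b = a ^^^ b from fun _ _ => rfl,
          show ∀ a b : ℕ, Nat.land a b = a &&& b from fun _ _ => rfl, Nat.testBit_xor, Nat.testBit_land]
        cases s0.testBit i <;> cases s1.testBit i <;> cases e.2.1.testBit i <;> cases e.2.2.testBit i <;> rfl
      have := add_mem key (basis_getD_mem e.1)
      rwa [sub_add_cancel] at this

theorem memT_sound {t : ℕ × ℕ × ℕ} (h : memT t = true) (ht : tOK t = true) : vecT t ∈ M := by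
  simp only [tOK, Bool.and_eq_true, Bool.or_eq_true, Nat.beq_eq] at ht
  have hd : ∀ i, ¬ (t.1.testBit i = true ∧ t.2.1.testBit i = true) := by
    rintro i ⟨e1, e2⟩
    have h1 := congrArg (Nat.testBit · i) ht.1.1
    simp only [show ∀ a b : ℕ, Nat.land a b = a &&& b from fun _ _ => rfl, Nat.testBit_land, Nat.zero_testBit, e1, e2] at h1
    simp at h1
  unfold memT at h
  rcases ht.1.2 with hm | hm
  · rw [hm, Nat.beq_refl, cond_true] at h
    refine red4_spec memSteps (fun _ he => he) _ _ _ h fun i hi => ?_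
    rw [co_vecT _ hi, coT, hm, show ∀ a b : ℕ, Nat.lor a b = a ||| b from fun _ _ => rfl, Nat.testBit_lor]
    have := hd i
    cases hp : t.1.testBit i <;> cases hn : t.2.1.testBit i <;> simp_all
  · refine mem_of_four_dvd fun i hi => ?_
    rw [co_vecT _ hi, coT, hm]
    split_ifs <;> norm_num

theorem vec_mem_of_memT {u : ℕ} (hu : u < 16240) (h : memT (trip u) = true) : vec u ∈ M :=
  memT_sound h (trip_ok hu)

end CfsgLib.KnownC.RuGroup
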