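import Cfsg.Agent.Lib.KnownC.RuGroup.Act
import Cfsg.Agent.Lib.KnownC.RuGroup.Mem

/-!
# Linear maps given by the images of the unit vectors
-/

set_option autoImplicit false
set_option maxRecDepth 100000
set_option maxHeartbeats 0
set_option Elab.async false

namespace CfsgLib.KnownC.RuGroup

open Cfsg.Spor CfsgLib.KnownC.RuLattice

/-- The vector giving a coordinate of a map. -/
def row (T : ℕ → ℕ) (i : ℕ) : ℕ := actP T (dig 14 unitV i)

/-- The coordinates of a triple as a list. -/
def coL (t : ℕ × ℕ × ℕ) : List ℤ := (List.range 56).map (coT t)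

/-- The map with the given rows, scaled down by four. -/
def lin (T : ℕ → ℕ) (x : RuVec) : RuVec := ofList ((List.range 56).map fun i => B x (vec (row T i)) / 4)

/-- The claimed image of a vector is right. -/
noncomputable def imgK (T f : ℕ → ℕ) (u : ℕ) : Bool :=
  (List.range 56).all fun i => decide ((bK u (row T i) : ℤ) = 4096 + 4 * coT (trip (actP f u)) i)

/-- The checks on a map and its transpose. -/
noncomputable def mapK (T T' : ℕ → ℕ) : Bool :=
  ((List.range 56).all fun i =>
      Nat.blt (row T i) 16240 && Nat.blt (row T' i) 16240 && Nat.blt (actP T' (dig 14 unitV i)) 16240 &&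
        memT (trip (row T i)) && imgK T T' (dig 14 unitV i) &&
        Nat.beq (actP T (actP T' (dig 14 unitV i))) (dig 14 unitV i) && imgK T' T (actP T' (dig 14 unitV i)) &&
        (List.range 56).all fun j => decide (coT (trip (row T i)) j = coT (trip (row T' j)) i)) &&
    ((List.range 28).all fun i =>
      let s := turn (trip (row T i))
      let t := trip (row T (28 + i))
      Nat.beq s.1 t.1 && Nat.beq s.2.1 t.2.1 && Nat.beq s.2.2 t.2.2) &&
    (spanIdx.all fun u => Nat.blt (actP T' u) 16240 && memT (trip (actP T' u)) && imgK T T' u)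

theorem co_lin (T : ℕ → ℕ) (x : RuVec) {i : ℕ} (hi : i < 56) : co (lin T x) i = B x (vec (row T i)) / 4 := by
  rw [lin, co_ofList _ hi, List.getD_eq_getElem _ _ (by simpa using hi)]
  simp

theorem span_idx_ok : spanIdx.length = spanImg.length ∧ ((List.range spanImg.length).all fun k =>
    Nat.blt (spanIdx.getD k 0) 16240 && decide (coL (trip (spanIdx.getD k 0)) = spanImg.getD k [])) = true := by
  decide +kernel

theorem four_smul_eq (x : RuVec) :
    (4 : ℤ) • x = ∑ i ∈ Finset.range 56, co x i • vec (dig 14 unitV i) := by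
  refine ext_co fun j hj => ?_
  show coHom j _ = coHom j _
  rw [map_sum, map_zsmul, Finset.sum_eq_single j]
  · rw [map_zsmul, smul_eq_mul, smul_eq_mul]
    show 4 * co x j = co x j * co (vec (dig 14 unitV j)) j
    rw [co_unit hj hj, if_pos rfl, mul_comm]
  · intro i hi hne
    rw [map_zsmul, smul_eq_mul]
    show co x i * co (vec (dig 14 unitV i)) j = 0
    rw [co_unit (Finset.mem_range.1 hi) hj, if_neg hne, mul_zero]
  · intro h; exact absurd (Finset.mem_range.2 hj) h

/-- The span of the listed vectors. -/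
def spanned : AddSubgroup RuVec := AddSubgroup.closure {x | ∃ u ∈ spanIdx, x = vec u}

theorem ofList_linS_spanned : ∀ l : List (ℕ × ℤ), ofList (linS l) ∈ spanned
  | [] => by
    have : ofList (linS []) = 0 := by ext p <;> simp [linS, ofList]
    rw [this]; exact zero_mem _
  | (k, c) :: r => by
    have hb : ofList (spanImg.getD k []) ∈ spanned := by
      by_cases hk : k < spanImg.length
      · have h := List.all_eq_true.1 span_idx_ok.2 k (List.mem_range.2 hk)
        simp only [Bool.and_eq_true, decide_eq_true_eq] at h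
        rw [← h.2]
        exact AddSubgroup.subset_closure ⟨_, mem_getD (span_idx_ok.1 ▸ hk), rfl⟩
      · have : ofList (spanImg.getD k []) = 0 := by
          rw [List.getD_eq_default _ _ (not_lt.1 hk)]; ext p <;> simp [ofList]
        rw [this]; exact zero_mem _
    have e : ofList (linS ((k, c) :: r)) = c • ofList (spanImg.getD k []) + ofList (linS r) := by
      have hm : ∀ i, ((spanImg.getD k []).map fun v => c * v).getD i 0 = c * (spanImg.getD k []).getD i 0 := by
        intro i
        have := List.getD_map (l := spanImg.getD k []) (d := (0 : ℤ)) (f := fun v => c * v) (n := i)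
        simpa using this
      ext p <;> simp [-List.getD_eq_getElem?_getD, ofList, linS, getD_addL, hm]
    rw [e]
    exact add_mem (zsmul_mem hb c) (ofList_linS_spanned r)

theorem mem_spanned {x : RuVec} (hx : x ∈ M) : x ∈ spanned := by
  refine (AddSubgroup.closure_le spanned).2 ?_ hx
  rintro _ ⟨h, hh, rfl⟩
  obtain ⟨k, hk, rfl⟩ := List.getElem_of_mem hh
  have := beq_iff_eq.1 (List.all_eq_true.1 cmb_ok k (List.mem_range.2 hk))
  rw [List.getD_eq_getElem _ _ hk] at this
  rw [SetLike.mem_coe, ← this]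
  exact ofList_linS_spanned _

theorem span_mem {u : ℕ} (hu : u ∈ spanIdx) : vec u ∈ M := by
  obtain ⟨k, hk, rfl⟩ := List.getElem_of_mem hu
  have hk' : k < spanImg.length := span_idx_ok.1 ▸ hk
  have h := List.all_eq_true.1 span_idx_ok.2 k (List.mem_range.2 hk')
  simp only [Bool.and_eq_true, decide_eq_true_eq] at h
  have key : ofList (coL (trip (spanIdx.getD k 0))) ∈ M := by
    rw [h.2, ← eq_of_eqList (List.all_eq_true.1 span_ok k (List.mem_range.2 hk'))]
    exact mem_iff.1 (moved_mem _)
  rw [List.getD_eq_getElem _ _ hk] at key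
  exact key

theorem imgK_spec {T f : ℕ → ℕ} {u : ℕ} (h : imgK T f u = true) (hu : u < 16240)
    (hT : ∀ i < 56, row T i < 16240) : lin T (vec u) = vec (actP f u) := by
  refine ext_co fun i hi => ?_
  simp only [imgK, List.all_eq_true, List.mem_range, decide_eq_true_eq] at h
  have h1 := h i hi
  rw [bK_eq hu (hT i hi)] at h1
  rw [co_lin _ _ hi, co_vec _ hi]
  omega

theorem B_gI (x y : RuVec) : B (gI • x) y = -B x (gI • y) := by
  have split : ∀ a b : RuVec, B a b =
      ∑ j ∈ Finset.range 28, (co a j * co b j + co a (28 + j) * co b (28 + j)) := fun a b => by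
    rw [B, show (56 : ℕ) = 28 + 28 from rfl, Finset.sum_range_add, Finset.sum_add_distrib]
  rw [split, split, ← Finset.sum_neg_distrib]
  refine Finset.sum_congr rfl fun j hj => ?_
  rw [co_gI_lo _ (Finset.mem_range.1 hj), co_gI_hi _ (Finset.mem_range.1 hj), co_gI_lo _ (Finset.mem_range.1 hj),
    co_gI_hi _ (Finset.mem_range.1 hj)]
  ring

theorem gI_gI (x : RuVec) : gI • gI • x = -x := by
  rw [smul_smul, show gI * gI = -1 by decide, neg_one_smul]

theorem B_neg_right (x y : RuVec) : B x (-y) = -B x y := by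
  rw [B, B, ← Finset.sum_neg_distrib]
  exact Finset.sum_congr rfl fun i _ => by rw [co_neg]; ring

/-- What the checks give. -/
structure Good (T T' : ℕ → ℕ) : Prop where
  row_lt : ∀ i < 56, row T i < 16240
  row_mem : ∀ i < 56, vec (row T i) ∈ M
  transp : ∀ i < 56, ∀ j < 56, coT (trip (row T i)) j = coT (trip (row T' j)) i
  turned : ∀ i < 28, vec (row T (28 + i)) = gI • vec (row T i)
  gen_mem : ∀ u ∈ spanIdx, lin T (vec u) ∈ M
  left_inv : ∀ i < 56, lin T' (lin T (vec (dig 14 unitV i))) = vec (dig 14 unitV i)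

theorem good_of_mapK {T T' : ℕ → ℕ} (h : mapK T T' = true) : Good T T' := by
  simp only [mapK, Bool.and_eq_true, List.all_eq_true, List.mem_range, decide_eq_true_eq, Nat.blt_eq,
    Nat.beq_eq] at h
  obtain ⟨⟨h1, h2⟩, h3⟩ := h
  have hlt : ∀ i < 56, row T i < 16240 := fun i hi => (h1 i hi).1.1.1.1.1.1.1
  have hlt' : ∀ i < 56, row T' i < 16240 := fun i hi => (h1 i hi).1.1.1.1.1.1.2
  refine ⟨hlt, fun i hi => vec_mem_of_memT (hlt i hi) (h1 i hi).1.1.1.1.2, fun i hi => (h1 i hi).2, fun i hi => ?_, ?_, ?_⟩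
  · obtain ⟨⟨e1, e2⟩, e3⟩ := h2 i hi
    have e : trip (succU (row T i)) = trip (row T (28 + i)) := by
      rw [(trip_succ (hlt i (by omega))).1]; exact Prod.ext e1 (Prod.ext e2 e3)
    rw [← vec_succ (hlt i (by omega))]
    exact congrArg vecT e.symm
  · intro u hu
    obtain ⟨k, hk, rfl⟩ := List.getElem_of_mem hu
    have hu16 : spanIdx[k] < 16240 := by
      have h := List.all_eq_true.1 span_idx_ok.2 k (List.mem_range.2 (span_idx_ok.1 ▸ hk))
      simp only [Bool.and_eq_true, Nat.blt_eq] at h
      rw [List.getD_eq_getElem _ _ hk] at h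
      exact h.1
    rw [imgK_spec (h3 _ hu).2 hu16 hlt]
    exact vec_mem_of_memT (h3 _ hu).1.1 (h3 _ hu).1.2
  · intro i hi
    have hu : dig 14 unitV i < 16240 := unit_lt hi
    rw [imgK_spec (h1 i hi).1.1.1.2 hu hlt, imgK_spec (h1 i hi).1.2 (h1 i hi).1.1.1.1.1.2 hlt', (h1 i hi).1.1.2]

namespace Good

variable {T T' : ℕ → ℕ} (h : Good T T')
include h

theorem co_lin_mul {x : RuVec} (hx : x ∈ M) {i : ℕ} (hi : i < 56) :
    4 * co (lin T x) i = B x (vec (row T i)) := by
  rw [co_lin T x hi, mul_comm, Int.ediv_mul_cancel (four_dvd_B hx (h.row_mem i hi))]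

theorem lin_add {x y : RuVec} (hx : x ∈ M) (hy : y ∈ M) : lin T (x + y) = lin T x + lin T y := by
  refine ext_co fun i hi => ?_
  have h1 := h.co_lin_mul (add_mem hx hy) hi
  have h2 := h.co_lin_mul hx hi
  have h3 := h.co_lin_mul hy hi
  rw [B_add] at h1
  rw [co_add]
  omega

theorem lin_zero : lin T 0 = 0 := by
  refine ext_co fun i hi => ?_
  rw [co_lin T 0 hi, co_zero]
  simp [B, co_zero]

theorem lin_neg {x : RuVec} (hx : x ∈ M) : lin T (-x) = -lin T x := by
  have h1 := h.lin_add hx (neg_mem hx)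
  rw [add_neg_cancel, h.lin_zero] at h1
  exact eq_neg_of_add_eq_zero_right h1.symm

theorem lin_mem {x : RuVec} (hx : x ∈ M) : lin T x ∈ M := by
  suffices key : ∀ y ∈ spanned, y ∈ M ∧ lin T y ∈ M from (key x (mem_spanned hx)).2
  intro y hy
  clear hx
  induction hy using AddSubgroup.closure_induction with
  | mem y hy => obtain ⟨u, hu, rfl⟩ := hy; exact ⟨span_mem hu, h.gen_mem u hu⟩
  | zero => rw [h.lin_zero]; exact ⟨zero_mem _, zero_mem _⟩
  | add a b _ _ iha ihb => rw [h.lin_add iha.1 ihb.1]; exact ⟨add_mem iha.1 ihb.1, add_mem iha.2 ihb.2⟩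
  | neg a _ iha => rw [h.lin_neg iha.1]; exact ⟨neg_mem iha.1, neg_mem iha.2⟩

theorem lin_gI {x : RuVec} (hx : x ∈ M) (hix : gI • x ∈ M) : lin T (gI • x) = gI • lin T x := by
  refine ext_co fun i hi => ?_
  have h1 := h.co_lin_mul hix hi
  rw [B_gI] at h1
  rcases lt_or_ge i 28 with hi' | hi'
  · rw [co_gI_lo _ hi']
    have h2 := h.co_lin_mul hx (i := 28 + i) (by omega)
    rw [h.turned i hi'] at h2
    omega
  · obtain ⟨j, rfl⟩ : ∃ j, i = 28 + j := ⟨i - 28, by omega⟩
    rw [co_gI_hi _ (by omega)]
    have h2 := h.co_lin_mul hx (i := j) (by omega)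
    rw [h.turned j (by omega), gI_gI, B_neg_right] at h1
    omega

theorem lin_left {x : RuVec} (hx : x ∈ M) (h' : Good T' T) : lin T' (lin T x) = x := by
  have hU : ∀ i < 56, vec (dig 14 unitV i) ∈ M := fun i hi => by
    exact unit_mem hi
  let φ : M →+ RuVec := AddMonoidHom.mk' (fun y => lin T' (lin T (y : RuVec))) fun y z => by
    show lin T' (lin T ((y : RuVec) + z)) = _
    rw [h.lin_add y.2 z.2, h'.lin_add (h.lin_mem y.2) (h.lin_mem z.2)]
  have e : (4 : ℤ) • (⟨x, hx⟩ : M) = ∑ i : Fin 56, co x i • (⟨_, hU i i.2⟩ : M) := by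
    apply Subtype.ext
    rw [AddSubgroupClass.coe_zsmul, AddSubgroup.val_finsetSum, four_smul_eq, Finset.sum_range]
    rfl
  have h2 := congrArg φ e
  rw [map_zsmul, map_sum] at h2
  have h3 : (4 : ℤ) • lin T' (lin T x) = (4 : ℤ) • x := by
    rw [show lin T' (lin T x) = φ ⟨x, hx⟩ from rfl, h2, four_smul_eq x, Finset.sum_range]
    refine Finset.sum_congr rfl fun i _ => ?_
    rw [map_zsmul]
    exact congrArg (co x i • ·) (h.left_inv i i.2)
  exact ext_co fun j _ => by
    have h4 := congrArg (coHom j) h3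
    rw [map_zsmul, map_zsmul, smul_eq_mul, smul_eq_mul] at h4
    exact mul_left_cancel₀ (by norm_num) h4

theorem B_lin {x y : RuVec} (hx : x ∈ M) (hy : y ∈ M) (h' : Good T' T) :
    B (lin T x) (lin T y) = B x y := by
  have key : ∀ z ∈ M, B (lin T x) z = B x (lin T' z) := by
    intro z hz
    have e : 4 * B (lin T x) z = 4 * B x (lin T' z) := by
      rw [B, B, Finset.mul_sum, Finset.mul_sum]
      calc ∑ i ∈ Finset.range 56, 4 * (co (lin T x) i * co z i)
          = ∑ i ∈ Finset.range 56, ∑ j ∈ Finset.range 56, co x j * coT (trip (row T i)) j * co z i :=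
            Finset.sum_congr rfl fun i hi => by
              rw [← mul_assoc, h.co_lin_mul hx (Finset.mem_range.1 hi), B, Finset.sum_mul]
              exact Finset.sum_congr rfl fun j hj => by rw [co_vec _ (Finset.mem_range.1 hj)]
        _ = ∑ j ∈ Finset.range 56, ∑ i ∈ Finset.range 56, co x j * coT (trip (row T i)) j * co z i :=
            Finset.sum_comm
        _ = ∑ j ∈ Finset.range 56, 4 * (co x j * co (lin T' z) j) :=
            Finset.sum_congr rfl fun j hj => by
              rw [mul_left_comm, h'.co_lin_mul hz (Finset.mem_range.1 hj), B, Finset.mul_sum]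
              refine Finset.sum_congr rfl fun i hi => ?_
              rw [co_vec _ (Finset.mem_range.1 hi), h.transp i (Finset.mem_range.1 hi) j (Finset.mem_range.1 hj)]
              ring
    linarith
  rw [key _ (h.lin_mem hy), h.lin_left hy h']

/-- The automorphism of the lattice. -/
theorem exists_auto (h' : Good T' T) :
    ∃ g : fourRu, ∀ v : ruLattice, (((g : Equiv.Perm ruLattice) v : ruLattice) : RuVec) = lin T (v : RuVec) := by
  have hm : ∀ {S S' : ℕ → ℕ}, Good S S' → ∀ v : ruLattice, lin S (v : RuVec) ∈ ruLattice := fun hS v =>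
    mem_iff.2 (hS.lin_mem (mem_M v.2))
  let e : Equiv.Perm ruLattice :=
    { toFun := fun v => ⟨lin T v, hm h v⟩
      invFun := fun v => ⟨lin T' v, hm h' v⟩
      left_inv := fun v => Subtype.ext (h.lin_left (mem_M v.2) h')
      right_inv := fun v => Subtype.ext (h'.lin_left (mem_M v.2) h) }
  refine ⟨⟨e, fun v w => Subtype.ext (h.lin_add (mem_M v.2) (mem_M w.2)), fun v => Subtype.ext ?_, fun v => ?_⟩,
    fun v => rfl⟩
  · exact h.lin_gI (mem_M v.2) (mem_M (gI_smul_mem_ruLattice v.2))
  · show ruNorm (lin T v) = _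
    rw [norm_eq, norm_eq]
    have := h.B_lin (mem_M v.2) (mem_M v.2) h'
    simpa [B, sq] using this

end Good

end CfsgLib.KnownC.RuGroup
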