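import Cfsg.Agent.Lib.KnownC.RuGroup.Gens

/-!
# The order of the automorphism group of the lattice, and its centre
-/

set_option autoImplicit false
set_option maxRecDepth 100000
set_option maxHeartbeats 0

namespace CfsgLib.KnownC.RuGroup

open Cfsg.Spor CfsgLib.KnownC.RuLattice

theorem orbBits_spec (k : ℕ) (h : (orbBits k).2 = true) :
    ((List.range (levelSize.getD k 0)).map (orbF k)).Nodup ∧
      ∀ v, (orbBits k).1.testBit v = true ↔ v ∈ (List.range (levelSize.getD k 0)).map (orbF k) :=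
  insK_spec _ h

attribute [local irreducible] vecsAt sortV posV sep unitV fwd0 fwd1 fwd2 fwd3 fwd4 fwd5 fwd6 bwd0 bwd1 bwd2 bwd3
  bwd4 bwd5 bwd6 orb0 orb1 orb2 orb3 orb4 orb5 tree0 tree1 tree2 tree3 tree4 tree5 orbBits

/-- A base point below 16240. -/
def bF (k : ℕ) : Fin 16240 := ⟨bpt k, bpt_lt k⟩

theorem bK_base (g : fourRu) (k : ℕ) (hg : act g (bF k) = bF k) (u : Fin 16240) :
    sameB (act g u) u k = true := by
  simp only [sameB, Bool.and_eq_true, Nat.beq_eq]
  constructor
  · have h := act_bK g u (bF k)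
    rw [hg] at h
    exact h
  · have h := act_bK g u (succF (bF k))
    rw [act_succ, hg] at h
    exact h

theorem cand_of_fixed (g : fourRu) (k : ℕ) (hg : ∀ j < k, act g (bF j) = bF j) (u : Fin 16240) :
    candK k (act g u) u = true := by
  simp only [candK, List.all_eq_true, List.mem_range]
  exact fun j hj => bK_base g j (hg j hj) u

theorem cand_in {k : ℕ} (hk : k < 6) {u : ℕ} (hu : u < 16240) (h : candK k u (bpt k) = true) :
    ∃ i < levelSize.getD k 0, orbF k i = u := by
  have hget : (orbBits k).2 = true ∧ (orbBits k).1.testBit u = true := by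
    rcases Nat.eq_zero_or_pos k with rfl | hk0
    · refine ⟨pos0.2, ?_⟩
      have h3 := List.all_eq_true.1 pos0.1 u (List.mem_range.2 hu)
      rw [Nat.beq_eq, dig, show Nat.mul 1 u = 1 * u from rfl, one_mul,
        show Nat.shiftRight (orbBits 0).1 u = (orbBits 0).1 >>> u from rfl, show Nat.pow 2 1 = 2 from rfl] at h3
      rw [Nat.testBit, Nat.one_and_eq_mod_two, h3]
      rfl
    · interval_cases k
      all_goals
        first
          | (have h' := List.all_eq_true.1 cand1.2 u (List.mem_range.2 hu)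
             rw [h] at h'; exact ⟨cand1.1, by simpa using h'⟩)
          | (have h' := List.all_eq_true.1 cand2.2 u (List.mem_range.2 hu)
             rw [h] at h'; exact ⟨cand2.1, by simpa using h'⟩)
          | (have h' := List.all_eq_true.1 cand3.2 u (List.mem_range.2 hu)
             rw [h] at h'; exact ⟨cand3.1, by simpa using h'⟩)
          | (have h' := List.all_eq_true.1 cand4.2 u (List.mem_range.2 hu)
             rw [h] at h'; exact ⟨cand4.1, by simpa using h'⟩)
          | (have h' := List.all_eq_true.1 cand5.2 u (List.mem_range.2 hu)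
             rw [h] at h'; exact ⟨cand5.1, by simpa using h'⟩)
  obtain ⟨i, hi, e⟩ := List.mem_map.1 ((orbBits_spec k hget.1).2 u |>.1 hget.2)
  exact ⟨i, List.mem_range.1 hi, e⟩

theorem orb_nodup {k : ℕ} (hk : k < 6) :
    ((List.range (levelSize.getD k 0)).map (orbF k)).Nodup := by
  interval_cases k
  exacts [(orbBits_spec _ pos0.2).1, (orbBits_spec _ cand1.1).1, (orbBits_spec _ cand2.1).1,
    (orbBits_spec _ cand3.1).1, (orbBits_spec _ cand4.1).1, (orbBits_spec _ cand5.1).1]

theorem orb_step {k i : ℕ} (hk : k < 6) (hi : i < levelSize.getD k 0) : orbF k i < 16240 ∧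
    ((i = 0 ∧ orbF k i = bpt k) ∨ (treeF k i / 8 < i ∧ treeF k i % 8 < levelN.getD k 0 ∧
      orbF k i = actP (fwdF (treeF k i % 8)) (orbF k (treeF k i / 8)))) := by
  have h := levels_ok k hk
  simp only [levelK, Bool.and_eq_true, List.all_eq_true, List.mem_range] at h
  have h1 := h.2 i hi
  simp only [stepK, Bool.and_eq_true, Nat.blt_eq] at h1
  obtain ⟨h2, h3⟩ := h1
  refine ⟨h2, ?_⟩
  by_cases h0 : i = 0
  · left
    subst h0
    simp only [Nat.beq_refl, cond_true, Nat.beq_eq] at h3
    exact ⟨rfl, h3⟩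
  · right
    rw [show Nat.beq i 0 = false from Bool.eq_false_iff.2 (fun h => h0 (Nat.eq_of_beq_eq_true h))] at h3
    simp only [cond_false, Bool.and_eq_true, Nat.blt_eq, Nat.beq_eq] at h3
    exact ⟨h3.1.1, h3.1.2, h3.2⟩

theorem gen_fix {k j m : ℕ} (hk : k < 6) (hj : j < levelN.getD k 0) (hm : m < k) :
    act (gen j) (bF m) = bF m := by
  have h := levels_ok k hk
  simp only [levelK, Bool.and_eq_true, List.all_eq_true, List.mem_range, Nat.beq_eq] at h
  exact Fin.ext ((act_gen j (bF m)).trans (h.1 j hj m hm))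

theorem levelN_le {k : ℕ} (hk : k < 6) : levelN.getD k 0 ≤ 7 := by
  interval_cases k <;> decide

/-- The elements of a subgroup fixing the first base points. -/
noncomputable def fixS (S : Subgroup fourRu) : ℕ → Subgroup fourRu
  | 0 => S
  | k + 1 => fixS S k ⊓ (MulAction.stabilizer (Equiv.Perm (Fin 16240)) (bF k)).comap act

theorem mem_fixS {S : Subgroup fourRu} {g : fourRu} :
    ∀ {k : ℕ}, g ∈ fixS S k ↔ g ∈ S ∧ ∀ j < k, act g (bF j) = bF j
  | 0 => by simp [fixS]
  | k + 1 => by
    rw [fixS, Subgroup.mem_inf, mem_fixS, Subgroup.mem_comap, MulAction.mem_stabilizer_iff, Equiv.Perm.smul_def,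
      Nat.forall_lt_succ_right, and_assoc]

theorem card_step (H : Subgroup fourRu) [Finite fourRu] (b : Fin 16240) {n : ℕ} (o : Fin n → Fin 16240)
    (ho : Function.Injective o) (hin : ∀ i, ∃ g ∈ H, act g b = o i) (hout : ∀ g ∈ H, ∃ i, act g b = o i) :
    Nat.card H = n * Nat.card (H ⊓ (MulAction.stabilizer (Equiv.Perm (Fin 16240)) b).comap act : Subgroup fourRu) := by
  let : MulAction H (Fin 16240) := MulAction.compHom _ (act.comp H.subtype)
  have horb : MulAction.orbit H b = Set.range o := by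
    ext v
    constructor
    · rintro ⟨g, rfl⟩
      obtain ⟨i, hi⟩ := hout g g.2
      exact ⟨i, hi.symm⟩
    · rintro ⟨i, rfl⟩
      obtain ⟨g, hg, e⟩ := hin i
      exact ⟨⟨g, hg⟩, e⟩
  have h := Nat.card_congr (MulAction.orbitProdStabilizerEquivGroup H b)
  rw [Nat.card_prod, horb, Nat.card_range_of_injective ho, Nat.card_eq_fintype_card, Fintype.card_fin] at h
  rw [← h]
  congr 1
  refine Nat.card_congr ?_
  exact
    { toFun := fun g => ⟨(g : H), (g : H).2, g.2⟩
      invFun := fun g => ⟨⟨g, g.2.1⟩, g.2.2⟩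
      left_inv := fun g => rfl
      right_inv := fun g => rfl }

instance : Finite fourRu := Finite.of_injective _ act_injective

theorem fix_six_eq_one {g : fourRu} (hg : ∀ j < 6, act g (bF j) = bF j) : g = 1 := by
  apply act_injective
  rw [map_one]
  have hfix : ∀ q ∈ sep, ∀ hq : q < 16240, act g ⟨q, hq⟩ = ⟨q, hq⟩ := by
    have h14 : ∀ q ∈ sep.take 14, ∀ hq : q < 16240, act g ⟨q, hq⟩ = ⟨q, hq⟩ := by
      intro q hqm hq
      have h := List.all_eq_true.1 (List.all_eq_true.1 fix_six q hqm) (act g ⟨q, hq⟩ : ℕ)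
        (List.mem_range.2 (Fin.is_lt _))
      rw [cand_of_fixed g 6 hg ⟨q, hq⟩] at h
      exact Fin.ext (Nat.eq_of_beq_eq_true (by simpa using h))
    intro q hqm hq
    rw [← List.take_append_drop 14 sep, List.mem_append] at hqm
    rcases hqm with h | h
    · exact h14 q h hq
    · have h2 := List.all_eq_true.1 sep_halves.1 q h
      simp only [List.any_eq_true, Nat.beq_eq] at h2
      obtain ⟨p, hp, rfl⟩ := h2
      have hp' : p < 16240 := sep_lt (List.mem_of_mem_take hp)
      show act g (succF ⟨p, hp'⟩) = succF ⟨p, hp'⟩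
      rw [act_succ, h14 p hp hp']
  refine Equiv.ext fun u => Fin.ext ?_
  refine eq_of_sep (Fin.is_lt _) u.2 fun q hq => ?_
  have h := act_bK g u ⟨q, sep_lt hq⟩
  rw [hfix q hq] at h
  exact h

theorem orbit_mem (S : Subgroup fourRu) (hS : ∀ j < 7, gen j ∈ S) {k : ℕ} (hk : k < 6) :
    ∀ i, ∀ hi : i < levelSize.getD k 0, ∃ g ∈ fixS S k, act g (bF k) = ⟨orbF k i, (orb_step hk hi).1⟩ := by
  intro i
  induction i using Nat.strong_induction_on with
  | _ i ih =>
    intro hi
    rcases (orb_step hk hi).2 with ⟨-, e⟩ | ⟨hlt, hgen, e⟩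
    · exact ⟨1, one_mem _, Fin.ext (by rw [map_one]; exact e.symm)⟩
    · obtain ⟨g, hg, eg⟩ := ih _ hlt (by omega)
      refine ⟨gen (treeF k i % 8) * g, mul_mem (mem_fixS.2 ⟨hS _ (lt_of_lt_of_le hgen (levelN_le hk)),
        fun m hm => gen_fix hk hgen hm⟩) hg, ?_⟩
      rw [map_mul, Equiv.Perm.mul_apply, eg]
      exact Fin.ext ((act_gen _ _).trans e.symm)

theorem card_level (S : Subgroup fourRu) (hS : ∀ j < 7, gen j ∈ S) {k : ℕ} (hk : k < 6) :
    Nat.card (fixS S k) = levelSize.getD k 0 * Nat.card (fixS S (k + 1)) := by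
  refine card_step (fixS S k) (bF k) (fun i => ⟨orbF k i, (orb_step hk i.2).1⟩) ?_ ?_ ?_
  · intro a b h
    have h' : orbF k a = orbF k b := congrArg Fin.val h
    exact Fin.ext (List.inj_on_of_nodup_map (orb_nodup hk) (List.mem_range.2 a.2) (List.mem_range.2 b.2) h')
  · exact fun i => orbit_mem S hS hk i i.2
  · intro g hg
    have hc := cand_of_fixed g k (mem_fixS.1 hg).2 (bF k)
    obtain ⟨i, hi, e⟩ := cand_in hk (Fin.is_lt _) hc
    exact ⟨⟨i, hi⟩, Fin.ext e.symm⟩

theorem card_of_gens (S : Subgroup fourRu) (hS : ∀ j < 7, gen j ∈ S) : Nat.card S = 583704576000 := by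
  have h : ∀ k < 6, Nat.card (fixS S k) = levelSize.getD k 0 * Nat.card (fixS S (k + 1)) :=
    fun k hk => card_level S hS hk
  have h6 : Nat.card (fixS S 6) = 1 := by
    rw [Subgroup.card_eq_one, Subgroup.eq_bot_iff_forall]
    exact fun g hg => fix_six_eq_one (mem_fixS.1 hg).2
  show Nat.card (fixS S 0) = _
  rw [h 0 (by norm_num), h 1 (by norm_num), h 2 (by norm_num), h 3 (by norm_num), h 4 (by norm_num),
    h 5 (by norm_num), h6]
  norm_num [levelSize]

theorem card_fourRu : Nat.card fourRu = 583704576000 := by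
  rw [← card_of_gens ⊤ (fun _ _ => Subgroup.mem_top _)]
  exact (Nat.card_congr (Equiv.Set.univ _)).symm

theorem closure_gen : Subgroup.closure {g : fourRu | ∃ j < 7, g = gen j} = ⊤ := by
  refine Subgroup.eq_top_of_card_eq _ ?_
  rw [card_fourRu]
  exact card_of_gens _ fun j hj => Subgroup.subset_closure ⟨j, hj, rfl⟩

end CfsgLib.KnownC.RuGroup
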