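import Cfsg.Agent.Lib.KnownC.RuGroup.SlpSteps

/-!
# The seven generators computed from three elements
-/

set_option autoImplicit false
set_option maxRecDepth 100000
set_option maxHeartbeats 0

namespace CfsgLib.KnownC.RuGroup

theorem steps_all (k : ℕ) (hk : k < 159) :
    (let e := slpSteps.getD k (false, 0, 0)
    Nat.blt e.2.1 (k + 3) && Nat.blt e.2.2 (k + 3) &&
      cond e.1 (invK (slpVal e.2.1) (slpVals.getD k (fun _ => 0)))
        (mulK (slpVal e.2.1) (slpVal e.2.2) (slpVals.getD k (fun _ => 0)))) = true := by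
  rcases lt_or_ge k 40 with h | h
  · exact List.all_eq_true.1 steps0 k (List.mem_range'.2 ⟨k, h, by omega⟩)
  rcases lt_or_ge k 80 with h | h
  · exact List.all_eq_true.1 steps1 k (List.mem_range'.2 ⟨k - 40, by omega, by omega⟩)
  rcases lt_or_ge k 120 with h | h
  · exact List.all_eq_true.1 steps2 k (List.mem_range'.2 ⟨k - 80, by omega, by omega⟩)
  exact List.all_eq_true.1 steps3 k (List.mem_range'.2 ⟨k - 120, by omega, by omega⟩)

attribute [local irreducible] slpVals slpSteps slpTargets tX tN tB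

theorem slp_mem (S : Subgroup (Equiv.Perm (Fin 4060)))
    (h : ∀ i < 3, ∃ g ∈ S, RepF (slpVal i) g) : ∀ i < 162, ∃ g ∈ S, RepF (slpVal i) g := by
  intro i
  induction i using Nat.strong_induction_on with
  | _ i ih =>
    intro hi
    rcases lt_or_ge i 3 with h3 | h3
    · exact h i h3
    obtain ⟨k, rfl⟩ : ∃ k, i = k + 3 := ⟨i - 3, by omega⟩
    have hv : slpVal (k + 3) = slpVals.getD k (fun _ => 0) := by
      simp [slpVal, show ¬ k + 3 = 0 by omega, show ¬ k + 3 = 1 by omega, show ¬ k + 3 = 2 by omega]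
    have hs := steps_all k (by omega)
    simp only [Bool.and_eq_true, Nat.blt_eq] at hs
    obtain ⟨⟨ha, hb⟩, hc⟩ := hs
    obtain ⟨g, hg, rg⟩ := ih _ ha (by omega)
    rw [hv]
    cases he : (slpSteps.getD k (false, 0, 0)).1
    · obtain ⟨g', hg', rg'⟩ := ih _ hb (by omega)
      rw [he] at hc
      refine ⟨g * g', mul_mem hg hg', fun p => ?_⟩
      rw [Nat.eq_of_beq_eq_true (List.all_eq_true.1 hc p (List.mem_range.2 p.2))]
      exact rg.comp rg' p
    · rw [he] at hc
      refine ⟨g⁻¹, inv_mem hg, fun p => ?_⟩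
      have h2 := List.all_eq_true.1 hc p (List.mem_range.2 p.2)
      simp only [Bool.and_eq_true, Nat.beq_eq, Nat.blt_eq] at h2
      have h3' := rg ⟨_, h2.2⟩
      have h4 : g ⟨_, h2.2⟩ = p := Fin.ext (h3'.symm.trans h2.1)
      conv_rhs => rw [Equiv.Perm.inv_def, ← h4, Equiv.symm_apply_apply]

end CfsgLib.KnownC.RuGroup
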