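import Cfsg.Agent.Lib.KnownC.RuGroup.Simple
import Cfsg.Agent.Lib.KnownC.RuGroup.CentN
import Cfsg.Agent.Lib.KnownC.RuGroup.SlpCheck

/-!
# Every automorphism of the Rudvalis group is inner
-/

set_option autoImplicit false
set_option maxRecDepth 100000
set_option maxHeartbeats 0

namespace CfsgLib.KnownC.RuGroup

open Cfsg Cfsg.Spor

attribute [local irreducible] vecsAt sortV posV sep unitV fwd0 fwd1 fwd2 fwd3 fwd4 fwd5 fwd6 bwd0 bwd1 bwd2 bwd3
  bwd4 bwd5 bwd6 orb0 orb1 orb2 orb3 orb4 orb5 tree0 tree1 tree2 tree3 tree4 tree5 orbBits subO subT subP tX tN tZ tB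
  sigX ordX posX sigN ordN posN slpVals slpSteps slpTargets

/-- An element normalising the cyclic group of order 29. -/
noncomputable def nR : Ru := QuotientGroup.mk (wordG wN)

/-- An involution commuting with it. -/
noncomputable def zR : Ru := QuotientGroup.mk (wordG wZ)

/-- An involution inverting it. -/
noncomputable def bR : Ru := QuotientGroup.mk (wordG wB)

theorem repX : RepF tX (ruHom xR) := rep_X
theorem repN : RepF tN (ruHom nR) := repF_word wordN
theorem repZ : RepF tZ (ruHom zR) := repF_word wordZ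
theorem repB : RepF tB (ruHom bR) := repF_word wordB

theorem eq_of_reps {s t : ℕ → ℕ} {g h : Ru} (hg : RepF s (ruHom g)) (hh : RepF t (ruHom h))
    (he : ∀ i < 4060, s i = t i) : g = h :=
  ruHom_injective (Equiv.ext fun i => Fin.ext (by rw [← hg i, he i i.2, hh i]))

theorem rep_mul {s t : ℕ → ℕ} {g h : Ru} (hg : RepF s (ruHom g)) (hh : RepF t (ruHom h)) :
    RepF (fun i => s (t i)) (ruHom (g * h)) := by
  rw [map_mul]; exact hg.comp hh

theorem rep_pow {s : ℕ → ℕ} {g : Ru} (hg : RepF s (ruHom g)) (k : ℕ) : RepF (iterF s k) (ruHom (g ^ k)) := by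
  rw [map_pow]; exact hg.iter k

theorem rep_id : RepF (fun i => i) (ruHom 1) := fun i => by rw [map_one]; rfl

theorem rels : nR * xR = xR ^ 4 * nR ∧ nR * zR = zR * nR ∧ bR * nR = nR ^ 13 * bR ∧ nR ^ 14 = 1 ∧ zR * zR = 1 ∧
    bR * bR = 1 := by
  have h := relations
  simp only [List.all_eq_true, List.mem_range, Bool.and_eq_true, Nat.beq_eq] at h
  exact ⟨eq_of_reps (rep_mul repN repX) (rep_mul (rep_pow repX 4) repN) fun i hi => (h i hi).1.1.1.1.1,
    eq_of_reps (rep_mul repN repZ) (rep_mul repZ repN) fun i hi => (h i hi).1.1.1.1.2,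
    eq_of_reps (rep_mul repB repN) (rep_mul (rep_pow repN 13) repB) fun i hi => (h i hi).1.1.1.2,
    eq_of_reps (rep_pow repN 14) rep_id fun i hi => (h i hi).1.1.2,
    eq_of_reps (rep_mul repZ repZ) rep_id fun i hi => (h i hi).1.2,
    eq_of_reps (rep_mul repB repB) rep_id fun i hi => (h i hi).2⟩

theorem xR_pow : xR ^ 29 = 1 := orderOf_xR ▸ pow_orderOf_eq_one xR

/-- The elements commuting with the element of order 14. -/
noncomputable def elN (k : ℕ) : Ru := nR ^ (k % 14) * if k < 14 then 1 else zR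

theorem rep_elN (k : ℕ) : RepF (centA k) (ruHom (elN k)) := by
  by_cases hk : k < 14
  · rw [elN, if_pos hk, mul_one]
    intro i
    rw [centA, show Nat.blt k 14 = true by simpa [Nat.blt_eq] using hk, cond_true]
    exact rep_pow repN _ i
  · rw [elN, if_neg hk]
    intro i
    rw [centA, show Nat.blt k 14 = false from Bool.eq_false_iff.2 (by simpa [Nat.blt_eq] using hk), cond_false]
    exact rep_mul (rep_pow repN _) repZ i

theorem elN_comm (k : ℕ) : Commute (elN k) nR := by
  unfold elN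
  refine ((Commute.refl nR).pow_left _).mul_left ?_
  split_ifs
  · exact Commute.one_left _
  · exact rels.2.1.symm

/-- The centraliser of the element of order 14. -/
theorem cent_nR {c : Ru} (hc : Commute c nR) : ∃ k < 28, c = elN k := by
  obtain ⟨k, hk, e⟩ := cent_spec (by decide) candN1 candN2 pairN sigNok sepN repN
    (fun k => ruHom (elN k)) (fun k _ => rep_elN k) (fun k _ => pres_ruHom _)
    (fun k _ => (elN_comm k).map ruHom) (pres_ruHom c) (hc.map ruHom)
  exact ⟨k, hk, ruHom_injective e⟩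

theorem closure_three : Subgroup.closure ({xR, nR, bR} : Set Ru) = ⊤ := by
  rw [← top_le_iff, ← closure_ru, Subgroup.closure_le]
  rintro _ ⟨j, hj, rfl⟩
  have h := slp_mem ((Subgroup.closure ({xR, nR, bR} : Set Ru)).map ruHom) (fun i hi => by
    interval_cases i
    · exact ⟨_, ⟨xR, Subgroup.subset_closure (by simp), rfl⟩, repX⟩
    · exact ⟨_, ⟨nR, Subgroup.subset_closure (by simp), rfl⟩, repN⟩
    · exact ⟨_, ⟨bR, Subgroup.subset_closure (by simp), rfl⟩, repB⟩)
  have hlt : slpTargets.getD j 0 < 162 := by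
    by_cases hl : j < slpTargets.length
    · rw [List.getD_eq_getElem _ _ hl]
      simpa [Nat.blt_eq] using List.all_eq_true.1 slp_len.2 _ (List.getElem_mem hl)
    · rw [List.getD_eq_default _ _ (not_lt.1 hl)]; norm_num
  obtain ⟨_, ⟨g, hg, rfl⟩, hr⟩ := h _ hlt
  have he : g = QuotientGroup.mk (gen j) := ruHom_injective (Equiv.ext fun p => Fin.ext (by
    rw [← hr p, Nat.eq_of_beq_eq_true (List.all_eq_true.1 (List.all_eq_true.1 targets_ok j (List.mem_range.2 hj)) p
      (List.mem_range.2 p.2)), ruHom_mk, lineAct_gen]))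
  exact he ▸ hg

theorem conj_pow (k m : ℕ) : nR ^ k * xR ^ m * (nR ^ k)⁻¹ = xR ^ (m * 4 ^ k) := by
  have h1 : MulAut.conj nR xR = xR ^ 4 := by
    rw [MulAut.conj_apply, mul_inv_eq_iff_eq_mul]; exact rels.1
  induction k generalizing m with
  | zero => simp
  | succ k ih =>
    calc nR ^ (k + 1) * xR ^ m * (nR ^ (k + 1))⁻¹ = MulAut.conj nR (nR ^ k * xR ^ m * (nR ^ k)⁻¹) := by
          rw [MulAut.conj_apply, pow_succ']; group
      _ = xR ^ (m * 4 ^ (k + 1)) := by rw [ih, map_pow, h1, ← pow_mul]; congr 1; ring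

theorem exponents : ∀ j < 29, 0 < j → ∃ k < 14, j * 4 ^ k % 29 = 1 ∨ j * 4 ^ k % 29 = 2 := by decide +kernel

theorem shift (t : ℕ) : xR ^ t * nR = nR * xR ^ (22 * t) := by
  have h := conj_pow 1 (22 * t)
  rw [pow_one, pow_one, mul_inv_eq_iff_eq_mul] at h
  rw [h, show 22 * t * 4 = 29 * (3 * t) + t by ring, pow_add, pow_mul, xR_pow, one_pow, one_mul]

/-- The product of the elements named by a word. -/
noncomputable def evW (a n b : Ru) (w : List ℕ) : Ru :=
  (w.map fun c => if c = 0 then a else if c = 1 then n else b).prod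

theorem map_evW (f : MulAut Ru) (a n b : Ru) (w : List ℕ) : f (evW a n b w) = evW (f a) (f n) (f b) w := by
  rw [evW, evW, map_list_prod, List.map_map]
  refine congrArg List.prod (List.map_congr_left fun c _ => ?_)
  simp only [Function.comp_apply]
  split_ifs <;> rfl

theorem rep_test (s k : ℕ) : ∀ w : List ℕ,
    RepF (testApp s k w) (ruHom (evW (xR ^ s) nR (bR * elN k) w))
  | [] => fun i => by simp [testApp, evW]
  | c :: w => fun i => by
    have ih := rep_test s k w
    show cond (Nat.beq c 0) (iterF tX s (testApp s k w i))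
      (cond (Nat.beq c 1) (tN (testApp s k w i)) (tB (centA k (testApp s k w i)))) = _
    rw [show evW (xR ^ s) nR (bR * elN k) (c :: w) =
      (if c = 0 then xR ^ s else if c = 1 then nR else bR * elN k) * evW (xR ^ s) nR (bR * elN k) w from
        List.prod_cons]
    by_cases h0 : c = 0
    · rw [h0, Nat.beq_refl, cond_true, if_pos rfl]
      exact rep_mul (rep_pow repX s) ih i
    rw [show Nat.beq c 0 = false from Bool.eq_false_iff.2 (fun h => h0 (Nat.eq_of_beq_eq_true h)), cond_false,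
      if_neg h0]
    by_cases h1 : c = 1
    · rw [h1, Nat.beq_refl, cond_true, if_pos rfl]
      exact rep_mul repN ih i
    rw [show Nat.beq c 1 = false from Bool.eq_false_iff.2 (fun h => h1 (Nat.eq_of_beq_eq_true h)), cond_false,
      if_neg h1]
    exact rep_mul (rep_mul repB (rep_elN k)) ih i

theorem not_moves (ε : MulAut Ru) {s k : ℕ} (ha : ε xR = xR ^ s) (hn : ε nR = nR) (hb : ε bR = bR * elN k) :
    movesK s k = false := by
  refine Bool.eq_false_iff.2 fun h => ?_
  simp only [movesK, List.any_eq_true, List.mem_range] at h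
  obtain ⟨e, he, i, hi, hmove⟩ := h
  have h1 : evW xR nR bR e.1 ^ e.2 = 1 := by
    have hr := rep_test 1 0 e.1
    rw [pow_one, show elN 0 = 1 by simp [elN], mul_one] at hr
    refine eq_of_reps (rep_pow hr e.2) rep_id fun p hp => ?_
    exact Nat.eq_of_beq_eq_true (List.all_eq_true.1 (List.all_eq_true.1 test_one e he) p (List.mem_range.2 hp))
  have h2 := congrArg ε h1
  rw [map_pow, map_evW, ha, hn, hb, map_one] at h2
  have h3 := (rep_pow (rep_test s k e.1) e.2) ⟨i, by omega⟩
  rw [h2, map_one, Equiv.Perm.one_apply] at h3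
  simp only [Bool.not_eq_true'] at hmove
  exact absurd (hmove.symm.trans (by rw [show iterF (testApp s k e.1) e.2 i = i from h3, Nat.beq_refl]))
    Bool.false_ne_true

theorem inner (α : MulAut Ru) : α ∈ Inn Ru := by
  haveI : Fact (Nat.Prime 29) := ⟨by norm_num⟩
  obtain ⟨g, j, hj0, hj, hg⟩ := CfsgLib.Sporadic.OutCert.exists_conj_pow (p := 29) (G := Ru)
    (by rw [card_Ru]; norm_num) orderOf_xR ((MulEquiv.orderOf_eq α xR).trans orderOf_xR)
  obtain ⟨k, -, hk⟩ := exponents j hj hj0
  obtain ⟨s, hs, hs'⟩ : ∃ s, j * 4 ^ k % 29 = s ∧ (s = 1 ∨ s = 2) := ⟨_, rfl, hk⟩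
  suffices h : ∀ δ : MulAut Ru, δ xR = xR ^ s → δ ∈ Inn Ru by
    have hc : MulAut.conj (nR ^ k * g) ∈ Inn Ru := ⟨_, rfl⟩
    have hm : (MulAut.conj (nR ^ k * g) * α) xR = xR ^ s := by
      calc (MulAut.conj (nR ^ k * g) * α) xR = nR ^ k * (g * α xR * g⁻¹) * (nR ^ k)⁻¹ := by
            rw [MulAut.mul_apply, MulAut.conj_apply]; group
        _ = xR ^ s := by rw [hg, conj_pow, ← pow_mod_orderOf, orderOf_xR, hs]
    have := mul_mem (inv_mem hc) (h _ hm)
    rwa [inv_mul_cancel_left] at this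
  intro δ hδ
  have hback : ∀ y : Ru, Commute y (xR ^ s) → Commute y xR := by
    intro y hy
    rcases hs' with rfl | rfl
    · simpa using hy
    · have h := hy.pow_right 15
      rwa [← pow_mul, show 2 * 15 = 29 + 1 by norm_num, pow_add, xR_pow, one_mul, pow_one] at h
  obtain ⟨i, -, hi⟩ : ∃ i < 29, δ nR = nR * xR ^ i := by
    have h8 : δ nR * xR ^ s = (xR ^ s) ^ 4 * δ nR := by
      have := congrArg δ rels.1
      rwa [map_mul, map_mul, map_pow, hδ] at this
    have hc : Commute (nR⁻¹ * δ nR) (xR ^ s) := by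
      have h6 : nR⁻¹ * (xR ^ s) ^ 4 = xR ^ s * nR⁻¹ := by
        have h := conj_pow 1 s
        rw [pow_one, pow_one, mul_inv_eq_iff_eq_mul] at h
        rw [eq_mul_inv_iff_mul_eq, mul_assoc, ← pow_mul, ← h, inv_mul_cancel_left]
      show nR⁻¹ * δ nR * xR ^ s = xR ^ s * (nR⁻¹ * δ nR)
      rw [mul_assoc, h8, ← mul_assoc, h6, mul_assoc]
    obtain ⟨i, hi, e⟩ := cent_xR (hback _ hc)
    exact ⟨i, hi, by rw [← e, mul_inv_cancel_left]⟩
  let ε := MulAut.conj (xR ^ (11 * i)) * δ
  have eA : ε xR = xR ^ s := by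
    rw [MulAut.mul_apply, hδ, MulAut.conj_apply, ((Commute.refl xR).pow_pow _ _).eq, mul_inv_cancel_right]
  have eN : ε nR = nR := by
    rw [MulAut.mul_apply, hi, MulAut.conj_apply, ← mul_assoc, shift, mul_assoc nR, ← pow_add,
      show 22 * (11 * i) + i = 29 * (8 * i) + 11 * i by ring, pow_add, pow_mul, xR_pow, one_pow, one_mul,
      mul_inv_cancel_right]
  obtain ⟨p, hp, eB⟩ : ∃ p < 28, ε bR = bR * elN p := by
    have h8 : ε bR * nR = nR ^ 13 * ε bR := by
      have := congrArg ε rels.2.2.1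
      rwa [map_mul, map_mul, map_pow, eN] at this
    have hc : Commute (bR⁻¹ * ε bR) nR := by
      have h6 : bR⁻¹ * nR ^ 13 = nR * bR⁻¹ := by
        rw [eq_mul_inv_iff_mul_eq, mul_assoc, ← rels.2.2.1, inv_mul_cancel_left]
      show bR⁻¹ * ε bR * nR = nR * (bR⁻¹ * ε bR)
      rw [mul_assoc, h8, ← mul_assoc, h6, mul_assoc]
    obtain ⟨p, hp, e⟩ := cent_nR hc
    exact ⟨p, hp, by rw [← e, mul_inv_cancel_left]⟩
  have hno := not_moves ε eA eN eB
  have h0 := List.all_eq_true.1 test_rest p (List.mem_range.2 hp)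
  simp only [Bool.and_eq_true, Bool.or_eq_true, Nat.beq_eq] at h0
  rcases hs' with rfl | rfl
  · rw [hno] at h0
    obtain rfl : p = 0 := h0.1.resolve_right (by simp)
    have hB1 : ε bR = bR := by rw [eB]; simp [elN]
    have he : ε = 1 := by
      have h : Set.EqOn ε.toMonoidHom (1 : MulAut Ru).toMonoidHom ({xR, nR, bR} : Set Ru) := by
        rintro y (rfl | rfl | rfl)
        · exact eA.trans (pow_one _)
        · exact eN
        · exact hB1
      exact MulEquiv.ext fun y => DFunLike.congr_fun (MonoidHom.eq_of_eqOn_dense closure_three h) y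
    rw [show δ = (MulAut.conj (xR ^ (11 * i)))⁻¹ from eq_inv_of_mul_eq_one_right he]
    exact inv_mem ⟨_, rfl⟩
  · rw [hno] at h0
    exact absurd h0.2 (by simp)

theorem card_out : Nat.card (Out Ru) = 1 := by
  have : Subsingleton (Out Ru) := ⟨fun x y => by
    obtain ⟨α, rfl⟩ := QuotientGroup.mk_surjective x
    obtain ⟨β, rfl⟩ := QuotientGroup.mk_surjective y
    exact ((QuotientGroup.eq_one_iff α).2 (inner α)).trans ((QuotientGroup.eq_one_iff β).2 (inner β)).symm⟩
  exact Nat.card_unique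

end CfsgLib.KnownC.RuGroup
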