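import Cfsg.Agent.Lib.KnownC.RuGroup.PermCheck

/-!
# The checks on the generators, part 0
-/

set_option autoImplicit false
set_option maxRecDepth 100000
set_option maxHeartbeats 0
set_option Elab.async false

namespace CfsgLib.KnownC.RuGroup

theorem mapB0 : mapK bwd0 fwd0 = true := by decide +kernel

theorem mapF0 : mapK fwd0 bwd0 = true := by decide +kernel

theorem perm0 : permK fwd0 bwd0 = true := by decide +kernel

theorem lineA0 : lineK fwd0 0 2030 = true := by decide +kernel

theorem lineB0 : lineK fwd0 2030 2030 = true := by decide +kernel

theorem good0 : PermGood fwd0 bwd0 := permGood_of mapB0 mapF0 perm0 lineA0 lineB0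

theorem mapB1 : mapK bwd1 fwd1 = true := by decide +kernel

theorem mapF1 : mapK fwd1 bwd1 = true := by decide +kernel

theorem perm1 : permK fwd1 bwd1 = true := by decide +kernel

theorem lineA1 : lineK fwd1 0 2030 = true := by decide +kernel

theorem lineB1 : lineK fwd1 2030 2030 = true := by decide +kernel

theorem good1 : PermGood fwd1 bwd1 := permGood_of mapB1 mapF1 perm1 lineA1 lineB1

theorem mapB2 : mapK bwd2 fwd2 = true := by decide +kernel

theorem mapF2 : mapK fwd2 bwd2 = true := by decide +kernel

theorem perm2 : permK fwd2 bwd2 = true := by decide +kernel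

theorem lineA2 : lineK fwd2 0 2030 = true := by decide +kernel

theorem lineB2 : lineK fwd2 2030 2030 = true := by decide +kernel

theorem good2 : PermGood fwd2 bwd2 := permGood_of mapB2 mapF2 perm2 lineA2 lineB2

end CfsgLib.KnownC.RuGroup
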