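import Cfsg.Agent.Lib.KnownC.RuGroup.Code

/-!
# The weights of the code words, part 1
-/

set_option autoImplicit false
set_option maxRecDepth 100000
set_option maxHeartbeats 0
set_option Elab.async false

namespace CfsgLib.KnownC.RuGroup

theorem wchunk8 : allSub wordK [9442236628784390, 204098993691143, 16492674478080, 9483059756241671, 31157174162755860, 1047894714257424, 3581169514090512, 10295440360652805, 1165106725830674, 31002552386732054, 3097217588380178, 9344725838479361, 22502063842099731, 35196470611165185, 48900841555640342] 31002554802651161 = true := by decide +kernel

theorem wchunk9 : allSub wordK [9442236628784390, 204098993691143, 16492674478080, 9483059756241671, 31157174162755860, 1047894714257424, 3581169514090512, 10295440360652805, 1165106725830674, 31002552386732054, 3097217588380178, 9344725838479361, 22502063842099731, 35196470611165185, 48900841555640342] 3581169679553423 = true := by decide +kernel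

theorem wchunk10 : allSub wordK [9442236628784390, 204098993691143, 16492674478080, 9483059756241671, 31157174162755860, 1047894714257424, 3581169514090512, 10295440360652805, 1165106725830674, 31002552386732054, 3097217588380178, 9344725838479361, 22502063842099731, 35196470611165185, 48900841555640342] 20740637725118812 = true := by decide +kernel

theorem wchunk11 : allSub wordK [9442236628784390, 204098993691143, 16492674478080, 9483059756241671, 31157174162755860, 1047894714257424, 3581169514090512, 10295440360652805, 1165106725830674, 31002552386732054, 3097217588380178, 9344725838479361, 22502063842099731, 35196470611165185, 48900841555640342] 12158566152553162 = true := by decide +kernel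

theorem wchunk12 : allSub wordK [9442236628784390, 204098993691143, 16492674478080, 9483059756241671, 31157174162755860, 1047894714257424, 3581169514090512, 10295440360652805, 1165106725830674, 31002552386732054, 3097217588380178, 9344725838479361, 22502063842099731, 35196470611165185, 48900841555640342] 9063063401889832 = true := by decide +kernel

theorem wchunk13 : allSub wordK [9442236628784390, 204098993691143, 16492674478080, 9483059756241671, 31157174162755860, 1047894714257424, 3581169514090512, 10295440360652805, 1165106725830674, 31002552386732054, 3097217588380178, 9344725838479361, 22502063842099731, 35196470611165185, 48900841555640342] 18770210246923198 = true := by decide +kernel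

theorem wchunk14 : allSub wordK [9442236628784390, 204098993691143, 16492674478080, 9483059756241671, 31157174162755860, 1047894714257424, 3581169514090512, 10295440360652805, 1165106725830674, 31002552386732054, 3097217588380178, 9344725838479361, 22502063842099731, 35196470611165185, 48900841555640342] 2174722876150125 = true := by decide +kernel

theorem wchunk15 : allSub wordK [9442236628784390, 204098993691143, 16492674478080, 9483059756241671, 31157174162755860, 1047894714257424, 3581169514090512, 10295440360652805, 1165106725830674, 31002552386732054, 3097217588380178, 9344725838479361, 22502063842099731, 35196470611165185, 48900841555640342] 28468833702478587 = true := by decide +kernel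

end CfsgLib.KnownC.RuGroup
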