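import Cfsg.Agent.Lib.KnownC.RuGroup.Words0
import Cfsg.Agent.Lib.KnownC.RuGroup.Words1

/-!
# All code words of weight at most 16 are known
-/

set_option autoImplicit false
set_option maxRecDepth 100000
set_option maxHeartbeats 0

namespace CfsgLib.KnownC.RuGroup

open CfsgLib.KnownC.RuLattice (info1 gen1)

theorem allSub_cons {f : ℕ → Bool} {g : ℕ} {r : List ℕ} {acc : ℕ} (h0 : allSub f r acc = true)
    (h1 : allSub f r (Nat.xor g acc) = true) : allSub f (g :: r) acc = true := by
  show cond (allSub f r acc) (allSub f r (Nat.xor g acc)) false = true
  rw [h0, h1]; rfl

theorem gens_eq : (info1.map fun i => gen1.getD i 0) = [31002554802651161, 21979676205498417, 11130531263615301, 27757887237723030, 9442236628784390, 204098993691143, 16492674478080, 9483059756241671, 31157174162755860, 1047894714257424, 3581169514090512, 10295440360652805, 1165106725830674, 31002552386732054, 3097217588380178, 9344725838479361, 22502063842099731, 35196470611165185, 48900841555640342] := by decide +kernel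

attribute [local irreducible] allSub wordK

theorem all_words : allSub wordK (info1.map fun i => gen1.getD i 0) 0 = true := by
  rw [gens_eq]
  refine allSub_cons ?_ ?_
  · refine allSub_cons ?_ ?_
    · refine allSub_cons ?_ ?_
      · refine allSub_cons ?_ ?_
        · exact wchunk0
        · exact wchunk1
      · refine allSub_cons ?_ ?_
        · exact wchunk2
        · exact wchunk3
    · refine allSub_cons ?_ ?_
      · refine allSub_cons ?_ ?_
        · exact wchunk4
        · exact wchunk5
      · refine allSub_cons ?_ ?_
        · exact wchunk6
        · exact wchunk7
  · refine allSub_cons ?_ ?_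
    · refine allSub_cons ?_ ?_
      · refine allSub_cons ?_ ?_
        · exact wchunk8
        · exact wchunk9
      · refine allSub_cons ?_ ?_
        · exact wchunk10
        · exact wchunk11
    · refine allSub_cons ?_ ?_
      · refine allSub_cons ?_ ?_
        · exact wchunk12
        · exact wchunk13
      · refine allSub_cons ?_ ?_
        · exact wchunk14
        · exact wchunk15

end CfsgLib.KnownC.RuGroup
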