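import Cfsg.Agent.Lib.KnownC.RuGroup.Syn
import Cfsg.Agent.Lib.KnownC.RuGroup.Words
import Cfsg.Agent.Lib.KnownC.RuGroup.Entries0
import Cfsg.Agent.Lib.KnownC.RuGroup.Entries1
import Cfsg.Agent.Lib.KnownC.RuGroup.Entries2

/-!
# The lattice has only the numbered vectors of norm sixteen
-/

set_option autoImplicit false
set_option maxRecDepth 100000
set_option maxHeartbeats 0

namespace CfsgLib.KnownC.RuGroup

open Cfsg.Spor CfsgLib.KnownC.RuLattice

theorem entries_ok {c : List (ℕ × ℕ × ℕ × ℕ × ℕ × ℕ)} (hc : c ∈ wordsC) : c.all entryK = true := by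
  simp only [wordsC, List.mem_cons, List.not_mem_nil, or_false] at hc
  rcases hc with rfl | rfl | rfl | rfl | rfl | rfl | rfl | rfl | rfl | rfl | rfl | rfl | rfl | rfl | rfl | rfl | rfl | rfl | rfl | rfl | rfl | rfl | rfl | rfl | rfl | rfl | rfl | rfl | rfl
  exacts [entries0, entries1, entries2, entries3, entries4, entries5, entries6, entries7, entries8, entries9, entries10, entries11, entries12, entries13, entries14, entries15, entries16, entries17, entries18, entries19, entries20, entries21, entries22, entries23, entries24, entries25, entries26, entries27, entries28]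

attribute [local irreducible] col colP colR rows bucket wordsC vecsAt hiBits parity basis parP hiP singles smallSet
  allSub wordK

theorem gens_lt : (info1.all fun i => Nat.blt (gen1.getD i 0) (2 ^ 56)) = true := by decide +kernel

theorem info1_lt : ∀ i ∈ info1, i < 56 := fun i hi => sets.1 i (List.mem_append_left _ hi)

theorem foldl_word : ∀ (S : List ℕ) (P : ℕ → Bool) (acc : ℕ),
    ((((S.map fun i => gen1.getD i 0).zip (S.map P)).filterMap fun p => if p.2 then some p.1 else none).foldl
      Nat.xor acc) = acc ^^^ word gen1 (S.filter P)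
  | [], P, acc => by simp [word]
  | a :: S, P, acc => by
    cases hP : P a
    · simpa [hP] using foldl_word S P acc
    · rw [List.filter_cons_of_pos hP, show word gen1 (a :: S.filter P) = gen1.getD a 0 ^^^ word gen1 (S.filter P) from rfl,
        ← Nat.xor_assoc]
      simpa [hP, -List.getD_eq_getElem?_getD] using foldl_word S P (acc ^^^ gen1.getD a 0)

theorem word_lt : ∀ S : List ℕ, (∀ i ∈ S, gen1.getD i 0 < 2 ^ 56) → word gen1 S < 2 ^ 56
  | [], _ => by simp [word]
  | a :: S, h => Nat.xor_lt_two_pow (h a List.mem_cons_self) (word_lt S fun i hi => h i (List.mem_cons_of_mem _ hi))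

theorem maskL_inj {L : List ℕ} {w : ℕ} (h : maskL L = w) (j : ℕ) : j ∈ L ↔ w.testBit j = true := by
  rw [← h, maskL_testBit, decide_eq_true_eq]

theorem sum_bool (P : ℕ → Bool) :
    ((List.range 56).filter P).length = ∑ i ∈ Finset.range 56, (P i).toNat := by
  have h := sum_filter P (fun _ => 1)
  simpa [List.map_const', List.sum_replicate] using h

theorem mem_small {L : List ℕ} (hL : L.Sublist (List.range 56)) (hlen : L.length ≤ 2) : L ∈ small := by
  have hlt : ∀ a ∈ L, a < 56 := fun a ha => List.mem_range.1 (hL.subset ha)
  match L, hlen with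
  | [], _ => exact List.mem_cons_self
  | [a], _ =>
    exact List.mem_cons_of_mem _ (List.mem_append_left _ (List.mem_map.2 ⟨a, List.mem_range.2 (hlt a (by simp)), rfl⟩))
  | [b, a], _ =>
    have hp : List.Pairwise (· < ·) [b, a] := List.pairwise_lt_range.sublist hL
    simp only [List.pairwise_cons, List.mem_singleton, forall_eq] at hp
    exact List.mem_cons_of_mem _ (List.mem_append_right _ (List.mem_flatMap.2
      ⟨a, List.mem_range.2 (hlt a (by simp)), List.mem_map.2 ⟨b, List.mem_range.2 hp.1, rfl⟩⟩))

theorem synR_append (a b : List ℕ) : synR (a ++ b) = synR a ^^^ synR b := by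
  rw [synR, List.map_append, xs_append, synR, synR]

/-- Every vector of norm sixteen has a number. -/
theorem exists_vec {x : RuVec} (hx : x ∈ M) (h16 : B x x = 16) : ∃ u < 16240, x = vec u := by
  classical
  set f := co x with hf
  have hsum : ∑ i ∈ Finset.range 56, f i * f i = 16 := h16
  set w := word gen1 (info1.filter (odd x)) with hwd
  have hw : ∀ j < 56, w.testBit j = odd x j := fun j hj => bit_word info1_ok info1_lt hx hj
  have hwlt : w < 2 ^ 56 := word_lt _ fun i hi => by
    simpa [Nat.blt_eq] using List.all_eq_true.1 gens_lt i (List.mem_of_mem_filter hi)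
  have hpopw : pop w = ∑ i ∈ Finset.range 56, (odd x i).toNat := by
    rw [pop_eq]; exact Finset.sum_congr rfl fun i hi => by rw [hw i (Finset.mem_range.1 hi)]
  have hsq : ∀ i, ((odd x i).toNat : ℤ) ≤ f i * f i := by
    intro i
    by_cases h0 : f i = 0
    · simp [odd, ← hf, h0]
    · have : 1 ≤ f i * f i := Int.add_one_le_iff.2 (mul_self_pos.2 h0)
      cases odd x i <;> simp <;> linarith
  have hpop16 : pop w ≤ 16 := by
    have h : (pop w : ℤ) ≤ 16 := by
      rw [hpopw, Nat.cast_sum, ← hsum]; exact Finset.sum_le_sum fun i _ => hsq i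
    exact_mod_cast h
  have hk : known w = true := by
    have h := allSub_spec wordK _ 0 all_words (info1.map (odd x)) (by simp)
    rw [foldl_word, Nat.zero_xor, ← hwd] at h
    rw [wordK] at h
    cases hb : Nat.blt 16 (pop w)
    · rw [hb] at h; exact h
    · rw [Nat.blt_eq] at hb; omega
  obtain ⟨v, hv, hvw⟩ := List.any_eq_true.1 hk
  rw [Nat.beq_eq] at hvw
  have hcls : w = 0 ∨ w ∈ short ∨ ∃ c ∈ wordsC, ∃ e ∈ c, e.1 = w := by
    have hb : bucket.getD (w % 61) [] ∈ bucket := by
      by_cases hl : w % 61 < bucket.length
      · exact mem_getD hl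
      · rw [List.getD_eq_default _ _ (not_lt.1 hl)] at hv; simp at hv
    have h := List.all_eq_true.1 (List.all_eq_true.1 bucket_ok _ hb) v hv
    simp only [Bool.or_eq_true, Nat.beq_eq, List.any_eq_true, hvw] at h
    rcases h with (h | ⟨s, hs, hsw⟩) | h
    · exact Or.inl h
    · exact Or.inr (Or.inl (hsw ▸ hs))
    · by_cases h0 : w = 0
      · exact Or.inl h0
      refine Or.inr (Or.inr ?_)
      by_cases hl : v.2.1 < wordsC.length
      · by_cases hl2 : v.2.2 < (wordsC.getD v.2.1 []).length
        · exact ⟨_, mem_getD hl, _, mem_getD hl2, h⟩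
        · rw [List.getD_eq_default _ _ (not_lt.1 hl2)] at h; exact absurd h.symm h0
      · rw [List.getD_eq_default _ _ (not_lt.1 hl)] at h
        exact absurd h.symm (by simpa using h0)
  set H := hb x with hH
  have hq : ∀ i, H i = true → odd x i = false → 4 ≤ f i * f i := by
    intro i h1 h2
    simp only [hH, hb, ← hf, decide_eq_true_eq] at h1
    simp only [odd, ← hf, decide_eq_false_iff_not] at h2
    have h2f : f i ≤ -2 ∨ 2 ≤ f i := by omega
    rcases h2f with h | h <;> nlinarith
  set off := (List.range 56).filter (fun i => !odd x i && H i) with hoff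
  have hcnt : pop w + 4 * off.length ≤ 16 := by
    have h : ((pop w + 4 * off.length : ℕ) : ℤ) ≤ 16 := by
      rw [hoff, sum_bool, hpopw, Finset.mul_sum, ← Finset.sum_add_distrib, Nat.cast_sum, ← hsum]
      refine Finset.sum_le_sum fun i _ => ?_
      have h1 := hsq i
      have h2 := hq i
      have h3 : (0 : ℤ) ≤ f i * f i := mul_self_nonneg _
      cases ho : odd x i <;> cases hh : H i <;> simp [ho, hh] at h1 h2 ⊢ <;> linarith
    exact_mod_cast h
  rcases hcls with h0 | hs | ⟨c, hc, e, he, hew⟩
  · -- all coordinates even
    have heven : ∀ i < 56, odd x i = false := fun i hi => by rw [← hw i hi, h0, Nat.zero_testBit]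
    have hoffL : off = hL x := List.filter_congr fun i hi => by rw [heven i (List.mem_range.1 hi)]; rfl
    have hlen : (hL x).length ≤ 4 := by rw [← hoffL]; omega
    have hsyn : synR (hL x) = 0 := by
      rw [synR_eq hx hw, h0]; decide +kernel
    have hinj := List.inj_on_of_nodup_map (insK_spec _ small_ok).1
    have hsub : (hL x).Sublist (List.range 56) := List.filter_sublist
    have heq : (hL x).take 2 = (hL x).drop 2 := by
      refine hinj (mem_small ((List.take_sublist _ _).trans hsub) (by simp))
        (mem_small ((List.drop_sublist _ _).trans hsub) (by rw [List.length_drop]; omega)) ?_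
      apply Nat.eq_of_xor_eq_zero
      rw [← synR_append, List.take_append_drop, hsyn]
    have hnil : hL x = [] := by
      have hnd : (hL x).Nodup := List.nodup_range.sublist hsub
      rw [← List.take_append_drop 2 (hL x), heq] at hnd
      have h := (List.nodup_append.1 hnd).2.2
      have hd : (hL x).drop 2 = [] :=
        List.eq_nil_iff_forall_not_mem.2 fun a ha => h a ha a ha rfl
      rw [← List.take_append_drop 2 (hL x), heq, hd, List.append_nil]
    have hfour : ∀ i < 56, 4 ∣ f i := by
      intro i hi
      have h1 := heven i hi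
      have h2 : H i = false := by
        by_contra hc
        have : i ∈ hL x := List.mem_filter.2 ⟨List.mem_range.2 hi, by simpa using hc⟩
        rw [hnil] at this; simp at this
      simp only [odd, ← hf, decide_eq_false_iff_not] at h1
      simp only [hH, hb, ← hf, decide_eq_false_iff_not] at h2
      omega
    obtain ⟨i0, hi0, hne⟩ : ∃ i ∈ Finset.range 56, f i * f i ≠ 0 :=
      Finset.exists_ne_zero_of_sum_ne_zero (by rw [hsum]; norm_num)
    have hi0' := Finset.mem_range.1 hi0
    have hge : 16 ≤ f i0 * f i0 := by
      obtain ⟨z, hz⟩ := hfour i0 hi0'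
      have : z ≠ 0 := fun h => hne (by rw [hz, h]; ring)
      have h1 : 1 ≤ z * z := Int.add_one_le_iff.2 (mul_self_pos.2 this)
      rw [hz]; nlinarith
    have hrest : ∀ i < 56, i ≠ i0 → f i = 0 := by
      intro i hi hne'
      by_contra h
      have h1 : f i * f i + f i0 * f i0 ≤ ∑ j ∈ Finset.range 56, f j * f j := by
        rw [← Finset.sum_pair (f := fun j => f j * f j) hne']
        exact Finset.sum_le_sum_of_subset_of_nonneg
          (fun j hj => by
            simp only [Finset.mem_insert, Finset.mem_singleton] at hj
            rcases hj with rfl | rfl <;> exact Finset.mem_range.2 ‹_›)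
          (fun j _ _ => mul_self_nonneg _)
      have : 0 < f i * f i := mul_self_pos.2 h
      omega
    have hval : f i0 = 4 ∨ f i0 = -4 := by
      have : f i0 * f i0 ≤ 16 := by
        rw [← hsum]; exact Finset.single_le_sum (f := fun j => f j * f j) (fun j _ => mul_self_nonneg _) hi0
      exact mul_self_eq_mul_self_iff.1 (show f i0 * f i0 = 4 * 4 by omega)
    have hsing : ∀ s < 2, ∃ u < 16240, ∀ j < 56, coT (trip u) j =
        if j = i0 then (if s = 0 then (4 : ℤ) else -4) else 0 := by
      intro s hs
      have h := List.all_eq_true.1 (List.all_eq_true.1 singles_ok i0 (List.mem_range.2 hi0')) s (List.mem_range.2 hs)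
      simp only [Bool.and_eq_true, Nat.blt_eq, Nat.beq_eq] at h
      obtain ⟨hu, h1, h2, h4⟩ := h
      refine ⟨_, hu, fun j _ => ?_⟩
      rw [show Nat.shiftLeft 1 i0 = 1 <<< i0 from rfl, Nat.shiftLeft_eq, one_mul] at h1
      interval_cases s
      · simp only [Nat.beq_refl, if_true] at h1 h2
        rw [coT, h1, h2, h4, Nat.zero_testBit, Nat.testBit_two_pow]
        by_cases hj : j = i0 <;> [simp [hj]; simp [hj, Ne.symm hj]]
      · norm_num [-List.getD_eq_getElem?_getD] at h1 h2
        rw [coT, h1, h2, h4, Nat.zero_testBit, Nat.testBit_two_pow]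
        by_cases hj : j = i0 <;> [simp [hj]; simp [hj, Ne.symm hj]]
    rcases hval with hv4 | hv4
    · obtain ⟨u, hu, hco⟩ := hsing 0 (by norm_num)
      refine ⟨u, hu, ext_co fun j hj => ?_⟩
      rw [co_vec u hj, hco j hj]
      by_cases hj0 : j = i0
      · rw [if_pos hj0, hj0, if_pos rfl]; exact hv4
      · rw [if_neg hj0]; exact hrest j hj hj0
    · obtain ⟨u, hu, hco⟩ := hsing 1 (by norm_num)
      refine ⟨u, hu, ext_co fun j hj => ?_⟩
      rw [co_vec u hj, hco j hj]
      by_cases hj0 : j = i0
      · rw [if_pos hj0, hj0, if_neg (by norm_num)]; exact hv4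
      · rw [if_neg hj0]; exact hrest j hj hj0
  · -- eight odd coordinates
    exfalso
    have hp8 : pop w = 8 := by
      have h := beq_iff_eq.1 (List.all_eq_true.1 RuLattice.short_ok w hs)
      rw [pop_eq, ← sum_bool]; exact h
    set inw := (List.range 56).filter (fun i => odd x i && H i) with hinw
    have hperm : (hL x).Perm (inw ++ off) := by
      have h := List.filter_append_perm (odd x) (hL x)
      simp only [hL, List.filter_filter] at h
      refine h.symm.trans (List.Perm.append ?_ ?_)
      · rw [hinw]
      · rw [hoff]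
    have hsubl : inw ∈ (suppL w).sublists := by
      rw [List.mem_sublists, hinw, suppL,
        List.filter_congr (p := fun i => odd x i && H i) (q := fun i => w.testBit i && H i)
          (fun i hi => by rw [hw i (List.mem_range.1 hi)])]
      exact List.monotone_filter_right _ (fun i h => by simp at h; exact h.1)
    have h := List.all_eq_true.1 (List.all_eq_true.1 RuGroup.short_ok w hs) inw hsubl
    have hmem : synR off ∈ small.map synR :=
      List.mem_map.2 ⟨off, mem_small List.filter_sublist (by omega), rfl⟩
    have hbit := ((insK_spec _ small_ok).2 (synR off)).2 hmem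
    have heq : Nat.xor (twR w) (synR inw) = synR off := by
      rw [← synR_eq hx hw, show synR (hL x) = synR (inw ++ off) from xs_perm (hperm.map _), synR_append]
      show synR inw ^^^ synR off ^^^ synR inw = _
      rw [Nat.xor_comm (synR inw) (synR off), Nat.xor_assoc, Nat.xor_self, Nat.xor_zero]
    simp only [heq] at h
    rw [show smallSet.testBit (synR off) = true by unfold smallSet; exact hbit] at h
    simp at h
  · -- sixteen odd coordinates
    rw [← hew] at hw hpopw hpop16 hk hvw hcnt hwlt
    have hE := List.all_eq_true.1 (entries_ok hc) e he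
    simp only [entryK, Bool.and_eq_true, Nat.beq_eq] at hE
    obtain ⟨⟨⟨hp, -⟩, htw⟩, hbody⟩ := hE
    have hone : ∀ i < 56, f i * f i = ((odd x i).toNat : ℤ) := by
      intro i hi
      have h : ∑ i ∈ Finset.range 56, ((odd x i).toNat : ℤ) = ∑ i ∈ Finset.range 56, f i * f i := by
        rw [hsum, ← Nat.cast_sum, ← hpopw, hp]; rfl
      exact ((Finset.sum_eq_sum_iff_of_le fun i _ => hsq i).1 h i (Finset.mem_range.2 hi)).symm
    have hsub : ∀ i < 56, H i = true → odd x i = true := by
      intro i hi h1
      by_contra h2
      have h2' : odd x i = false := by simpa using h2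
      have := hq i h1 h2'
      rw [hone i hi, h2'] at this
      simp at this
    have htk : ∀ k < 56, (syn (hL x)).testBit k = e.2.1.testBit k := fun k hk => by
      rw [syn_eq hx hw hk, htw]
    cases hroot : Nat.beq e.2.2.1 0
    · rw [hroot] at hbody
      simp only [cond_false, Bool.and_eq_true, List.all_eq_true, Nat.beq_eq] at hbody
      have hS : pop (e.2.2.1 &&& syn (hL x)) % 2 = 0 := by
        refine pop_land_xs _ _ _ fun i hi => ?_
        obtain ⟨hi1, hi2⟩ := List.mem_filter.1 hi
        refine hbody.2 i (List.mem_filter.2 ⟨hi1, ?_⟩)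
        rw [hw i (List.mem_range.1 hi1)]
        exact hsub i (List.mem_range.1 hi1) hi2
      have hz := prune_false (tw := e.2.1) (s := 0) (fun k hk => by rw [Nat.zero_xor]; exact htk k hk) hS
      rw [hz] at hbody
      simp at hbody
    · rw [hroot] at hbody
      simp only [cond_true, Bool.and_eq_true, Nat.beq_eq] at hbody
      obtain ⟨hmask, hstat, hdfs⟩ := hbody
      set L := (orderOf' e).map Prod.fst with hLdef
      have hmemL : ∀ j, j ∈ L ↔ (e.1).testBit j = true := maskL_inj hmask
      have hbit56 : ∀ j, (e.1).testBit j = true → j < 56 := by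
        intro j hj
        by_contra h
        rw [Nat.testBit_lt_two_pow (lt_of_lt_of_le hwlt (Nat.pow_le_pow_right (by norm_num) (not_lt.1 h)))] at hj
        simp at hj
      have hLnd : L.Nodup := by
        have hlen : L.length = 16 := by simp [hLdef, orderOf']
        have hfin : L.toFinset = (Finset.range 56).filter fun j => (e.1).testBit j = true := by
          ext j
          simp only [List.mem_toFinset, Finset.mem_filter, Finset.mem_range, hmemL]
          exact ⟨fun h => ⟨hbit56 j h, h⟩, fun h => h.2⟩
        have hcard : L.toFinset.card = 16 := by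
          rw [hfin, Finset.card_filter, ← hp, pop_eq]
          exact Finset.sum_congr rfl fun i _ => by cases (e.1).testBit i <;> rfl
        rw [← List.dedup_eq_self]
        refine (List.dedup_sublist L).eq_of_length ?_
        rw [← List.card_toFinset, hcard, hlen]
      have hperm : (L.filter H).Perm (hL x) := by
        refine (List.perm_ext_iff_of_nodup (hLnd.filter _) (List.nodup_range.filter _)).2 fun j => ?_
        simp only [List.mem_filter, List.mem_range, hmemL]
        constructor
        · exact fun h => ⟨hbit56 j h.1, h.2⟩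
        · exact fun h => ⟨by rw [hw j h.1]; exact hsub j h.1 h.2, h.2⟩
      obtain ⟨m, hm, hbitm⟩ := dfs_spec (leafK e) e.2.1 H (orderOf' e) 0 0 hdfs hstat fun k hk => by
        rw [Nat.zero_xor, show syn (L.filter H) = syn (hL x) from xs_perm (hperm.map _)]; exact htk k hk
      simp only [leafK, List.any_eq_true, Bool.and_eq_true, Nat.blt_eq, Nat.beq_eq] at hm
      obtain ⟨j0, -, hu, h1, h2, h3⟩ := hm
      refine ⟨_, hu, ext_co fun j hj => ?_⟩
      have hmj : m.testBit j = (odd x j && H j) := by
        rw [hbitm j, Nat.zero_testBit, Bool.false_or, Bool.eq_iff_iff, decide_eq_true_eq, List.mem_filter,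
          hmemL, hw j hj, Bool.and_eq_true]
      rw [co_vec _ hj, coT, h1, h2, h3, show Nat.xor e.1 m = e.1 ^^^ m from rfl, Nat.testBit_xor, hmj, hw j hj]
      have h1' := hone j hj
      cases ho : odd x j
      · rw [ho] at h1'
        simpa [← hf] using mul_self_eq_zero.1 h1'
      · rw [ho] at h1'
        have hpm : f j = 1 ∨ f j = -1 := mul_self_eq_one_iff.1 (by simpa using h1')
        rcases hpm with hv1 | hv1 <;> simp [hH, hb, ← hf, hv1]

end CfsgLib.KnownC.RuGroup
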