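import Cfsg.Agent.Lib.KnownC.RuGroup.Maps
import Cfsg.Agent.Lib.KnownC.RuGroup.Short

/-!
# Maps of the lattice and their permutations of the shortest vectors
-/

set_option autoImplicit false
set_option maxRecDepth 100000
set_option maxHeartbeats 0

namespace CfsgLib.KnownC.RuGroup

open Cfsg.Spor CfsgLib.KnownC.RuLattice

/-- The checks on the two tables of a generator. -/
noncomputable def permK (f b : ℕ → ℕ) : Bool :=
  ((List.range 4060).all fun l => Nat.blt (f l) 16240 && Nat.blt (b l) 16240) &&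
    ((List.range 16240).all fun u => Nat.beq (actP f (actP b u)) u) &&
    (sep.all fun q => memT (trip q) &&
      (List.range 56).all fun i =>
        decide ((bK q (row b i) : ℤ) = 4096 + 4 * coT (trip (actP f q)) i))

/-- The checks on the lines in a range. -/
noncomputable def lineK (f : ℕ → ℕ) (lo n : ℕ) : Bool :=
  (List.range' lo n).all fun l => Nat.beq (patK (sep.map (actP f)) (f l)) (patK sep (4 * l))

attribute [local irreducible] vecsAt sortV posV sep unitV dig patK

theorem sep_succ : (sep.all fun q => sep.contains (succU q) ||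
    sep.any fun q0 => Nat.beq (succU q0) q) = true := by
  unfold sep; decide +kernel

theorem actP_lt {T : ℕ → ℕ} (h : ∀ l < 4060, T l < 16240) {u : ℕ} (hu : u < 16240) : actP T u < 16240 := by
  have := h (u / 4) (by omega)
  unfold actP
  dsimp only
  omega

theorem actP_succ (T : ℕ → ℕ) (u : ℕ) : actP T (succU u) = succU (actP T u) := by
  have e1 : succU u / 4 = u / 4 := by unfold succU; omega
  have e2 : succU u % 4 = (u % 4 + 1) % 4 := by unfold succU; omega
  unfold actP
  rw [e1, e2]
  dsimp only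
  simp only [succU]
  omega

theorem vec_succ_succ {u : ℕ} (hu : u < 16240) : vec (succU (succU u)) = -vec u := by
  rw [vec_succ (succU_lt hu), vec_succ hu, gI_gI]

/-- What the checks give. -/
structure PermGood (f b : ℕ → ℕ) : Prop where
  map : Good b f
  inv_map : Good f b
  fwd_lt : ∀ {u}, u < 16240 → actP f u < 16240
  bwd_lt : ∀ {u}, u < 16240 → actP b u < 16240
  surj : ∀ {u}, u < 16240 → actP f (actP b u) = u
  sep_mem : ∀ q ∈ sep, vec q ∈ M
  sep_img : ∀ q ∈ sep, lin b (vec q) = vec (actP f q)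
  lines : ∀ l < 4060, ∀ q ∈ sep, bK (actP f (4 * l)) (actP f q) = bK (4 * l) q

theorem permGood_of {f b : ℕ → ℕ} (h1 : mapK b f = true) (h2 : mapK f b = true) (h3 : permK f b = true)
    (h4 : lineK f 0 2030 = true) (h5 : lineK f 2030 2030 = true) : PermGood f b := by
  simp only [permK, Bool.and_eq_true, List.all_eq_true, List.mem_range, Nat.blt_eq, Nat.beq_eq,
    decide_eq_true_eq] at h3
  obtain ⟨⟨hlt, hs⟩, hsep⟩ := h3
  have hf : ∀ {u}, u < 16240 → actP f u < 16240 := fun hu => actP_lt (fun l hl => (hlt l hl).1) hu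
  have hb : ∀ {u}, u < 16240 → actP b u < 16240 := fun hu => actP_lt (fun l hl => (hlt l hl).2) hu
  refine ⟨good_of_mapK h1, good_of_mapK h2, hf, hb, fun hu => hs _ hu, fun q hq => vec_mem_of_memT (sep_lt hq) (hsep q hq).1,
    fun q hq => ext_co fun i hi => ?_, fun l hl q hq => ?_⟩
  · rw [co_lin _ _ hi, co_vec _ hi]
    have h := (hsep q hq).2 i hi
    rw [bK_eq (sep_lt hq) ((good_of_mapK h1).row_lt i hi)] at h
    omega
  · have hl4 : actP f (4 * l) = f l := by
      have e1 : 4 * l / 4 = l := by omega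
      have e2 : 4 * l % 4 = 0 := by omega
      unfold actP
      rw [e1, e2]
      dsimp only
      omega
    have h : patK (sep.map (actP f)) (f l) = patK sep (4 * l) := by
      rcases lt_or_ge l 2030 with h | h
      · simpa [Nat.beq_eq] using List.all_eq_true.1 h4 l (List.mem_range'.2 ⟨l, h, by simp⟩)
      · simpa [Nat.beq_eq] using List.all_eq_true.1 h5 l (List.mem_range'.2 ⟨l - 2030, by omega, by omega⟩)
    rw [hl4]
    refine patK_inj (hlt l hl).1 (by omega) (by simp) (fun p hp => ?_) (fun p hp => sep_lt hp) h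
      (actP f q, q) ?_
    · obtain ⟨r, hr, rfl⟩ := List.mem_map.1 hp
      exact hf (sep_lt hr)
    · rw [List.zip_map_left]
      refine List.mem_map.2 ⟨(q, q), ?_, rfl⟩
      obtain ⟨i, hi, rfl⟩ := List.getElem_of_mem hq
      exact List.mem_iff_getElem.2 ⟨i, by simpa using hi, by simp⟩

namespace PermGood

variable {f b : ℕ → ℕ} (h : PermGood f b)
include h

theorem succ_step {v : ℕ} (hv : v < 16240) (ih : ∀ q ∈ sep, bK (actP f v) (actP f q) = bK v q) :
    ∀ q ∈ sep, bK (actP f (succU v)) (actP f q) = bK (succU v) q := by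
  intro q hq
  have hq' := sep_lt hq
  refine bK_congr (h.fwd_lt (succU_lt hv)) (h.fwd_lt hq') (succU_lt hv) hq' ?_
  rw [actP_succ, vec_succ (h.fwd_lt hv), vec_succ hv, B_gI, B_gI]
  have hc := List.all_eq_true.1 sep_succ q hq
  simp only [Bool.or_eq_true, List.any_eq_true, Nat.beq_eq] at hc
  rcases hc with hc | ⟨q0, hq0, e⟩
  · have hs : succU q ∈ sep := List.contains_iff_mem.1 hc
    rw [← vec_succ (h.fwd_lt hq'), ← vec_succ hq', ← actP_succ,
      B_of_bK (h.fwd_lt hv) (h.fwd_lt (sep_lt hs)) hv (sep_lt hs) (ih _ hs)]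
  · have h0 := sep_lt hq0
    subst e
    rw [actP_succ, ← vec_succ (succU_lt (h.fwd_lt h0)), ← vec_succ (succU_lt h0), vec_succ_succ (h.fwd_lt h0),
      vec_succ_succ h0, B_neg_right, B_neg_right,
      B_of_bK (h.fwd_lt hv) (h.fwd_lt h0) hv h0 (ih _ hq0)]

theorem pattern {v : ℕ} (hv : v < 16240) : ∀ q ∈ sep, bK (actP f v) (actP f q) = bK v q := by
  obtain ⟨l, k, hk, rfl⟩ : ∃ l k, k < 4 ∧ v = 4 * l + k := ⟨v / 4, v % 4, by omega, by omega⟩
  induction k with
  | zero => exact h.lines l (by omega)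
  | succ k ih =>
    have e : 4 * l + (k + 1) = succU (4 * l + k) := by unfold succU; omega
    rw [e]
    exact h.succ_step (by omega) (ih (by omega) (by omega))

/-- The map moves a vector of the lattice as the table says. -/
theorem lin_vec {u : ℕ} (hu : u < 16240) (hm : vec u ∈ M) : lin b (vec u) = vec (actP f u) := by
  have hy : lin b (vec u) ∈ M := h.map.lin_mem hm
  obtain ⟨a, ha, hav⟩ := exists_vec hy (by rw [h.map.B_lin hm hm h.inv_map, B_self hu])
  rw [hav]
  refine congrArg vec ?_
  have key : actP b a = u := by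
    refine eq_of_sep (h.bwd_lt ha) hu fun q hq => ?_
    rw [← h.pattern (h.bwd_lt ha) q hq, h.surj ha]
    refine bK_congr ha (h.fwd_lt (sep_lt hq)) hu (sep_lt hq) ?_
    rw [← hav, ← h.sep_img q hq, h.map.B_lin hm (h.sep_mem q hq) h.inv_map]
  rw [← key, h.surj ha]

end PermGood

end CfsgLib.KnownC.RuGroup
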