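import Cfsg.Agent.Lib.KnownC.RuGroup.SimpleCheck
import Cfsg.Agent.Lib.KnownC.RuGroup.CentX
import Cfsg.Agent.Lib.Sporadic.OutCert.Out

/-!
# The Rudvalis group is simple
-/

set_option autoImplicit false
set_option maxRecDepth 100000
set_option maxHeartbeats 0

namespace CfsgLib.KnownC.RuGroup

open Cfsg.Spor

attribute [local irreducible] vecsAt sortV posV sep unitV fwd0 fwd1 fwd2 fwd3 fwd4 fwd5 fwd6 bwd0 bwd1 bwd2 bwd3
  bwd4 bwd5 bwd6 orb0 orb1 orb2 orb3 orb4 orb5 tree0 tree1 tree2 tree3 tree4 tree5 orbBits subO subT subP tX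
  sigX ordX posX

instance : Finite Ru := Finite.of_injective _ ruHom_injective

/-- The action of the Rudvalis group on the lines. -/
noncomputable instance lineMul : MulAction Ru (Fin 4060) := MulAction.compHom _ ruHom

theorem smul_eq (g : fourRu) (l : Fin 4060) : (QuotientGroup.mk g : Ru) • l = lineAct g l := rfl

instance : MulAction.IsPretransitive Ru (Fin 4060) := by
  refine MulAction.IsPretransitive.mk fun l m => ?_
  have h : ∀ l : Fin 4060, ∃ g : fourRu, lineAct g (lineOf (bF 0)) = l := fun l => by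
    obtain ⟨i, hi, e⟩ := cand_in (k := 0) (u := (repOf l : ℕ)) (by norm_num) (Fin.is_lt _) rfl
    obtain ⟨g, -, hg⟩ := orbit_mem ⊤ (fun _ _ => Subgroup.mem_top _) (k := 0) (by norm_num) i hi
    exact ⟨g, by rw [lineAct_lineOf, hg.trans (Fin.ext e), lineOf_repOf]⟩
  obtain ⟨g, hg⟩ := h l
  obtain ⟨k, hk⟩ := h m
  refine ⟨QuotientGroup.mk (k * g⁻¹), ?_⟩
  rw [smul_eq, map_mul, Equiv.Perm.mul_apply, ← hg, map_inv, Equiv.Perm.inv_def, Equiv.symm_apply_apply, hk]

/-- An element of order 29. -/
noncomputable def xG : fourRu := wordG wX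

/-- An element of order 29 of the Rudvalis group. -/
noncomputable def xR : Ru := QuotientGroup.mk xG

theorem rep_X : RepF tX (lineAct xG) := repF_word wordX

theorem ruHom_xR : ruHom xR = lineAct xG := rfl

theorem orderOf_xR : orderOf xR = 29 := by
  haveI := Fact.mk (show Nat.Prime 29 by norm_num)
  refine orderOf_eq_prime ?_ fun h => ?_
  · refine ruHom_injective ?_
    rw [map_pow, map_one, ruHom_xR]
    refine Equiv.ext fun i => Fin.ext ?_
    rw [← (rep_X.iter 29) i]
    exact Nat.eq_of_beq_eq_true (List.all_eq_true.1 powX.1 i (List.mem_range.2 i.2))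
  · have h' : lineAct xG = 1 := by rw [← ruHom_xR, h, map_one]
    have hb : baseX.1 < 4060 := by decide
    have h2 := rep_X ⟨baseX.1, hb⟩
    rw [h', Equiv.Perm.one_apply] at h2
    have h3 := powX.2
    rw [show tX baseX.1 = baseX.1 from h2, Nat.beq_refl] at h3
    exact Bool.false_ne_true h3.symm

theorem pres_ruHom (c : Ru) : Pres (ruHom c) := by
  obtain ⟨g, rfl⟩ := QuotientGroup.mk_surjective c
  exact pres_lineAct g

/-- The centraliser of the element of order 29. -/
theorem cent_xR {c : Ru} (hc : Commute c xR) : ∃ k < 29, c = xR ^ k := by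
  obtain ⟨k, hk, e⟩ := cent_spec (by decide) candX1 candX2 pairX sigXok sepX rep_X
    (fun k => lineAct xG ^ k) (fun k _ => rep_X.iter k)
    (fun k _ => by rw [← map_pow]; exact pres_lineAct _) (fun k _ => (Commute.refl _).pow_left k)
    (pres_ruHom c) (ruHom_xR ▸ hc.map ruHom)
  exact ⟨k, hk, ruHom_injective (by rw [e, map_pow, ruHom_xR])⟩

/-- The stabiliser of the first line is transitive on each suborbit. -/
theorem sub_orbit : ∀ i, i < 4059 → ∃ g : Ru, g • (0 : Fin 4060) = 0 ∧
    (g • Fin.ofNat 4060 (subO (subRoot i))).val = subO i := by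
  intro i
  induction i using Nat.strong_induction_on with
  | _ i ih =>
    intro hi
    have h := List.all_eq_true.1 sub_tree i (List.mem_range.2 hi)
    simp only [Bool.and_eq_true, Bool.or_eq_true, Nat.blt_eq, Nat.beq_eq, Bool.not_eq_true'] at h
    obtain ⟨⟨hlt, -⟩, (h0 | h1) | ⟨⟨⟨hp, hgen⟩, hroot⟩, e⟩⟩ := h
    · refine ⟨1, one_smul _ _, ?_⟩
      rw [one_smul, subRoot, h0]
      subst h0
      simp [subN, Nat.mod_eq_of_lt hlt]
    · refine ⟨1, one_smul _ _, ?_⟩
      rw [one_smul, subRoot, if_neg (by omega)]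
      subst h1
      simp [Nat.mod_eq_of_lt hlt]
    · obtain ⟨g, hg0, hg⟩ := ih _ hp (by omega)
      refine ⟨QuotientGroup.mk (gen (subT i % 8)) * g, ?_, ?_⟩
      · rw [mul_smul, hg0, smul_eq]
        refine Fin.ext ((lineAct_gen _ _).trans ?_)
        exact Nat.eq_of_beq_eq_true (List.all_eq_true.1 sub_fix _ (List.mem_range.2 hgen))
      · rw [mul_smul, smul_eq, lineAct_gen, ← hroot, hg, e]

theorem sub_cases {l : Fin 4060} (hl : l ≠ 0) : ∃ i < 4059, subO i = (l : ℕ) := by
  have h := List.all_eq_true.1 sub_pos l (List.mem_range.2 l.2)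
  simp only [Bool.or_eq_true, Nat.beq_eq, Bool.and_eq_true, Nat.blt_eq] at h
  rcases h with h | ⟨h1, h2⟩
  · exact absurd (Fin.ext h) hl
  · exact ⟨_, h1, h2⟩

theorem subO_lt {i : ℕ} (hi : i < 4059) : subO i < 4060 ∧ subO i ≠ 0 := by
  have h := List.all_eq_true.1 sub_tree i (List.mem_range.2 hi)
  simp only [Bool.and_eq_true, Nat.blt_eq, Bool.not_eq_true'] at h
  exact ⟨h.1.1, fun e => by rw [e, Nat.beq_refl] at h; exact Bool.noConfusion h.1.2⟩

/-- A non-trivial normal subgroup is transitive. -/
theorem normal_transitive (N : Subgroup Ru) [N.Normal] (hN : N ≠ ⊥) :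
    ∀ l : Fin 4060, l ∈ MulAction.orbit N (0 : Fin 4060) := by
  classical
  set S := MulAction.orbit N (0 : Fin 4060) with hS
  have hblock : MulAction.IsBlock Ru S := MulAction.IsBlock.orbit_of_normal 0
  have h0 : (0 : Fin 4060) ∈ S := MulAction.mem_orbit_self _
  have hdvd : S.ncard ∣ 4060 := by
    simpa using hblock.ncard_dvd_card ⟨0, h0⟩
  have hstab : ∀ g : Ru, g • (0 : Fin 4060) = 0 → ∀ y ∈ S, g • y ∈ S := by
    rintro g hg _ ⟨n, rfl⟩
    refine ⟨⟨g * n * g⁻¹, ‹N.Normal›.conj_mem n n.2 g⟩, ?_⟩
    have h : g⁻¹ • (0 : Fin 4060) = 0 := by rw [inv_smul_eq_iff, hg]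
    show (g * (n : Ru) * g⁻¹) • (0 : Fin 4060) = g • ((n : Ru) • (0 : Fin 4060))
    rw [mul_smul, mul_smul, h]
  have hseg : ∀ i < 4059, ∀ j < 4059, subRoot i = subRoot j → Fin.ofNat 4060 (subO i) ∈ S →
      Fin.ofNat 4060 (subO j) ∈ S := by
    intro i hi j hj hr hm
    obtain ⟨g, hg0, hg⟩ := sub_orbit i hi
    obtain ⟨k, hk0, hk⟩ := sub_orbit j hj
    have e1 : g • Fin.ofNat 4060 (subO (subRoot i)) = Fin.ofNat 4060 (subO i) :=
      Fin.ext (hg.trans (by simp [Nat.mod_eq_of_lt (subO_lt hi).1]))
    have e2 : k • Fin.ofNat 4060 (subO (subRoot j)) = Fin.ofNat 4060 (subO j) :=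
      Fin.ext (hk.trans (by simp [Nat.mod_eq_of_lt (subO_lt hj).1]))
    rw [← e2, ← hr, show Fin.ofNat 4060 (subO (subRoot i)) = g⁻¹ • Fin.ofNat 4060 (subO i) by
      rw [← e1, inv_smul_smul], ← mul_smul]
    refine hstab _ ?_ _ hm
    rw [mul_smul, show g⁻¹ • (0 : Fin 4060) = 0 by rw [inv_smul_eq_iff, hg0], hk0]
  have hne : ∃ i < 4059, Fin.ofNat 4060 (subO i) ∈ S := by
    by_contra hno
    push Not at hno
    refine hN ?_
    have hall : ∀ n ∈ N, ∀ l : Fin 4060, n • l = l := by
      have hzero : ∀ n ∈ N, n • (0 : Fin 4060) = 0 := by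
        intro n hn
        by_contra hne
        obtain ⟨i, hi, e⟩ := sub_cases hne
        refine hno i hi ⟨⟨n, hn⟩, Fin.ext ?_⟩
        show ((n • (0 : Fin 4060) : Fin 4060) : ℕ) = _
        simp [e]
      intro n hn l
      obtain ⟨g, rfl⟩ := MulAction.exists_smul_eq Ru (0 : Fin 4060) l
      have := hzero (g⁻¹ * n * g⁻¹⁻¹) (‹N.Normal›.conj_mem n hn g⁻¹)
      rw [inv_inv, mul_smul, mul_smul, inv_smul_eq_iff] at this
      exact this
    rw [Subgroup.eq_bot_iff_forall]
    exact fun n hn => ruHom_injective (Equiv.ext fun l => by rw [map_one, Equiv.Perm.one_apply]; exact hall n hn l)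
  obtain ⟨i0, hi0, hm0⟩ := hne
  by_cases hfull : ∃ j < 4059, subRoot j ≠ subRoot i0 ∧ Fin.ofNat 4060 (subO j) ∈ S
  · obtain ⟨j0, hj0, hne', hmj⟩ := hfull
    intro l
    by_cases hl : l = 0
    · rw [hl]; exact h0
    obtain ⟨i, hi, e⟩ := sub_cases hl
    have he : Fin.ofNat 4060 (subO i) = l := Fin.ext (by simp [e])
    rw [← he]
    by_cases h : subRoot i0 = subRoot i
    · exact hseg i0 hi0 i hi h hm0
    · refine hseg j0 hj0 i hi ?_ hmj
      revert hne' h
      unfold subRoot
      split_ifs <;> simp_all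
  · exfalso
    push Not at hfull
    let T : Finset ℕ := (Finset.range 4059).filter fun j => subRoot j = subRoot i0
    have hcardT : T.card = 2304 ∨ T.card = 1755 := by
      by_cases h : i0 < subN
      · left
        have : T = Finset.range 2304 := by
          ext j
          simp only [T, Finset.mem_filter, Finset.mem_range, subRoot, h, if_true]
          constructor
          · rintro ⟨hj, e⟩
            by_contra hc
            rw [if_neg (by simpa [subN] using hc)] at e
            simp [subN] at e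
          · intro hj
            exact ⟨by omega, by rw [if_pos (by simpa [subN] using hj)]⟩
        rw [this, Finset.card_range]
      · right
        have : T = Finset.Ico 2304 4059 := by
          ext j
          simp only [T, Finset.mem_filter, Finset.mem_range, Finset.mem_Ico, subRoot, h, if_false]
          constructor
          · rintro ⟨hj, e⟩
            refine ⟨?_, hj⟩
            by_contra hc
            rw [if_pos (by simpa [subN] using hc)] at e
            simp [subN] at e
          · intro hj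
            exact ⟨hj.2, by rw [if_neg (by simp [subN]; omega)]⟩
        rw [this, Nat.card_Ico]
    have hSeq : S = ↑(insert (0 : Fin 4060) (T.image fun j => Fin.ofNat 4060 (subO j))) := by
      ext l
      simp only [Finset.coe_insert, Set.mem_insert_iff, Finset.coe_image, Set.mem_image, Finset.mem_coe]
      constructor
      · intro hl
        by_cases hl0 : l = 0
        · exact Or.inl hl0
        obtain ⟨i, hi, e⟩ := sub_cases hl0
        have he : Fin.ofNat 4060 (subO i) = l := Fin.ext (by simp [e])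
        refine Or.inr ⟨i, Finset.mem_filter.2 ⟨Finset.mem_range.2 hi, ?_⟩, he⟩
        by_contra hc
        exact hfull i hi hc (he ▸ hl)
      · rintro (rfl | ⟨j, hj, rfl⟩)
        · exact h0
        · obtain ⟨hj1, hj2⟩ := Finset.mem_filter.1 hj
          exact hseg i0 hi0 j (Finset.mem_range.1 hj1) hj2.symm hm0
    have hval : ∀ j ∈ T, ((Fin.ofNat 4060 (subO j) : Fin 4060) : ℕ) = subO j ∧ subO j ≠ 0 := fun j hj => by
      have h := subO_lt (Finset.mem_range.1 (Finset.mem_filter.1 hj).1)
      exact ⟨by simp [Nat.mod_eq_of_lt h.1], h.2⟩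
    have hinj : Set.InjOn (fun j => Fin.ofNat 4060 (subO j)) ↑T := by
      intro a ha b hb h
      have h' := congrArg Fin.val h
      rw [(hval a ha).1, (hval b hb).1] at h'
      have hs : ∀ c ∈ T, subP (subO c) = c := fun c hc =>
        Nat.eq_of_beq_eq_true (List.all_eq_true.1 sub_inj c
          (List.mem_range.2 (Finset.mem_range.1 (Finset.mem_filter.1 hc).1)))
      rw [← hs a ha, ← hs b hb, h']
    have hnot : (0 : Fin 4060) ∉ T.image fun j => Fin.ofNat 4060 (subO j) := by
      rw [Finset.mem_image]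
      rintro ⟨j, hj, e⟩
      have h' := congrArg Fin.val e
      rw [(hval j hj).1] at h'
      exact (hval j hj).2 h'
    rw [hSeq, Set.ncard_coe_finset, Finset.card_insert_of_notMem hnot, Finset.card_image_of_injOn hinj] at hdvd
    rcases hcardT with h | h <;> rw [h] at hdvd <;> norm_num at hdvd

theorem isSimple : IsSimpleGroup Ru := by
  have : Nontrivial Ru := Finite.one_lt_card_iff_nontrivial.1 (by rw [card_Ru]; norm_num)
  refine IsSimpleGroup.mk fun N hN => ?_
  by_cases hbot : N = ⊥
  · exact Or.inl hbot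
  refine Or.inr ?_
  haveI := hN
  haveI := Fact.mk (show Nat.Prime 29 by norm_num)
  have htr := normal_transitive N hbot
  have h29 : 29 ∣ Nat.card N := by
    have h := Nat.card_congr (MulAction.orbitProdStabilizerEquivGroup N (0 : Fin 4060))
    have hu : MulAction.orbit N (0 : Fin 4060) = Set.univ := Set.eq_univ_of_forall htr
    rw [Nat.card_prod, hu, Nat.card_univ, Nat.card_fin] at h
    exact ⟨140 * Nat.card (MulAction.stabilizer N (0 : Fin 4060)), by omega⟩
  obtain ⟨⟨y, hyN⟩, hy⟩ := exists_prime_orderOf_dvd_card' 29 h29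
  rw [← Subgroup.orderOf_coe] at hy
  obtain ⟨g, j, hj0, hj, hg⟩ : ∃ (g : Ru) (j : ℕ), 0 < j ∧ j < 29 ∧ g * y * g⁻¹ = xR ^ j :=
    CfsgLib.Sporadic.OutCert.exists_conj_pow (by rw [card_Ru]; norm_num) orderOf_xR hy
  have hxN : xR ∈ N := by
    have hj' : xR ^ j ∈ N := hg ▸ hN.conj_mem y hyN g
    have hcop : Nat.Coprime j (orderOf xR) := by
      rw [orderOf_xR, Nat.coprime_comm]
      exact (Nat.Prime.coprime_iff_not_dvd (by norm_num)).2 (Nat.not_dvd_of_pos_of_lt (by omega) hj)
    obtain ⟨m, hm⟩ := exists_pow_eq_self_of_coprime hcop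
    exact hm ▸ pow_mem hj' m
  have hPcard : Nat.card (Subgroup.zpowers xR) = 29 ^ (Nat.card N).factorization 29 := by
    rw [Nat.card_zpowers, orderOf_xR]
    have h1 : (Nat.card N).factorization 29 ≤ (Nat.card Ru).factorization 29 :=
      (Nat.factorization_le_iff_dvd Nat.card_pos.ne' Nat.card_pos.ne').2 (Subgroup.card_subgroup_dvd_card N) 29
    have h2 : (Nat.card Ru).factorization 29 < 2 := by
      by_contra hc
      have := ((show Nat.Prime 29 by norm_num).pow_dvd_iff_le_factorization Nat.card_pos.ne').2 (not_lt.1 hc)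
      rw [card_Ru] at this
      norm_num at this
    have h3 : 1 ≤ (Nat.card N).factorization 29 :=
      ((show Nat.Prime 29 by norm_num).dvd_iff_one_le_factorization Nat.card_pos.ne').1 h29
    rw [show (Nat.card N).factorization 29 = 1 by omega, pow_one]
  let PN : Subgroup N := (Subgroup.zpowers xR).subgroupOf N
  have hle : Subgroup.zpowers xR ≤ N := Subgroup.zpowers_le.2 hxN
  have hPN : Nat.card PN = 29 ^ (Nat.card N).factorization 29 := by
    rw [Nat.card_congr (Subgroup.subgroupOfEquivOfLe hle).toEquiv, hPcard]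
  have hfr := Sylow.normalizer_sup_eq_top (Sylow.ofCard PN hPN)
  rw [Sylow.coe_ofCard, show PN.map N.subtype = Subgroup.zpowers xR from
    (Subgroup.subgroupOf_map_subtype _ _).trans (inf_eq_left.2 hle)] at hfr
  have hexp : ∀ h ∈ Subgroup.normalizer (Subgroup.zpowers xR : Set Ru), h ^ 28 ∈ N := by
    intro h hh
    obtain ⟨m, hm⟩ : ∃ m : ℕ, h * xR * h⁻¹ = xR ^ m := by
      obtain ⟨m, hm⟩ := mem_powers_iff_mem_zpowers.2
        ((Subgroup.mem_normalizer_iff.1 hh xR).1 (Subgroup.mem_zpowers xR))
      exact ⟨m, hm.symm⟩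
    have hpow : ∀ k : ℕ, h ^ k * xR * (h ^ k)⁻¹ = xR ^ m ^ k := by
      intro k
      induction k with
      | zero => simp
      | succ k ih =>
        calc h ^ (k + 1) * xR * (h ^ (k + 1))⁻¹ = MulAut.conj h (h ^ k * xR * (h ^ k)⁻¹) := by
              rw [MulAut.conj_apply, pow_succ']; group
          _ = xR ^ m ^ (k + 1) := by
              rw [ih, map_pow, MulAut.conj_apply, hm, ← pow_mul, ← pow_succ']
    have hm0 : m % 29 ≠ 0 := by
      intro h0
      rw [← pow_mod_orderOf, orderOf_xR, h0, pow_zero, mul_inv_eq_one, mul_eq_left] at hm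
      have := orderOf_xR
      rw [hm, orderOf_one] at this
      norm_num at this
    have hf : m ^ 28 % 29 = 1 := by
      rw [Nat.pow_mod]
      have := Nat.mod_lt m (show 0 < 29 by norm_num)
      interval_cases hr : m % 29 <;> first | (exact absurd rfl hm0) | norm_num
    have h1 := hpow 28
    rw [← pow_mod_orderOf xR (m ^ 28), orderOf_xR, hf, pow_one, mul_inv_eq_iff_eq_mul] at h1
    obtain ⟨k, -, e⟩ := cent_xR (c := h ^ 28) h1
    exact e ▸ pow_mem hxN k
  have hall : ∀ a : Ru, (QuotientGroup.mk' N a) ^ 28 = 1 := by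
    intro a
    have hmem : a ∈ Subgroup.normalizer (Subgroup.zpowers xR : Set Ru) ⊔ N := hfr ▸ Subgroup.mem_top a
    obtain ⟨b, hb, c, hc, rfl⟩ := Subgroup.mem_sup_of_normal_right.1 hmem
    rw [map_mul, show QuotientGroup.mk' N c = 1 from (QuotientGroup.eq_one_iff c).2 hc, mul_one, ← map_pow]
    exact (QuotientGroup.eq_one_iff _).2 (hexp b hb)
  set q := QuotientGroup.mk' N with hq
  let letG : ℕ → fourRu := fun j => if j < 7 then gen j else xG
  have hlet : ∀ j, RepF (letF j) (lineAct (letG j)) := by
    intro j i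
    by_cases hj : j < 7
    · simp only [letF, letG, show Nat.blt j 7 = true by simpa [Nat.blt_eq] using hj, cond_true, if_pos hj]
      exact (lineAct_gen j i).symm
    · have hb : Nat.blt j 7 = false := Bool.eq_false_iff.2 (by simpa [Nat.blt_eq] using hj)
      simp only [letF, letG, hb, cond_false, if_neg hj]
      exact rep_X i
  have happ : ∀ w : List ℕ, RepF (appX w) (lineAct (w.map letG).prod) := by
    intro w
    induction w with
    | nil => intro i; simp [appX]
    | cons j w ih =>
      intro i
      show letF j (appX w i) = _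
      rw [ih i, hlet j, List.map_cons, List.prod_cons, map_mul, Equiv.Perm.mul_apply]
  have step : ∀ c, perfK c = true → c.1 < 7 → (∀ j ∈ c.2.1, q (QuotientGroup.mk (letG j)) = 1) →
      q (QuotientGroup.mk (gen c.1)) = 1 := by
    intro c h hk hw
    simp only [perfK, Bool.and_eq_true, Nat.beq_eq, List.all_eq_true, List.mem_range] at h
    obtain ⟨hgcd, hit⟩ := h
    have hone : (QuotientGroup.mk ((c.1 :: c.2.1).map letG).prod : Ru) ^ c.2.2 = 1 := by
      refine ruHom_injective ?_
      rw [map_pow, map_one, ruHom_mk]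
      exact Equiv.ext fun i => Fin.ext ((((happ _).iter c.2.2) i).symm.trans (hit i i.2))
    have h1 := (pow_gcd_eq_one (a := q (QuotientGroup.mk ((c.1 :: c.2.1).map letG).prod))).2
      ⟨show _ ^ c.2.2 = 1 by rw [← map_pow, hone, map_one], hall _⟩
    rw [hgcd, pow_one, List.map_cons, List.prod_cons, QuotientGroup.mk_mul, map_mul] at h1
    have hrest : ∀ w : List ℕ, (∀ j ∈ w, q (QuotientGroup.mk (letG j)) = 1) →
        q (QuotientGroup.mk (w.map letG).prod) = 1 := by
      intro w
      induction w with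
      | nil => intro _; rw [List.map_nil, List.prod_nil, QuotientGroup.mk_one, map_one]
      | cons j w ih =>
        intro hw
        rw [List.map_cons, List.prod_cons, QuotientGroup.mk_mul, map_mul, hw j List.mem_cons_self,
          ih fun i hi => hw i (List.mem_cons_of_mem _ hi), one_mul]
    rw [hrest _ hw, mul_one] at h1
    simpa [letG, hk] using h1
  have h7 : q (QuotientGroup.mk (letG 7)) = 1 := (QuotientGroup.eq_one_iff _).2 hxN
  have hlt : ∀ j, j < 7 → letG j = gen j := fun j hj => if_pos hj
  obtain ⟨hshape, hwX⟩ := perf_shape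
  have hcase : ∀ i < 6, ((perfW.getD i (0, [], 0)).1, (perfW.getD i (0, [], 0)).2.1) =
      ((perfW.map fun c => (c.1, c.2.1)).getD i (0, [])) := by decide +kernel
  have e0 : q (QuotientGroup.mk (gen 0)) = 1 := by
    have hc := hcase 0 (by norm_num)
    rw [hshape] at hc
    simp only [List.getD_cons_zero, List.getD_cons_succ, Prod.mk.injEq] at hc
    have h := step _ perf0 (by rw [hc.1]; norm_num) (by
      rw [hc.2]
      intro j hj
      simp only [List.mem_cons, List.not_mem_nil, or_false] at hj
      rcases hj with rfl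
      · exact h7)
    rwa [hc.1] at h
  have e1 : q (QuotientGroup.mk (gen 1)) = 1 := by
    have hc := hcase 1 (by norm_num)
    rw [hshape] at hc
    simp only [List.getD_cons_zero, List.getD_cons_succ, Prod.mk.injEq] at hc
    have h := step _ perf1 (by rw [hc.1]; norm_num) (by
      rw [hc.2]
      intro j hj
      simp only [List.mem_cons, List.not_mem_nil, or_false] at hj
      rcases hj with rfl
      · rw [hlt 0 (by norm_num)]; exact e0)
    rwa [hc.1] at h
  have e2 : q (QuotientGroup.mk (gen 2)) = 1 := by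
    have hc := hcase 2 (by norm_num)
    rw [hshape] at hc
    simp only [List.getD_cons_zero, List.getD_cons_succ, Prod.mk.injEq] at hc
    have h := step _ perf2 (by rw [hc.1]; norm_num) (by
      rw [hc.2]
      intro j hj
      simp only [List.mem_cons, List.not_mem_nil, or_false] at hj
      rcases hj with rfl
      · rw [hlt 1 (by norm_num)]; exact e1)
    rwa [hc.1] at h
  have e3 : q (QuotientGroup.mk (gen 3)) = 1 := by
    have hc := hcase 3 (by norm_num)
    rw [hshape] at hc
    simp only [List.getD_cons_zero, List.getD_cons_succ, Prod.mk.injEq] at hc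
    have h := step _ perf3 (by rw [hc.1]; norm_num) (by
      rw [hc.2]
      intro j hj
      simp only [List.mem_cons, List.not_mem_nil, or_false] at hj
      rcases hj with rfl | rfl | rfl
      · rw [hlt 1 (by norm_num)]; exact e1
      · exact h7
      · exact h7)
    rwa [hc.1] at h
  have e4 : q (QuotientGroup.mk (gen 6)) = 1 := by
    have hc := hcase 4 (by norm_num)
    rw [hshape] at hc
    simp only [List.getD_cons_zero, List.getD_cons_succ, Prod.mk.injEq] at hc
    have h := step _ perf4 (by rw [hc.1]; norm_num) (by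
      rw [hc.2]
      intro j hj
      simp only [List.mem_cons, List.not_mem_nil, or_false] at hj
      rcases hj with rfl | rfl | rfl | rfl | rfl
      · exact h7
      · exact h7
      · exact h7
      · exact h7
      · rw [hlt 2 (by norm_num)]; exact e2)
    rwa [hc.1] at h
  have e5 : q (QuotientGroup.mk (gen 4)) = 1 := by
    have hc := hcase 5 (by norm_num)
    rw [hshape] at hc
    simp only [List.getD_cons_zero, List.getD_cons_succ, Prod.mk.injEq] at hc
    have h := step _ perf5 (by rw [hc.1]; norm_num) (by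
      rw [hc.2]
      intro j hj
      simp only [List.mem_cons, List.not_mem_nil, or_false] at hj
      rcases hj with rfl
      · rw [hlt 3 (by norm_num)]; exact e3)
    rwa [hc.1] at h
  have e6 : q (QuotientGroup.mk (gen 5)) = 1 := by
    have h : q (QuotientGroup.mk xG) = 1 := h7
    rw [xG, hwX, wordG] at h
    simp only [List.map_cons, List.map_nil, List.prod_cons, List.prod_nil, mul_one, QuotientGroup.mk_mul, map_mul] at h
    rwa [e4, one_mul] at h
  rw [← top_le_iff, ← closure_ru, Subgroup.closure_le]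
  rintro _ ⟨j, hj, rfl⟩
  refine (QuotientGroup.eq_one_iff _).1 ?_
  interval_cases j
  exacts [e0, e1, e2, e3, e5, e6, e4]

end CfsgLib.KnownC.RuGroup
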