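import Cfsg.Agent.Lib.KnownC.RuGroup.LineCheck
import Cfsg.Agent.Lib.KnownC.RuGroup.SimpleData

/-!
# Checks on suborbits and products of coprime order
-/

set_option autoImplicit false
set_option maxRecDepth 100000
set_option maxHeartbeats 0
set_option Elab.async false

namespace CfsgLib.KnownC.RuGroup

/-- The first line of a suborbit. -/
def subRoot (i : ℕ) : ℕ := if i < subN then 0 else subN

theorem sub_fix : ((List.range 6).all fun j => Nat.beq (fwdF j 0 / 4) 0) = true := by decide +kernel

theorem sub_tree : ((List.range 4059).all fun i =>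
    Nat.blt (subO i) 4060 && !(Nat.beq (subO i) 0) &&
      (Nat.beq i 0 || Nat.beq i subN ||
        (Nat.blt (subT i / 8) i && Nat.blt (subT i % 8) 6 && Nat.beq (subRoot (subT i / 8)) (subRoot i) &&
          Nat.beq (subO i) (fwdF (subT i % 8) (subO (subT i / 8)) / 4)))) = true := by decide +kernel

theorem sub_pos : ((List.range 4060).all fun l =>
    Nat.beq l 0 || (Nat.blt (subP l) 4059 && Nat.beq (subO (subP l)) l)) = true := by decide +kernel

theorem sub_inj : ((List.range 4059).all fun i => Nat.beq (subP (subO i)) i) = true := by decide +kernel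

/-- A letter: a generator, or the element of order 29. -/
noncomputable def letF (j i : ℕ) : ℕ := cond (Nat.blt j 7) (fwdF j i / 4) (tX i)

/-- A word in these letters. -/
noncomputable def appX (w : List ℕ) (i : ℕ) : ℕ := List.rec i (fun j _ v => letF j v) w

/-- The power of a product is trivial. -/
noncomputable def perfK (c : ℕ × List ℕ × ℕ) : Bool :=
  Nat.beq (Nat.gcd c.2.2 28) 1 && (List.range 4060).all fun i => Nat.beq (iterF (appX (c.1 :: c.2.1)) c.2.2 i) i

theorem perf0 : perfK (perfW.getD 0 (0, [], 0)) = true := by decide +kernel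
theorem perf1 : perfK (perfW.getD 1 (0, [], 0)) = true := by decide +kernel
theorem perf2 : perfK (perfW.getD 2 (0, [], 0)) = true := by decide +kernel
theorem perf3 : perfK (perfW.getD 3 (0, [], 0)) = true := by decide +kernel
theorem perf4 : perfK (perfW.getD 4 (0, [], 0)) = true := by decide +kernel
theorem perf5 : perfK (perfW.getD 5 (0, [], 0)) = true := by decide +kernel

theorem perf_shape : perfW.map (fun c => (c.1, c.2.1)) = [(0, [7]), (1, [0]), (2, [1]), (3, [1, 7, 7]), (6, [7, 7, 7, 7, 2]), (4, [3])] ∧ wX = [6, 5] := by decide +kernel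

end CfsgLib.KnownC.RuGroup
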