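import Cfsg.Agent.Lib.KnownC.RuGroup.LineCheck
import Cfsg.Agent.Lib.KnownC.RuGroup.SlpData

/-!
# The steps of the computation of the seven generators
-/

set_option autoImplicit false
set_option maxRecDepth 100000
set_option maxHeartbeats 0
set_option Elab.async false

namespace CfsgLib.KnownC.RuGroup

/-- A value of the computation. -/
def slpVal (i : ℕ) : ℕ → ℕ :=
  if i = 0 then tX else if i = 1 then tN else if i = 2 then tB else slpVals.getD (i - 3) (fun _ => 0)

/-- A product of functions, checked. -/
noncomputable def mulK (a b c : ℕ → ℕ) : Bool := (List.range 4060).all fun i => Nat.beq (c i) (a (b i))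

/-- An inverse, checked. -/
noncomputable def invK (a c : ℕ → ℕ) : Bool := (List.range 4060).all fun i => Nat.beq (a (c i)) i && Nat.blt (c i) 4060

/-- The steps in a range are right. -/
noncomputable def stepsK (lo n : ℕ) : Bool :=
  (List.range' lo n).all fun k =>
    let e := slpSteps.getD k (false, 0, 0)
    Nat.blt e.2.1 (k + 3) && Nat.blt e.2.2 (k + 3) &&
      cond e.1 (invK (slpVal e.2.1) (slpVals.getD k (fun _ => 0)))
        (mulK (slpVal e.2.1) (slpVal e.2.2) (slpVals.getD k (fun _ => 0)))

theorem steps0 : stepsK 0 40 = true := by decide +kernel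

theorem steps1 : stepsK 40 40 = true := by decide +kernel

theorem steps2 : stepsK 80 40 = true := by decide +kernel

theorem steps3 : stepsK 120 39 = true := by decide +kernel

theorem slp_len : slpSteps.length = 159 ∧ slpTargets.all (fun t => Nat.blt t 162) = true := by decide +kernel

theorem targets_ok : ((List.range 7).all fun j => (List.range 4060).all fun i =>
    Nat.beq (slpVal (slpTargets.getD j 0) i) (fwdF j i / 4)) = true := by decide +kernel

end CfsgLib.KnownC.RuGroup
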