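import Cfsg.Agent.Lib.KnownC.RuGroup.Code

/-!
# Syndromes of the signs of lattice vectors
-/

set_option autoImplicit false
set_option maxRecDepth 100000
set_option maxHeartbeats 0

namespace CfsgLib.KnownC.RuGroup

open Cfsg.Spor CfsgLib.KnownC.RuLattice

attribute [local irreducible] colP col colR rows bucket wordsC vecsAt hiBits parity basis parP hiP

theorem pop_xor (a b : ℕ) : pop (a ^^^ b) % 2 = (pop a + pop b) % 2 := by
  rw [pop_eq, pop_eq, pop_eq, ← Finset.sum_add_distrib, Finset.sum_nat_mod]
  conv_rhs => rw [Finset.sum_nat_mod]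
  refine congrArg (· % 2) (Finset.sum_congr rfl fun i _ => ?_)
  rw [Nat.testBit_xor]
  cases a.testBit i <;> cases b.testBit i <;> rfl

theorem pop_zero : pop 0 = 0 := by simp [pop_eq]

theorem xs_cons (a : ℕ) (l : List ℕ) : xs (a :: l) = a ^^^ xs l := rfl

theorem xs_append : ∀ l m : List ℕ, xs (l ++ m) = xs l ^^^ xs m
  | [], m => by simp [xs]
  | a :: l, m => by rw [List.cons_append, xs_cons, xs_cons, xs_append l m, Nat.xor_assoc]

theorem xs_perm {l m : List ℕ} (h : l.Perm m) : xs l = xs m := by
  induction h with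
  | nil => rfl
  | cons x _ ih => rw [xs_cons, xs_cons, ih]
  | swap x y l => rw [xs_cons, xs_cons, xs_cons, xs_cons, ← Nat.xor_assoc, Nat.xor_comm y x, Nat.xor_assoc]
  | trans _ _ iha ihb => exact iha.trans ihb

theorem testBit_xs (c : ℕ → ℕ) (j : ℕ) : ∀ L : List ℕ,
    (xs (L.map c)).testBit j = decide ((L.map fun i => ((c i).testBit j).toNat).sum % 2 = 1)
  | [] => by simp [xs]
  | a :: L => by
    rw [List.map_cons, xs_cons, Nat.testBit_xor, testBit_xs c j L, List.map_cons, List.sum_cons]
    rcases Nat.mod_two_eq_zero_or_one (L.map fun i => ((c i).testBit j).toNat).sum with h | h <;>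
      cases (c a).testBit j <;> simp [Nat.add_mod, h]

/-- The second binary digit of a coordinate. -/
def hb (x : RuVec) (i : ℕ) : Bool := decide (2 ≤ co x i % 4)

/-- The coordinates with that digit set. -/
def hL (x : RuVec) : List ℕ := (List.range 56).filter (hb x)

theorem basis_len : basis.length = 56 := by decide +kernel

theorem sum_filter (P : ℕ → Bool) (q : ℕ → ℕ) :
    (((List.range 56).filter P).map q).sum = ∑ i ∈ Finset.range 56, (P i).toNat * q i := by
  have h : ∀ L : List ℕ, ((L.filter P).map q).sum = (L.map fun i => (P i).toNat * q i).sum := by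
    intro L
    induction L with
    | nil => rfl
    | cons a L ih =>
      cases hP : P a
      · rw [List.filter_cons_of_neg (by simp [hP]), List.map_cons, List.sum_cons, hP, ih]; simp
      · rw [List.filter_cons_of_pos hP, List.map_cons, List.map_cons, List.sum_cons, List.sum_cons, hP, ih]; simp
  rw [h]
  rfl

theorem tK_bit {x : RuVec} (hx : x ∈ M) {w : ℕ} (hw : ∀ i < 56, w.testBit i = odd x i) {k : ℕ}
    (hk : k < 56) :
    Nat.ble 2 (tK w k) =
      decide (((hL x).map fun i => ((parity.getD k 0).testBit i).toNat).sum % 2 = 1) := by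
  have hmem : basis.getD k [] ∈ basis := mem_getD (by rw [basis_len]; exact hk)
  have h4 := four_dvd hx hmem
  set b := basis.getD k [] with hb'
  set p := parity.getD k 0 with hp
  set q := hiBits.getD k 0 with hq
  have hbq : ∀ i < 56, b.getD i 0 % 4 = ((p.testBit i).toNat : ℤ) + 2 * ((q.testBit i).toNat : ℤ) := by
    intro i hi
    have h := List.all_eq_true.1 (List.all_eq_true.1 hi_ok k (List.mem_range.2 hk)) i (List.mem_range.2 hi)
    rw [decide_eq_true_eq] at h
    rw [← hb', ← hp, ← hq] at h
    rw [h]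
    cases p.testBit i <;> cases q.testBit i <;> rfl
  rw [hL, sum_filter]
  have hP : (tK w k : ℤ) = ((∑ i ∈ Finset.range 56, (w.testBit i && p.testBit i).toNat : ℕ) +
      2 * (∑ i ∈ Finset.range 56, (w.testBit i && q.testBit i).toNat : ℕ) : ℤ) % 4 := by
    have ht := List.all_eq_true.1 tab_ok k (List.mem_range.2 hk)
    simp only [Bool.and_eq_true, Nat.beq_eq] at ht
    rw [tK, ht.1, ht.2, pop_eq, pop_eq, ← hp, ← hq]
    simp only [show ∀ a b : ℕ, Nat.land a b = a &&& b from fun _ _ => rfl, Nat.testBit_land]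
    push_cast
    ring
  have hdvd : (4 : ℤ) ∣ ((∑ i ∈ Finset.range 56, (w.testBit i && p.testBit i).toNat : ℕ) +
      2 * (∑ i ∈ Finset.range 56, (w.testBit i && q.testBit i).toNat : ℕ) : ℤ) +
      2 * (∑ i ∈ Finset.range 56, (hb x i).toNat * (p.testBit i).toNat : ℕ) := by
    have hB : B x (ofList b) = ∑ i ∈ Finset.range 56, co x i * b.getD i 0 :=
      Finset.sum_congr rfl fun i hi => by rw [co_ofList _ (Finset.mem_range.1 hi)]
    rw [hB] at h4
    push_cast
    rw [Finset.mul_sum, Finset.mul_sum, ← Finset.sum_add_distrib, ← Finset.sum_add_distrib]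
    refine (Int.dvd_iff_dvd_of_dvd_sub ?_).1 h4
    rw [← Finset.sum_sub_distrib]
    refine Finset.dvd_sum fun i hi => ?_
    have hi' := Finset.mem_range.1 hi
    have e := hbq i hi'
    have hm : (co x i * b.getD i 0) % 4 = ((co x i % 4) * (b.getD i 0 % 4)) % 4 := Int.mul_emod _ _ _
    rw [e] at hm
    have h04 := Int.emod_nonneg (co x i) (show (4 : ℤ) ≠ 0 by norm_num)
    have h44 := Int.emod_lt_of_pos (co x i) (show (0 : ℤ) < 4 by norm_num)
    have hodd : odd x i = decide (co x i % 4 = 1 ∨ co x i % 4 = 3) := by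
      simp only [odd, decide_eq_decide]; omega
    rw [hw i hi', hodd]
    simp only [hb]
    generalize co x i * b.getD i 0 = z at hm ⊢
    generalize co x i % 4 = r at hm h04 h44 ⊢
    interval_cases r <;> cases hpi : p.testBit i <;> cases hqi : q.testBit i <;>
      simp [hpi, hqi] at hm ⊢ <;> omega
  have hlt : tK w k < 4 := Nat.mod_lt _ (by norm_num)
  rw [Bool.eq_iff_iff, Nat.ble_eq, decide_eq_true_eq]
  omega

theorem rec_testBit (f : ℕ → Bool) (n j : ℕ) :
    (Nat.rec (motive := fun _ => ℕ) 0 (fun k acc => cond (f k) (Nat.lor acc (Nat.shiftLeft 1 k)) acc) n).testBit j =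
      (decide (j < n) && f j) := by
  induction n with
  | zero => simp
  | succ n ih =>
    show (cond (f n) (Nat.lor _ (Nat.shiftLeft 1 n)) _).testBit j = _
    by_cases hj : j = n
    · subst hj
      cases hf : f j
      · simp only [cond_false]; rw [ih]; simp
      · simp only [cond_true]
        rw [show ∀ a b : ℕ, Nat.lor a b = a ||| b from fun _ _ => rfl, Nat.testBit_lor,
          show Nat.shiftLeft 1 j = 1 <<< j from rfl, Nat.shiftLeft_eq, one_mul, Nat.testBit_two_pow_self]
        simp
    · have e : decide (j < n + 1) = decide (j < n) := by rw [decide_eq_decide]; omega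
      rw [e]
      cases hf : f n
      · simp only [cond_false]; exact ih
      · simp only [cond_true]
        rw [show ∀ a b : ℕ, Nat.lor a b = a ||| b from fun _ _ => rfl, Nat.testBit_lor,
          show Nat.shiftLeft 1 n = 1 <<< n from rfl, Nat.shiftLeft_eq, one_mul,
          Nat.testBit_two_pow_of_ne (Ne.symm hj), Bool.or_false, ih]

theorem syn_eq {x : RuVec} (hx : x ∈ M) {w : ℕ} (hw : ∀ i < 56, w.testBit i = odd x i) {k : ℕ}
    (hk : k < 56) : (syn (hL x)).testBit k = (twK w).testBit k := by
  rw [twK, rec_testBit, decide_eq_true hk, Bool.true_and, syn, testBit_xs, tK_bit hx hw hk]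
  congr 4
  refine List.map_congr_left fun i hi => congrArg Bool.toNat ?_
  have hi' := List.mem_range.1 (List.mem_of_mem_filter hi)
  exact beq_iff_eq.1 (List.all_eq_true.1 (List.all_eq_true.1 col_ok k (List.mem_range.2 hk)) i
    (List.mem_range.2 hi'))

theorem xs_lt {n : ℕ} : ∀ l : List ℕ, (∀ a ∈ l, a < 2 ^ n) → xs l < 2 ^ n
  | [], _ => by simp [xs]
  | a :: l, h => by
    rw [xs_cons]
    exact Nat.xor_lt_two_pow (h a List.mem_cons_self) (xs_lt l fun b hb => h b (List.mem_cons_of_mem _ hb))

theorem synR_eq {x : RuVec} (hx : x ∈ M) {w : ℕ} (hw : ∀ i < 56, w.testBit i = odd x i) :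
    synR (hL x) = twR w := by
  have hc : ∀ i < 56, colR.getD i 0 < 2 ^ 19 ∧ ∀ j < 19, rows.getD j 0 < 56 ∧
      (colR.getD i 0).testBit j = (parity.getD (rows.getD j 0) 0).testBit i := by
    intro i hi
    have h := List.all_eq_true.1 colR_ok i (List.mem_range.2 hi)
    simp only [Bool.and_eq_true, List.all_eq_true, Nat.blt_eq, beq_iff_eq, List.mem_range] at h
    exact h
  refine Nat.eq_of_testBit_eq fun j => ?_
  rw [twR, rec_testBit]
  by_cases hj : j < 19
  · rw [decide_eq_true hj, Bool.true_and, synR, testBit_xs, tK_bit hx hw ((hc 0 (by norm_num)).2 j hj).1]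
    congr 4
    refine List.map_congr_left fun i hi => congrArg Bool.toNat ?_
    exact ((hc i (List.mem_range.1 (List.mem_of_mem_filter hi))).2 j hj).2
  · rw [decide_eq_false hj, Bool.false_and]
    refine Nat.testBit_lt_two_pow (lt_of_lt_of_le (xs_lt _ fun a ha => ?_) (Nat.pow_le_pow_right (by norm_num) (not_lt.1 hj)))
    obtain ⟨i, hi, rfl⟩ := List.mem_map.1 ha
    exact (hc i (List.mem_range.1 (List.mem_of_mem_filter hi))).1

theorem prune_false {tw S s t : ℕ} (ht : ∀ k < 56, (s ^^^ t).testBit k = tw.testBit k)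
    (hS : pop (S &&& t) % 2 = 0) : prune tw S s = false := by
  have h : pop (S &&& (s ^^^ tw)) = pop (S &&& t) := by
    rw [pop_eq, pop_eq]
    refine Finset.sum_congr rfl fun k hk => ?_
    have := ht k (Finset.mem_range.1 hk)
    rw [Nat.testBit_xor] at this
    simp only [Nat.testBit_land, Nat.testBit_xor, ← this]
    cases S.testBit k <;> cases s.testBit k <;> cases t.testBit k <;> rfl
  rw [prune, show Nat.xor s tw = s ^^^ tw from rfl, show ∀ a b : ℕ, Nat.land a b = a &&& b from fun _ _ => rfl,
    h, hS]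
  rfl

theorem pop_land_xs (S : ℕ) : ∀ (c : ℕ → ℕ) (L : List ℕ), (∀ i ∈ L, pop (S &&& c i) % 2 = 0) →
    pop (S &&& xs (L.map c)) % 2 = 0
  | c, [], _ => by simp [xs, pop_zero]
  | c, a :: L, h => by
    rw [List.map_cons, xs_cons, Nat.and_xor_distrib_left, pop_xor]
    have h1 := h a List.mem_cons_self
    have h2 := pop_land_xs S c L fun i hi => h i (List.mem_cons_of_mem _ hi)
    omega

theorem lor_shift (a i j : ℕ) :
    (Nat.lor a (Nat.shiftLeft 1 i)).testBit j = (a.testBit j || decide (i = j)) := by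
  rw [show Nat.lor a (Nat.shiftLeft 1 i) = a ||| 1 <<< i from rfl, Nat.testBit_lor, Nat.shiftLeft_eq,
    one_mul, Nat.testBit_two_pow]

theorem maskL_testBit : ∀ (L : List ℕ) (j : ℕ), (maskL L).testBit j = decide (j ∈ L)
  | [], j => by simp [maskL]
  | a :: L, j => by
    show (Nat.lor (maskL L) (Nat.shiftLeft 1 a)).testBit j = _
    rw [lor_shift, maskL_testBit L j, Bool.eq_iff_iff]
    simp only [Bool.or_eq_true, decide_eq_true_eq, List.mem_cons]
    constructor <;> rintro (h | h)
    exacts [Or.inr h, Or.inl h.symm, Or.inr h.symm, Or.inl h]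

theorem dfs_spec (leaf : ℕ → Bool) (tw : ℕ) (H : ℕ → Bool) : ∀ (l : List (ℕ × ℕ)) (h s : ℕ),
    dfs leaf tw l h s = true → statOK l = true →
    (∀ k < 56, (s ^^^ syn ((l.map Prod.fst).filter H)).testBit k = tw.testBit k) →
    ∃ m, leaf m = true ∧ ∀ j, m.testBit j = (h.testBit j || decide (j ∈ (l.map Prod.fst).filter H))
  | [], h, s, hd, _, _ => ⟨h, hd, fun j => by simp⟩
  | e :: r, h, s, hd, hs, ht => by
    simp only [statOK, Bool.and_eq_true, List.all_eq_true, Nat.beq_eq] at hs
    have hrest : pop (e.2 &&& syn ((r.map Prod.fst).filter H)) % 2 = 0 := by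
      refine pop_land_xs _ _ _ fun i hi => ?_
      obtain ⟨f, hf, rfl⟩ := List.mem_map.1 (List.mem_of_mem_filter hi)
      exact hs.1 f hf
    change cond (cond (prune tw e.2 s) true (dfs leaf tw r h s))
      (cond (prune tw e.2 (Nat.xor s (dig 56 colP e.1))) true
        (dfs leaf tw r (Nat.lor h (Nat.shiftLeft 1 e.1)) (Nat.xor s (dig 56 colP e.1)))) false = true at hd
    rw [List.map_cons] at ht ⊢
    cases hH : H e.1
    · rw [List.filter_cons_of_neg (by simp [hH])] at ht ⊢
      rw [prune_false ht hrest] at hd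
      have hd1 : dfs leaf tw r h s = true := by
        cases h1 : dfs leaf tw r h s
        · simp [h1] at hd
        · rfl
      exact dfs_spec leaf tw H r h s hd1 hs.2 ht
    · rw [List.filter_cons_of_pos (by simp [hH])] at ht ⊢
      have ht' : ∀ k < 56, ((Nat.xor s (dig 56 colP e.1)) ^^^ syn ((r.map Prod.fst).filter H)).testBit k =
          tw.testBit k := by
        intro k hk
        have h1 := ht k hk
        rw [syn, List.map_cons, xs_cons, ← Nat.xor_assoc] at h1
        exact h1
      rw [prune_false ht' hrest] at hd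
      have hd1 : dfs leaf tw r (Nat.lor h (Nat.shiftLeft 1 e.1)) (Nat.xor s (dig 56 colP e.1)) = true := by
        cases h1 : cond (prune tw e.2 s) true (dfs leaf tw r h s)
        · simp [h1] at hd
        · simpa [h1] using hd
      obtain ⟨m, hm, hbit⟩ := dfs_spec leaf tw H r _ _ hd1 hs.2 ht'
      refine ⟨m, hm, fun j => ?_⟩
      rw [hbit, lor_shift, Bool.or_assoc]
      congr 1
      rw [Bool.eq_iff_iff]
      simp only [Bool.or_eq_true, decide_eq_true_eq, List.mem_cons]
      constructor <;> rintro (h | h)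
      exacts [Or.inl h.symm, Or.inr h, Or.inl h.symm, Or.inr h]

end CfsgLib.KnownC.RuGroup
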