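import Cfsg.Agent.Lib.KnownC.RuGroup.LineCheck
import Cfsg.Agent.Lib.KnownC.RuGroup.TitsData
import Cfsg.Agent.Lib.Sporadic.OutCert.Perm
import Cfsg.Agent.Lib.Schur.Tits.Base

/-!
# Checks for the smallest Ree group inside the stabiliser of a line
-/

set_option autoImplicit false
set_option maxRecDepth 100000
set_option maxHeartbeats 0
set_option Elab.async false

namespace CfsgLib.KnownC.RuGroup

/-- The pattern of a line against a few points. -/
noncomputable def sigS (l : ℕ) : ℕ :=
  List.rec 0 (fun q _ v => Nat.add (cond (orthK l q) 1 0) (Nat.mul 2 v)) titS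

theorem tit_left : ((List.range 1755).all fun i =>
    Nat.blt (titL i) 4060 && orthK 0 (titL i) && Nat.beq (titP (titL i)) i) = true := by decide +kernel

theorem tit_right : ((List.range 4060).all fun l =>
    !(orthK 0 l) || (Nat.blt (titP l) 1755 && Nat.beq (titL (titP l)) l)) = true := by decide +kernel

theorem titS_orth : (titS.all fun q => Nat.blt q 4060 && orthK 0 q) = true := by decide +kernel

theorem sepS : sepOK sigS ordS posS = true := by decide +kernel

open CfsgLib.Schur.Sporadic.Tits in
theorem tit_words : ((List.range 4).all fun k => Nat.beq (appW (titW.getD k []) 0) 0 &&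
    (List.range 1755).all fun j => Nat.beq (titP (appW (titW.getD k []) (titL j)))
      (CfsgLib.Sporadic.OutCert.lk 11 (genK.getD k 0) j)) = true := by decide +kernel

end CfsgLib.KnownC.RuGroup
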