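import Cfsg.Agent.Lib.KnownC.RuGroup.Simple
import Cfsg.Agent.Lib.KnownC.RuGroup.TitsCheck
import Cfsg.Agent.Lib.Schur.Tits.Main
import Cfsg.Prelude.Def_Sporadic
import Cfsg.Prelude.Def_Exceptional

/-!
# The Rudvalis group on 4060 points, with the Tits group in a point stabiliser
-/

set_option autoImplicit false
set_option maxRecDepth 100000
set_option maxHeartbeats 0

namespace CfsgLib.KnownC.RuGroup

open Cfsg.Spor CfsgLib.Chevalley.TitsGroup CfsgLib.Schur.Sporadic.Tits
open CfsgLib.Sporadic.OutCert (lk)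

attribute [local irreducible] vecsAt sortV posV sep unitV fwd0 fwd1 fwd2 fwd3 fwd4 fwd5 fwd6 bwd0 bwd1 bwd2 bwd3
  bwd4 bwd5 bwd6 orb0 orb1 orb2 orb3 orb4 orb5 tree0 tree1 tree2 tree3 tree4 tree5 orbBits subO subT subP tX
  titL titP ordS posS genK genKi lk

/-- The Rudvalis group as a group of permutations. -/
noncomputable def permRu : Subgroup (Equiv.Perm (Fin 4060)) := ruHom.range

/-- The Rudvalis group is its group of permutations. -/
noncomputable def permEquiv : Ru ≃* permRu := MonoidHom.ofInjective ruHom_injective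

theorem isRu_perm : Cfsg.IsRu permRu := by
  haveI := isSimple
  exact ⟨permEquiv.symm.isSimpleGroup, by rw [← Nat.card_congr permEquiv.toEquiv, card_Ru]⟩

instance pretransitive_perm : MulAction.IsPretransitive permRu (Fin 4060) := by
  refine MulAction.IsPretransitive.mk fun l m => ?_
  obtain ⟨g, hg⟩ := MulAction.exists_smul_eq Ru l m
  exact ⟨⟨ruHom g, g, rfl⟩, hg⟩

theorem card_stab : Nat.card (MulAction.stabilizer permRu (0 : Fin 4060)) = 35942400 := by
  have h := Nat.card_congr (MulAction.orbitProdStabilizerEquivGroup permRu (0 : Fin 4060))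
  rw [Nat.card_prod, MulAction.orbit_eq_univ, Nat.card_univ, Nat.card_fin,
    ← Nat.card_congr permEquiv.toEquiv, card_Ru] at h
  omega

/-- The stabiliser of the first line. -/
abbrev Stab : Type := ↥(MulAction.stabilizer permRu (0 : Fin 4060))

/-- The permutation of the lines. -/
abbrev toP (g : Stab) : Equiv.Perm (Fin 4060) := ((g : permRu) : Equiv.Perm (Fin 4060))

theorem toP_zero (g : Stab) : toP g 0 = 0 := g.2

theorem toP_pres (g : Stab) : Pres (toP g) := by
  obtain ⟨c, hc⟩ := (g : permRu).2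
  show Pres ((g : permRu) : Equiv.Perm (Fin 4060))
  rw [← hc]
  exact pres_ruHom c

/-- The line of a point. -/
noncomputable def tl (i : Fin 1755) : Fin 4060 := ⟨titL i, by
  have h := List.all_eq_true.1 tit_left i (List.mem_range.2 i.2)
  simp only [Bool.and_eq_true, Nat.blt_eq] at h
  exact h.1.1⟩

theorem orth_tl (i : Fin 1755) : orthK 0 (tl i) = true ∧ titP (tl i : ℕ) = i := by
  have h := List.all_eq_true.1 tit_left i (List.mem_range.2 i.2)
  simp only [Bool.and_eq_true, Nat.beq_eq] at h
  exact ⟨h.1.2, h.2⟩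

theorem tl_inj : Function.Injective tl := fun i j h => Fin.ext (by rw [← (orth_tl i).2, h, (orth_tl j).2])

theorem exists_tl {l : Fin 4060} (h : orthK 0 l = true) : ∃ i, tl i = l ∧ (i : ℕ) = titP (l : ℕ) := by
  have h' := List.all_eq_true.1 tit_right l (List.mem_range.2 l.2)
  simp only [h, Bool.not_true, Bool.false_or, Bool.and_eq_true, Nat.blt_eq, Nat.beq_eq] at h'
  exact ⟨⟨_, h'.1⟩, Fin.ext h'.2, rfl⟩

theorem orth_moved (g : Stab) (i : Fin 1755) : orthK 0 (toP g (tl i)) = true := by
  have h := toP_pres g 0 (tl i)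
  rw [toP_zero] at h
  exact h.trans (orth_tl i).1

/-- The image of a point. -/
noncomputable def ptImg (g : Stab) (i : Fin 1755) : Fin 1755 := (exists_tl (orth_moved g i)).choose

theorem tl_ptImg (g : Stab) (i : Fin 1755) : tl (ptImg g i) = toP g (tl i) :=
  (exists_tl (orth_moved g i)).choose_spec.1

theorem ptImg_mul (g h : Stab) (i : Fin 1755) : ptImg (g * h) i = ptImg g (ptImg h i) :=
  tl_inj (by rw [tl_ptImg, tl_ptImg, tl_ptImg]; rfl)

theorem ptImg_one (i : Fin 1755) : ptImg 1 i = i := tl_inj (tl_ptImg 1 i)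

/-- The stabiliser on the 1755 points. -/
noncomputable def stabPerm : Stab →* Equiv.Perm (Fin 1755) where
  toFun g :=
    { toFun := ptImg g
      invFun := ptImg g⁻¹
      left_inv := fun i => by rw [← ptImg_mul, inv_mul_cancel, ptImg_one]
      right_inv := fun i => by rw [← ptImg_mul, mul_inv_cancel, ptImg_one] }
  map_one' := Equiv.ext ptImg_one
  map_mul' g h := Equiv.ext (ptImg_mul g h)

theorem stabPerm_injective : Function.Injective stabPerm := by
  rw [← MonoidHom.ker_eq_bot_iff, Subgroup.eq_bot_iff_forall]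
  intro g hg
  have hfix : ∀ q ∈ titS, ∀ hq : q < 4060, toP g ⟨q, hq⟩ = ⟨q, hq⟩ := by
    intro q hm hq
    have h := List.all_eq_true.1 titS_orth q hm
    simp only [Bool.and_eq_true] at h
    obtain ⟨i, hi, -⟩ := exists_tl (l := ⟨q, hq⟩) h.2
    rw [← hi, ← tl_ptImg]
    exact congrArg tl (DFunLike.congr_fun (MonoidHom.mem_ker.1 hg) i)
  have hpat : ∀ (l : Fin 4060) (M : List ℕ), (∀ q ∈ M, q < 4060 ∧ q ∈ titS) →
      (List.rec 0 (fun q _ v => Nat.add (cond (orthK (toP g l) q) 1 0) (Nat.mul 2 v)) M : ℕ) =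
        List.rec 0 (fun q _ v => Nat.add (cond (orthK l q) 1 0) (Nat.mul 2 v)) M := by
    intro l M
    induction M with
    | nil => intro _; rfl
    | cons q M ih =>
      intro hM
      obtain ⟨hq, hm⟩ := hM q List.mem_cons_self
      have h := toP_pres g l ⟨q, hq⟩
      rw [hfix q hm hq] at h
      simp only [h, ih fun x hx => hM x (List.mem_cons_of_mem _ hx)]
  refine Subtype.ext (Subtype.ext (Equiv.ext fun l => Fin.ext ?_))
  refine sep_inj sepS (Fin.is_lt _) l.2 (hpat l titS fun q hq => ⟨?_, hq⟩)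
  have h := List.all_eq_true.1 titS_orth q hq
  simp only [Bool.and_eq_true, Nat.blt_eq] at h
  exact h.1

theorem mem_range_gen (k : Fin 4) : psiT (gT k) ∈ stabPerm.range := by
  have h := List.all_eq_true.1 tit_words k.val (List.mem_range.2 k.2)
  simp only [Bool.and_eq_true, Nat.beq_eq, List.all_eq_true, List.mem_range] at h
  set w := titW.getD k.val [] with hw
  let p : permRu := ⟨lineAct (wordG w), QuotientGroup.mk (wordG w), rfl⟩
  have h0 : p • (0 : Fin 4060) = 0 := Fin.ext ((appW_spec w 0).symm.trans h.1)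
  refine ⟨⟨p, h0⟩, Equiv.ext fun i => Fin.ext ?_⟩
  have e := appW_spec w (tl i)
  have h2 : (stabPerm ⟨p, h0⟩ i : ℕ) = titP ((lineAct (wordG w) (tl i) : Fin 4060) : ℕ) := by
    rw [← (orth_tl _).2]
    exact congrArg (fun l : Fin 4060 => titP (l : ℕ)) (tl_ptImg ⟨p, h0⟩ i)
  rw [h2, ← e, show ((tl i : Fin 4060) : ℕ) = titL i from rfl, h.2 i i.2]
  exact rep_gen k i

theorem psi_range_le : psi.range ≤ stabPerm.range := by
  rintro _ ⟨x, rfl⟩
  have h : psiT.range ≤ stabPerm.range := by
    rw [MonoidHom.range_eq_map psiT, ← closure_gT, MonoidHom.map_closure, Subgroup.closure_le]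
    rintro _ ⟨_, ⟨k, rfl⟩, rfl⟩
    exact mem_range_gen k
  exact h ⟨_, rfl⟩

/-- The Tits group in the stabiliser. -/
noncomputable def titsSub : Subgroup Stab := psi.range.comap stabPerm

/-- It is the Tits group. -/
noncomputable def titsEquiv : titsSub ≃* T :=
  (titsSub.equivMapOfInjective stabPerm stabPerm_injective).trans
    ((MulEquiv.subgroupCongr (Subgroup.map_comap_eq_self psi_range_le)).trans
      (MonoidHom.ofInjective psi_injective).symm)

theorem isTits_sub : Cfsg.IsTits titsSub := by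
  haveI := isSimple_T
  exact ⟨@MulEquiv.isSimpleGroup _ _ T _ isSimple_T titsEquiv, by rw [Nat.card_congr titsEquiv.toEquiv, card_T]⟩

theorem realisation : ∃ H : Subgroup (Equiv.Perm (Fin 4060)), Cfsg.IsRu H ∧ MulAction.IsPretransitive H (Fin 4060) ∧
    Nat.card (MulAction.stabilizer H (0 : Fin 4060)) = 35942400 ∧
      ∃ T : Subgroup (MulAction.stabilizer H (0 : Fin 4060)), Cfsg.IsTits T :=
  ⟨permRu, isRu_perm, inferInstance, card_stab, titsSub, isTits_sub⟩

end CfsgLib.KnownC.RuGroup
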