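import Cfsg.Agent.Lib.KnownC.RuGroup.Vec

/-!
# Multiplication of the numbered vectors by `i`
-/

set_option autoImplicit false
set_option maxRecDepth 100000
set_option maxHeartbeats 0

namespace CfsgLib.KnownC.RuGroup

open Cfsg.Spor CfsgLib.KnownC.RuLattice

theorem co_gI_lo (x : RuVec) {j : ℕ} (hj : j < 28) : co (gI • x) j = -co x (28 + j) := by
  simp [co, hj, gI, Zsqrtd.re_mul]

theorem co_gI_hi (x : RuVec) {j : ℕ} (hj : j < 28) : co (gI • x) (28 + j) = co x j := by
  simp [co, hj, gI, Zsqrtd.im_mul]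

/-- A triple multiplied by `i`. -/
def turn (t : ℕ × ℕ × ℕ) : ℕ × ℕ × ℕ := ((rot 1 t.1 t.2.1).1, (rot 1 t.1 t.2.1).2, t.2.2)

theorem high_bit {a : ℕ} (ha : a < 2 ^ 56) (j : ℕ) : a.testBit (28 + (28 + j)) = false :=
  Nat.testBit_lt_two_pow (lt_of_lt_of_le ha (Nat.pow_le_pow_right (by norm_num) (by omega)))

theorem turn_bits {t : ℕ × ℕ × ℕ} (hp : t.1 < 2 ^ 56) (hn : t.2.1 < 2 ^ 56) {j : ℕ} (hj : j < 28) :
    (turn t).1.testBit j = t.2.1.testBit (28 + j) ∧ (turn t).1.testBit (28 + j) = t.1.testBit j ∧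
    (turn t).2.1.testBit j = t.1.testBit (28 + j) ∧ (turn t).2.1.testBit (28 + j) = t.2.1.testBit j := by
  simp only [turn, rot, show Nat.beq 1 0 = false from rfl, Nat.beq_refl, Bool.false_eq_true, if_false, if_true, lo28,
    show ∀ a b : ℕ, Nat.lor a b = a ||| b from fun _ _ => rfl, Nat.testBit_lor,
    show ∀ a b : ℕ, Nat.shiftRight a b = a >>> b from fun _ _ => rfl, Nat.testBit_shiftRight,
    show ∀ a b : ℕ, Nat.mul a b = a * b from fun _ _ => rfl, show (268435456 : ℕ) = 2 ^ 28 by norm_num,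
    Nat.testBit_two_pow_mul, Nat.testBit_mod_two_pow, high_bit hp, high_bit hn]
  simp [show ¬ 28 ≤ j by omega, show 28 ≤ 28 + j by omega, hj]

theorem coT_turn {t : ℕ × ℕ × ℕ} (hp : t.1 < 2 ^ 56) (hn : t.2.1 < 2 ^ 56) (ht : tOK t = true) {j : ℕ}
    (hj : j < 28) : coT (turn t) j = -coT t (28 + j) ∧ coT (turn t) (28 + j) = coT t j := by
  obtain ⟨h1, h2, h3, h4⟩ := turn_bits hp hn hj
  have hd : ∀ i, ¬ (t.1.testBit i = true ∧ t.2.1.testBit i = true) := by
    intro i ⟨e1, e2⟩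
    simp only [tOK, Bool.and_eq_true, Nat.beq_eq] at ht
    have h := congrArg (Nat.testBit · i) ht.1.1
    simp only [show ∀ a b : ℕ, Nat.land a b = a &&& b from fun _ _ => rfl, Nat.testBit_land, Nat.zero_testBit, e1, e2] at h
    simp at h
  have hm : (turn t).2.2 = t.2.2 := rfl
  simp only [coT, h1, h2, h3, h4, hm]
  refine ⟨?_, trivial⟩
  have := hd (28 + j)
  cases ha : t.1.testBit (28 + j) <;> cases hb : t.2.1.testBit (28 + j) <;> simp_all

theorem turn_ok : ((List.range 4060).all fun l =>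
    (List.range 4).all fun k =>
      let t := decode (vecsAt l) k
      let s := turn t
      let r := decode (vecsAt l) ((k + 1) % 4)
      Nat.blt t.1 72057594037927936 && Nat.blt t.2.1 72057594037927936 &&
        (Nat.beq r.1 s.1 && Nat.beq r.2.1 s.2.1 && Nat.beq r.2.2 s.2.2)) = true := by decide +kernel

/-- The next multiple. -/
def succU (u : ℕ) : ℕ := 4 * (u / 4) + (u % 4 + 1) % 4

theorem trip_succ {u : ℕ} (hu : u < 16240) :
    trip (succU u) = turn (trip u) ∧ (trip u).1 < 2 ^ 56 ∧ (trip u).2.1 < 2 ^ 56 := by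
  have h := turn_ok
  simp only [List.all_eq_true, List.mem_range, Bool.and_eq_true, Nat.blt_eq, Nat.beq_eq] at h
  obtain ⟨⟨h1, h2⟩, ⟨h3, h4⟩, h5⟩ := h (u / 4) (by omega) (u % 4) (by omega)
  have e1 : succU u / 4 = u / 4 := by unfold succU; omega
  have e2 : succU u % 4 = (u % 4 + 1) % 4 := by unfold succU; omega
  have e : (72057594037927936 : ℕ) = 2 ^ 56 := by norm_num
  rw [e] at h1 h2
  refine ⟨?_, h1, h2⟩
  rw [trip, e1, e2]
  exact Prod.ext h3 (Prod.ext h4 h5)

attribute [local irreducible] vecsAt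

theorem succU_lt {u : ℕ} (hu : u < 16240) : succU u < 16240 := by unfold succU; omega

theorem vec_succ {u : ℕ} (hu : u < 16240) : vec (succU u) = gI • vec u := by
  obtain ⟨h1, h2, h3⟩ := trip_succ hu
  refine ext_co fun i hi => ?_
  rcases lt_or_ge i 28 with h | h
  · rw [co_gI_lo _ h, co_vec _ hi, co_vec _ (by omega), h1]
    exact (coT_turn h2 h3 (trip_ok hu) h).1
  · obtain ⟨j, rfl⟩ : ∃ j, i = 28 + j := ⟨i - 28, by omega⟩
    rw [co_gI_hi _ (by omega), co_vec _ hi, co_vec _ (by omega), h1]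
    exact (coT_turn h2 h3 (trip_ok hu) (by omega)).2

end CfsgLib.KnownC.RuGroup
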