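import Cfsg.Agent.Lib.KnownC.RuLattice.Main
import Cfsg.Agent.Lib.KnownC.RuGroup.Bits
import Cfsg.Agent.Lib.KnownC.RuGroup.VecData

/-!
# The numbered shortest vectors of the Conway-Wales lattice and their products
-/

set_option autoImplicit false
set_option maxRecDepth 100000
set_option maxHeartbeats 0
set_option Elab.async false

namespace CfsgLib.KnownC.RuGroup

open Cfsg.Spor CfsgLib.KnownC.RuLattice

/-- The packed data of a line. -/
def lineD (l : ℕ) : ℕ := vecsAt l

/-- The low part of a mask of real coordinates. -/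
def lo28 (x : ℕ) : ℕ := x % 268435456

/-- The masks of positive and of negative coordinates after multiplication by a power of `i`. -/
def rot (k p n : ℕ) : ℕ × ℕ :=
  if Nat.beq k 0 then (p, n)
  else if Nat.beq k 1 then
    (Nat.lor (Nat.shiftRight n 28) (Nat.mul 268435456 (lo28 p)),
      Nat.lor (Nat.shiftRight p 28) (Nat.mul 268435456 (lo28 n)))
  else if Nat.beq k 2 then (n, p)
  else (Nat.lor (Nat.shiftRight p 28) (Nat.mul 268435456 (lo28 n)),
      Nat.lor (Nat.shiftRight n 28) (Nat.mul 268435456 (lo28 p)))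

/-- The data of a vector from the data of its line. -/
def decode (d k : ℕ) : ℕ × ℕ × ℕ :=
  let r := rot k (d % 72057594037927936) (Nat.shiftRight d 56 % 72057594037927936)
  (r.1, r.2, if Nat.beq (Nat.shiftRight d 112) 1 then 4 else 1)

/-- Positive coordinates, negative coordinates and absolute value of the numbered vector. -/
def trip (u : ℕ) : ℕ × ℕ × ℕ := decode (lineD (u / 4)) (u % 4)

/-- The coordinates of a triple. -/
def coT (t : ℕ × ℕ × ℕ) (i : ℕ) : ℤ :=
  if t.1.testBit i then (t.2.2 : ℤ) else if t.2.1.testBit i then -(t.2.2 : ℤ) else 0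

/-- The vector of a triple. -/
def vecT (t : ℕ × ℕ × ℕ) : RuVec := ofList ((List.range 56).map (coT t))

/-- The numbered vector. -/
def vec (u : ℕ) : RuVec := vecT (trip u)

theorem co_vecT (t : ℕ × ℕ × ℕ) {i : ℕ} (hi : i < 56) : co (vecT t) i = coT t i := by
  rw [vecT, co_ofList _ hi, List.getD_eq_getElem _ _ (by simpa using hi)]
  simp

/-- The masks of a triple side by side. -/
def wide (p n : ℕ) : ℕ := Nat.lor p (Nat.shiftLeft n 56)

/-- The product shifted by 4096. -/
noncomputable def bT (a b : ℕ × ℕ × ℕ) : ℕ :=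
  Prod.rec (fun p t => Prod.rec (fun n m => Prod.rec (fun q s => Prod.rec (fun r k =>
    4096 + m * k * popD (Nat.land (wide p n) (wide q r)) - m * k * popD (Nat.land (wide p n) (wide r q)))
      s) b) t) a

/-- The form on numbered vectors, shifted by 4096. -/
noncomputable def bK (u v : ℕ) : ℕ := bT (trip u) (trip v)

/-- A triple is proper. -/
def tOK (t : ℕ × ℕ × ℕ) : Bool :=
  Nat.beq (Nat.land t.1 t.2.1) 0 && (Nat.beq t.2.2 1 || Nat.beq t.2.2 4) &&
    (Nat.blt t.1 0x100000000000000 && Nat.blt t.2.1 0x100000000000000)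

theorem bT_eq {a b : ℕ × ℕ × ℕ} (ha : tOK a = true) (hb : tOK b = true) :
    (bT a b : ℤ) = B (vecT a) (vecT b) + 4096 := by
  obtain ⟨p, n, m⟩ := a
  obtain ⟨q, r, k⟩ := b
  simp only [tOK, Bool.and_eq_true, Bool.or_eq_true, Nat.beq_eq, Nat.blt_eq,
    show (0x100000000000000 : ℕ) = 2 ^ 56 by norm_num] at ha hb
  obtain ⟨⟨hpn, hm⟩, hp, hn⟩ := ha
  obtain ⟨⟨hqr, hk⟩, hq, hr⟩ := hb
  have hd : ∀ i, ¬ (p.testBit i = true ∧ n.testBit i = true) ∧ ¬ (q.testBit i = true ∧ r.testBit i = true) := by
    intro i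
    have h1 := congrArg (Nat.testBit · i) hpn
    have h2 := congrArg (Nat.testBit · i) hqr
    simp only [Nat.zero_testBit] at h1 h2
    constructor
    · rintro ⟨e1, e2⟩
      rw [show Nat.land p n = p &&& n from rfl, Nat.testBit_land, e1, e2] at h1
      simp at h1
    · rintro ⟨e1, e2⟩
      rw [show Nat.land q r = q &&& r from rfl, Nat.testBit_land, e1, e2] at h2
      simp at h2
  have hpop : ∀ x y z w : ℕ, x < 2 ^ 56 → z < 2 ^ 56 → popD (Nat.land (wide x y) (wide z w)) =
      ∑ i ∈ Finset.range 56, ((x.testBit i && z.testBit i).toNat + (y.testBit i && w.testBit i).toNat) := by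
    intro x y z w hx hz
    rw [popD_eq, show (112 : ℕ) = 56 + 56 from rfl, Finset.sum_range_add, Finset.sum_add_distrib]
    have hw : ∀ a c j : ℕ, a < 2 ^ 56 →
        (wide a c).testBit j = (a.testBit j || (decide (56 ≤ j) && c.testBit (j - 56))) := fun a c j _ => by
      rw [wide, show Nat.lor a (Nat.shiftLeft c 56) = a ||| c <<< 56 from rfl, Nat.testBit_lor, Nat.testBit_shiftLeft]
    refine congrArg₂ (· + ·) ?_ ?_
    · refine Finset.sum_congr rfl fun i hi => ?_
      have hi' := Finset.mem_range.1 hi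
      rw [show ∀ a c : ℕ, Nat.land a c = a &&& c from fun _ _ => rfl, Nat.testBit_land, hw _ _ _ hx, hw _ _ _ hz]
      simp [show ¬ 56 ≤ i by omega]
    · refine Finset.sum_congr rfl fun i _ => ?_
      rw [show ∀ a c : ℕ, Nat.land a c = a &&& c from fun _ _ => rfl, Nat.testBit_land, hw _ _ _ hx, hw _ _ _ hz,
        Nat.testBit_lt_two_pow (lt_of_lt_of_le hx (Nat.pow_le_pow_right (by norm_num) (by omega))),
        Nat.testBit_lt_two_pow (lt_of_lt_of_le hz (Nat.pow_le_pow_right (by norm_num) (by omega)))]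
      simp
  have hle : m * k * popD (Nat.land (wide p n) (wide r q)) ≤ 4096 := by
    have hm' : m ≤ 4 := by rcases hm with h | h <;> omega
    have hk' : k ≤ 4 := by rcases hk with h | h <;> omega
    calc m * k * popD (Nat.land (wide p n) (wide r q)) ≤ 4 * 4 * 112 :=
          Nat.mul_le_mul (Nat.mul_le_mul hm' hk') (by rw [popD_eq]; exact bits_le _ _)
      _ ≤ 4096 := by norm_num
  unfold bT
  dsimp only
  rw [Nat.cast_sub (le_trans hle (Nat.le_add_right _ _)), hpop p n q r hp hq, hpop p n r q hp hr]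
  push_cast
  rw [Finset.mul_sum, Finset.mul_sum, add_sub_assoc, ← Finset.sum_sub_distrib, add_comm]
  refine congrArg (· + (4096 : ℤ)) ?_
  refine Finset.sum_congr rfl fun i hi => ?_
  rw [co_vecT _ (Finset.mem_range.1 hi), co_vecT _ (Finset.mem_range.1 hi)]
  obtain ⟨h1, h2⟩ := hd i
  simp only [coT]
  cases hp : p.testBit i <;> cases hn : n.testBit i <;> cases hq : q.testBit i <;> cases hr : r.testBit i <;>
    simp_all <;> ring

/-- Every numbered triple is proper. -/
theorem trips_ok : ((List.range 4060).all fun l => (List.range 4).all fun k =>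
    tOK (decode (vecsAt l) k)) = true := by decide +kernel

attribute [local irreducible] vecsAt

theorem trip_ok {u : ℕ} (hu : u < 16240) : tOK (trip u) = true := by
  have h := trips_ok
  simp only [List.all_eq_true, List.mem_range] at h
  exact h (u / 4) (by omega) (u % 4) (by omega)

theorem bK_eq {u v : ℕ} (hu : u < 16240) (hv : v < 16240) : (bK u v : ℤ) = B (vec u) (vec v) + 4096 :=
  bT_eq (trip_ok hu) (trip_ok hv)

theorem co_vec (u : ℕ) {i : ℕ} (hi : i < 56) : co (vec u) i = coT (trip u) i := co_vecT _ hi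

theorem ext_co {x y : RuVec} (h : ∀ i < 56, co x i = co y i) : x = y := by
  funext p
  obtain ⟨n, t⟩ := p
  have hj : 4 * n.val + t.val < 28 := by omega
  have e : idx (4 * n.val + t.val) = (n, t) := by
    simp only [idx, Prod.mk.injEq, Fin.ext_iff, Fin.val_ofNat]
    omega
  refine Zsqrtd.ext ?_ ?_
  · have h1 := h _ (by omega : 4 * n.val + t.val < 56)
    simpa [co, hj, e] using h1
  · have h1 := h (28 + (4 * n.val + t.val)) (by omega)
    simpa [co, show ¬ 28 + (4 * n.val + t.val) < 28 by omega, e] using h1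

end CfsgLib.KnownC.RuGroup
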