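import Cfsg.Agent.Lib.KnownC.RuGroup.Code

/-!
# The weights of the code words, part 0
-/

set_option autoImplicit false
set_option maxRecDepth 100000
set_option maxHeartbeats 0
set_option Elab.async false

namespace CfsgLib.KnownC.RuGroup

theorem wchunk0 : allSub wordK [9442236628784390, 204098993691143, 16492674478080, 9483059756241671, 31157174162755860, 1047894714257424, 3581169514090512, 10295440360652805, 1165106725830674, 31002552386732054, 3097217588380178, 9344725838479361, 22502063842099731, 35196470611165185, 48900841555640342] 0 = true := by decide +kernel

theorem wchunk1 : allSub wordK [9442236628784390, 204098993691143, 16492674478080, 9483059756241671, 31157174162755860, 1047894714257424, 3581169514090512, 10295440360652805, 1165106725830674, 31002552386732054, 3097217588380178, 9344725838479361, 22502063842099731, 35196470611165185, 48900841555640342] 27757887237723030 = true := by decide +kernel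

theorem wchunk2 : allSub wordK [9442236628784390, 204098993691143, 16492674478080, 9483059756241671, 31157174162755860, 1047894714257424, 3581169514090512, 10295440360652805, 1165106725830674, 31002552386732054, 3097217588380178, 9344725838479361, 22502063842099731, 35196470611165185, 48900841555640342] 11130531263615301 = true := by decide +kernel

theorem wchunk3 : allSub wordK [9442236628784390, 204098993691143, 16492674478080, 9483059756241671, 31157174162755860, 1047894714257424, 3581169514090512, 10295440360652805, 1165106725830674, 31002552386732054, 3097217588380178, 9344725838479361, 22502063842099731, 35196470611165185, 48900841555640342] 19446572578505427 = true := by decide +kernel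

theorem wchunk4 : allSub wordK [9442236628784390, 204098993691143, 16492674478080, 9483059756241671, 31157174162755860, 1047894714257424, 3581169514090512, 10295440360652805, 1165106725830674, 31002552386732054, 3097217588380178, 9344725838479361, 22502063842099731, 35196470611165185, 48900841555640342] 21979676205498417 = true := by decide +kernel

theorem wchunk5 : allSub wordK [9442236628784390, 204098993691143, 16492674478080, 9483059756241671, 31157174162755860, 1047894714257424, 3581169514090512, 10295440360652805, 1165106725830674, 31002552386732054, 3097217588380178, 9344725838479361, 22502063842099731, 35196470611165185, 48900841555640342] 12538559617880999 = true := by decide +kernel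

theorem wchunk6 : allSub wordK [9442236628784390, 204098993691143, 16492674478080, 9483059756241671, 31157174162755860, 1047894714257424, 3581169514090512, 10295440360652805, 1165106725830674, 31002552386732054, 3097217588380178, 9344725838479361, 22502063842099731, 35196470611165185, 48900841555640342] 29727834824036724 = true := by decide +kernel

theorem wchunk7 : allSub wordK [9442236628784390, 204098993691143, 16492674478080, 9483059756241671, 31157174162755860, 1047894714257424, 3581169514090512, 10295440360652805, 1165106725830674, 31002552386732054, 3097217588380178, 9344725838479361, 22502063842099731, 35196470611165185, 48900841555640342] 3097221883347682 = true := by decide +kernel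

end CfsgLib.KnownC.RuGroup
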